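import Cfsg.Agent.ThreeFour.Local.Fpf
import Cfsg.Agent.ThreeFour.Module.Main
import Cfsg.Agent.Coprime.Sylow
import Cfsg.Agent.PGroups.Basic

/-!
The character argument applied to an abelian subgroup acting on a two-subgroup.
-/

set_option autoImplicit false
set_option linter.unusedSectionVars false
set_option linter.style.haveILetI false

namespace Cfsg.Lib.ThreeFour

open Subgroup
open Cfsg.Lib.SelfCentThree (Inv P3)
open scoped IsMulCommutative

universe u

variable {G : Type u} [Group G] {x : G} {V : Subgroup G}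

/-- Automorphisms as additive endomorphisms. -/
def toEnd (M : Type u) [Group M] : MulAut M →* AddMonoid.End (Additive M) where
  toFun a := MonoidHom.toAdditive a.toMonoidHom
  map_one' := AddMonoidHom.ext fun _ => rfl
  map_mul' _ _ := AddMonoidHom.ext fun _ => rfl

/-- The action of the normaliser on the Frattini quotient. -/
noncomputable def quotAct (Q : Subgroup G) : normalizer (Q : Set G) →* MulAut (Q ⧸ frattini Q) where
  toFun a := QuotientGroup.congr (frattini Q) (frattini Q) (Q.normalizerMonoidHom a)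
    (characteristic_iff_map_eq.mp frattini_characteristic (Q.normalizerMonoidHom a))
  map_one' := by
    ext y
    obtain ⟨y, rfl⟩ := QuotientGroup.mk'_surjective (frattini Q) y
    show QuotientGroup.mk' _ (Q.normalizerMonoidHom 1 y) = QuotientGroup.mk' _ y
    rw [map_one]; rfl
  map_mul' a b := by
    ext y
    obtain ⟨y, rfl⟩ := QuotientGroup.mk'_surjective (frattini Q) y
    show QuotientGroup.mk' _ (Q.normalizerMonoidHom (a * b) y) =
      QuotientGroup.mk' _ (Q.normalizerMonoidHom a (Q.normalizerMonoidHom b y))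
    rw [map_mul]; rfl

theorem quotAct_mk {Q : Subgroup G} (n : normalizer (Q : Set G)) (q : Q) :
    quotAct Q n (QuotientGroup.mk q) = QuotientGroup.mk (Q.normalizerMonoidHom n q) := rfl

theorem normalizerMonoidHom_coe {Q : Subgroup G} (n : normalizer (Q : Set G)) (q : Q) :
    (Q.normalizerMonoidHom n q : G) = (n : G) * q * (n : G)⁻¹ := rfl

/-- The action of the normaliser by additive endomorphisms. -/
noncomputable def endAct (Q : Subgroup G) :
    normalizer (Q : Set G) →* AddMonoid.End (Additive (Q ⧸ frattini Q)) :=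
  (toEnd (Q ⧸ frattini Q)).comp (quotAct Q)

theorem endAct_apply {Q : Subgroup G} (n : normalizer (Q : Set G)) (w : Additive (Q ⧸ frattini Q)) :
    endAct Q n w = Additive.ofMul (quotAct Q n w.toMul) := rfl

variable [Finite G]

/-- What acts trivially on the Frattini quotient and has odd order centralises `Q`. -/
theorem centralizes_of_endAct {Q A : Subgroup G} (hQ : IsPGroup 2 Q) (hAQ : A ≤ normalizer (Q : Set G))
    (hA2 : ¬ 2 ∣ Nat.card A) (htriv : ∀ a (ha : a ∈ A), endAct Q ⟨a, hAQ ha⟩ = 1) :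
    A ≤ centralizer (Q : Set G) := by
  haveI : Fact (Nat.Prime 2) := ⟨Nat.prime_two⟩
  refine Cfsg.Lib.Coprime.le_centralizer_of_frattini hAQ ?_ fun a ha k hk => ?_
  · obtain ⟨n, hn⟩ := IsPGroup.iff_card.1 (hQ.to_subgroup (frattini Q))
    rw [hn]
    exact Nat.Coprime.pow_right _ (Nat.prime_two.coprime_iff_not_dvd.2 hA2).symm
  · have h1 := congrArg (fun f : AddMonoid.End _ => (f (Additive.ofMul (QuotientGroup.mk (⟨k, hk⟩ : Q)))).toMul)
      (htriv a ha)
    simp only [endAct_apply, toMul_ofMul, quotAct_mk] at h1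
    have h2 : (QuotientGroup.mk (Q.normalizerMonoidHom ⟨a, hAQ ha⟩ ⟨k, hk⟩) : Q ⧸ frattini Q) =
        QuotientGroup.mk ⟨k, hk⟩ := h1
    rw [eq_comm, QuotientGroup.eq] at h2
    haveI : (frattini Q).Normal := inferInstance
    refine ⟨(Q.normalizerMonoidHom ⟨a, hAQ ha⟩ ⟨k, hk⟩) * (⟨k, hk⟩ : Q)⁻¹, ?_, ?_⟩
    · exact Subgroup.Normal.mem_comm inferInstance h2
    · simp [normalizerMonoidHom_coe]

/-- The fixed points of `x` on the Frattini quotient are the images of those in `Q`. -/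
theorem exists_fixed_lift (h : Hyp x V) {Q : Subgroup G} (hQ : IsPGroup 2 Q)
    (hxQ : x ∈ normalizer (Q : Set G)) {w : Q ⧸ frattini Q} (hw : quotAct Q ⟨x, hxQ⟩ w = w) :
    ∃ u : Q, (u : G) ∈ V ∧ QuotientGroup.mk u = w := by
  haveI : Fact (Nat.Prime 2) := ⟨Nat.prime_two⟩
  obtain ⟨k, rfl⟩ := QuotientGroup.mk_surjective w
  set F := (frattini Q).map Q.subtype with hF
  have hFn : normalizer (Q : Set G) ≤ normalizer (F : Set G) := fun g hg => by
    have hh : ∀ g ∈ normalizer (Q : Set G), ∀ y ∈ F, g * y * g⁻¹ ∈ F := by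
      rintro g hg - ⟨y, hy, rfl⟩
      exact ⟨Q.normalizerMonoidHom ⟨g, hg⟩ y, (characteristic_iff_map_eq.mp (frattini_characteristic (G := Q))
        (Q.normalizerMonoidHom ⟨g, hg⟩)).le ⟨y, hy, rfl⟩, rfl⟩
    exact Cfsg.Lib.Coprime.mem_normalizer_of_conj_mem (hh g hg) fun y hy => by
      simpa using hh _ (inv_mem hg) y hy
  have hQ3 : P3 Q := fun h3 => by
    obtain ⟨n, hn⟩ := IsPGroup.iff_card.1 hQ
    rw [hn] at h3
    have := Nat.prime_three.dvd_of_dvd_pow h3
    omega
  rw [quotAct_mk, eq_comm, QuotientGroup.eq] at hw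
  have hxk : x * k * x⁻¹ * (k : G)⁻¹ ∈ F :=
    ⟨Q.normalizerMonoidHom ⟨x, hxQ⟩ k * k⁻¹, Subgroup.Normal.mem_comm inferInstance hw,
      by simp [normalizerMonoidHom_coe]⟩
  obtain ⟨n, hn, hc⟩ := Cfsg.Lib.Coprime.exists_fixed_of_commutator_mem (A := zpowers x) (N := F)
    (zpowers_le.2 (hFn hxQ)) (coprime_zpowers h (hQ3.anti (map_subtype_le _))) (Or.inl (solvable_zpowers x))
    (hFn (le_normalizer k.2)) (fun a ha => by
      rcases h.mem_three ha with rfl | rfl | rfl
      · simp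
      · exact hxk
      · have h1 := (mem_normalizer_iff.1 (inv_mem (hFn hxQ)) _).1 (inv_mem hxk)
        simpa [mul_assoc] using h1)
  obtain ⟨f, hf, rfl⟩ := hn
  refine ⟨k * f, mem_V_of_fixed h hQ3 (k * f).2 ((mem_centralizer_iff.1 hc) x (mem_zpowers x)).symm, ?_⟩
  rw [QuotientGroup.eq]
  simpa using hf

/-- The data of the character argument. -/
theorem bridge (h : Hyp x V) {Q A : Subgroup G} [IsMulCommutative A]
    [IsMulCommutative (Q ⧸ frattini Q)] (hQ : IsPGroup 2 Q)
    (hxQ : x ∈ normalizer (Q : Set G)) (hA : Fpf x A) (hA2 : ¬ 2 ∣ Nat.card A)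
    (hAQ : A ≤ normalizer (Q : Set G)) :
    Mod.Data (W := Additive (Q ⧸ frattini Q)) (P := A) ((endAct Q).comp (inclusion hAQ)) (endAct Q ⟨x, hxQ⟩) hA.hom := by
  haveI : Fact (Nat.Prime 2) := ⟨Nat.prime_two⟩
  refine ⟨fun w => ?_, hA2, hA.p3 h, ?_, fun a => congrFun (hA.hom_cube h) a, hA.hom_fpf, fun a => ?_, ?_⟩
  · show Additive.ofMul (w.toMul * w.toMul) = 0
    rw [← pow_two, Cfsg.Lib.PGroups.pow_prime_quotient_frattini hQ]; rfl
  · rw [← map_mul, ← map_mul, ← map_one (endAct Q)]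
    exact congrArg _ (Subtype.ext (by simpa [pow_succ] using h.pow3))
  · rw [MonoidHom.comp_apply, MonoidHom.comp_apply, ← map_mul, ← map_mul]
    exact congrArg _ (Subtype.ext (by simp [Fpf.hom, inclusion]))
  · classical
    have hV4 : Nat.card V ≤ 4 := by rcases h.card with e | e <;> omega
    set S := {w : Additive (Q ⧸ frattini Q) // endAct Q ⟨x, hxQ⟩ w = w}
    have hf : ∀ w : S, ∃ u : V, ∃ hu : (u : G) ∈ Q,
        Additive.ofMul (QuotientGroup.mk (⟨u, hu⟩ : Q) : Q ⧸ frattini Q) = w.1 := fun w => by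
      obtain ⟨q, hqV, hq⟩ := exists_fixed_lift h hQ hxQ (w := w.1.toMul) (congrArg Additive.toMul w.2)
      exact ⟨⟨q, hqV⟩, q.2, congrArg Additive.ofMul hq⟩
    choose f hfQ hf using hf
    refine le_trans (Nat.card_le_card_of_injective f fun a b e => Subtype.ext ?_) hV4
    have e' : (⟨(f a : G), hfQ a⟩ : Q) = ⟨(f b : G), hfQ b⟩ := Subtype.ext (congrArg (fun z : V => (z : G)) e)
    rw [← hf a, ← hf b, e']

/-- An element of the normalisers of `Q` and `A` of order two centralising the fixed points. -/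
theorem bridge_outer (h : Hyp x V) {Q A : Subgroup G} [IsMulCommutative A]
    [IsMulCommutative (Q ⧸ frattini Q)] (hQ : IsPGroup 2 Q)
    (hxQ : x ∈ normalizer (Q : Set G)) (hAQ : A ≤ normalizer (Q : Set G)) {e : G} (he2 : e * e = 1)
    (heV : ∀ u ∈ V, Commute e u) (heQ : e ∈ normalizer (Q : Set G)) (heA : e ∈ normalizer (A : Set G)) :
    Mod.Outer (W := Additive (Q ⧸ frattini Q)) (P := A) ((endAct Q).comp (inclusion hAQ)) (endAct Q ⟨x, hxQ⟩) (endAct Q ⟨e, heQ⟩)
      ((A.normalizerMonoidHom ⟨e, heA⟩).toMonoidHom) := by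
  refine ⟨?_, fun a => ?_, fun a => ?_, fun w hw => ?_⟩
  · rw [← map_mul, ← map_one (endAct Q)]
    exact congrArg _ (Subtype.ext he2)
  · rw [MonoidHom.comp_apply, MonoidHom.comp_apply, ← map_mul, ← map_mul]
    exact congrArg _ (Subtype.ext (by simp [inclusion, normalizerMonoidHom_coe]))
  · refine Subtype.ext ?_
    simp only [MulEquiv.coe_toMonoidHom, normalizerMonoidHom_coe]
    rw [show e * (e * (a : G) * e⁻¹) * e⁻¹ = (e * e) * a * (e * e)⁻¹ by group, he2, inv_one, mul_one, one_mul]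
  · obtain ⟨u, huV, hu⟩ := exists_fixed_lift h hQ hxQ (w := w.toMul) (congrArg Additive.toMul hw)
    rw [endAct_apply, ← hu, quotAct_mk]
    refine (congrArg Additive.ofMul (congrArg _ (Subtype.ext ?_))).trans (congrArg Additive.ofMul hu)
    rw [normalizerMonoidHom_coe]
    show e * (u : G) * e⁻¹ = u
    rw [(heV _ huV).eq, mul_inv_cancel_right]

/-- An abelian subgroup of odd order, normalised by `x` and by an involution inverting `x`, centralises every
two-subgroup which all of them normalise. -/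
theorem centralizes_of_inverted (h : Hyp x V) {Q A : Subgroup G} (hQ : IsPGroup 2 Q)
    (hxQ : x ∈ normalizer (Q : Set G)) (hA : Fpf x A) (hAc : ∀ a ∈ A, ∀ b ∈ A, Commute a b)
    (hA2 : ¬ 2 ∣ Nat.card A) (hAQ : A ≤ normalizer (Q : Set G)) {σ : G} (hσ : Tau x V σ)
    (hσQ : σ ∈ normalizer (Q : Set G)) (hσA : σ ∈ normalizer (A : Set G)) :
    A ≤ centralizer (Q : Set G) := by
  haveI : IsMulCommutative A := ⟨⟨fun a b => Subtype.ext (hAc a a.2 b b.2).eq⟩⟩
  letI := Cfsg.Lib.PGroups.isMulCommutative_quotient_frattini (hp := ⟨Nat.prime_two⟩) hQ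
  have hD := bridge h hQ hxQ hA hA2 hAQ
  have hO := bridge_outer h hQ hxQ hAQ hσ.sq hσ.fix hσQ hσA
  have hxx : σ * x = x * x * σ := by
    rw [h.mul_self, ← hσ.conj, inv_mul_cancel_right]
  refine centralizes_of_endAct hQ hAQ hA2 fun a ha => ?_
  refine hD.inverted hO ?_ (fun b => Subtype.ext ?_) ⟨a, ha⟩
  · rw [← map_mul, ← map_mul, ← map_mul]
    exact congrArg _ (Subtype.ext hxx)
  · show σ * (x * (b : G) * x⁻¹) * σ⁻¹ = x * (x * (σ * (b : G) * σ⁻¹) * x⁻¹) * x⁻¹
    rw [show σ * (x * (b : G) * x⁻¹) * σ⁻¹ = (σ * x) * b * (σ * x)⁻¹ by group, hxx]; group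

/-- An element of `V` normalising `Q` and `A` centralises the image of `A` in the automorphisms of `Q`. -/
theorem commutator_centralizes_of_central (h : Hyp x V) {Q A : Subgroup G} (hQ : IsPGroup 2 Q)
    (hxQ : x ∈ normalizer (Q : Set G)) (hA : Fpf x A) (hAc : ∀ a ∈ A, ∀ b ∈ A, Commute a b)
    (hA2 : ¬ 2 ∣ Nat.card A) (hAQ : A ≤ normalizer (Q : Set G)) {u : G} (huV : u ∈ V)
    (huQ : u ∈ normalizer (Q : Set G)) (huA : u ∈ normalizer (A : Set G)) {a : G} (ha : a ∈ A) :
    u * a * u⁻¹ * a⁻¹ ∈ centralizer (Q : Set G) := by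
  haveI : IsMulCommutative A := ⟨⟨fun a b => Subtype.ext (hAc a a.2 b b.2).eq⟩⟩
  letI := Cfsg.Lib.PGroups.isMulCommutative_quotient_frattini (hp := ⟨Nat.prime_two⟩) hQ
  have hD := bridge h hQ hxQ hA hA2 hAQ
  have hO := bridge_outer h hQ hxQ hAQ (h.sq u huV) (fun w hw => h.comm_V huV hw) huQ huA
  have hux := (h.comm u huV).eq
  set c : A → A := fun a => ⟨u * a * u⁻¹ * (a : G)⁻¹,
    mul_mem ((mem_normalizer_iff.1 huA _).1 a.2) (inv_mem a.2)⟩ with hc
  have hA' : closure (Set.range fun a : A => (c a : G)) ≤ A := closure_le _ |>.2 (by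
    rintro _ ⟨a, rfl⟩; exact (c a).2)
  refine centralizes_of_endAct hQ (hA'.trans hAQ) (fun h2 => hA2 (h2.trans (card_dvd_of_le hA'))) ?_
    (subset_closure ⟨⟨a, ha⟩, rfl⟩)
  have key : ∀ b : A, endAct Q (inclusion hAQ (c b)) = 1 := fun b => by
    have h1 := hD.central hO (by
      rw [← map_mul, ← map_mul]; exact congrArg _ (Subtype.ext hux)) (fun y => Subtype.ext (by
      show u * (x * (y : G) * x⁻¹) * u⁻¹ = x * (u * (y : G) * u⁻¹) * x⁻¹
      rw [show u * (x * (y : G) * x⁻¹) * u⁻¹ = (u * x) * y * (u * x)⁻¹ by group, hux]; group)) b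
    have e : c b = (A.normalizerMonoidHom ⟨u, huA⟩ b) * b⁻¹ := Subtype.ext (by
      simp [hc, normalizerMonoidHom_coe])
    simp only [MonoidHom.comp_apply, MulEquiv.coe_toMonoidHom] at h1
    rw [e, map_mul, map_mul, h1, ← map_mul, ← map_mul, mul_inv_cancel, map_one, map_one]
  intro d hd
  have : ∀ d (hd : d ∈ closure (Set.range fun a : A => (c a : G))),
      endAct Q ⟨d, hAQ (hA' hd)⟩ = 1 := fun d hd => by
    induction hd using Subgroup.closure_induction with
    | mem d hd => obtain ⟨b, rfl⟩ := hd; exact key b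
    | one => exact map_one _
    | mul p q hp hq h1 h2 =>
      rw [show (⟨p * q, _⟩ : normalizer (Q : Set G)) = ⟨p, hAQ (hA' hp)⟩ * ⟨q, hAQ (hA' hq)⟩ from rfl,
        map_mul, h1, h2, one_mul]
    | inv p hp h1 =>
      have h2 := map_mul (endAct Q) ⟨p, hAQ (hA' hp)⟩⁻¹ ⟨p, hAQ (hA' hp)⟩
      rw [inv_mul_cancel, map_one, h1, mul_one] at h2
      exact h2.symm
  exact this d hd

end Cfsg.Lib.ThreeFour
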