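import Cfsg.Agent.ThreeFour.Local.Top
import Cfsg.Agent.Small.Order168
import Cfsg.Agent.Small.Toolkit

/-!
An invariant subgroup of odd prime-power order outside the core of the top, and the triviality of
fixed-point-free two-factors.
-/

set_option autoImplicit false
set_option linter.unusedSectionVars false
set_option linter.style.haveILetI false

namespace Cfsg.Lib.ThreeFour

open Subgroup
open Cfsg.Lib.SelfCentThree (Inv P3)
open scoped commutatorElement

universe u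

variable {G : Type u} [Group G] {x : G} {V H K L : Subgroup G}

theorem Top.leH (T : Top x V H K L) : K ≤ H := T.leK.trans T.leL

theorem Top.mem_normK (T : Top x V H K L) : x ∈ normalizer (K : Set G) := T.normK (T.leL T.mem)

variable [Finite G]

/-- The prime of the top. -/
noncomputable def topPrime (K L : Subgroup G) : ℕ := if Nat.card L = 168 * Nat.card K then 7 else 13

theorem Top.topPrime_cases (T : Top x V H K L) :
    topPrime K L = 7 ∧ Nat.card L = 168 * Nat.card K ∨ topPrime K L = 13 ∧ Nat.card L = 1092 * Nat.card K := by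
  unfold topPrime
  rcases T.index with ⟨e, -⟩ | ⟨e, -⟩
  · exact Or.inl ⟨if_pos e, e⟩
  · refine Or.inr ⟨if_neg fun e' => ?_, e⟩
    have := Nat.card_pos (α := K)
    omega

theorem Top.topPrime_prime (T : Top x V H K L) : (topPrime K L).Prime := by
  rcases T.topPrime_cases with ⟨e, -⟩ | ⟨e, -⟩ <;> rw [e] <;> norm_num

/-- A cyclic subgroup of order three fixes a point of a set whose size is prime to three. -/
theorem exists_invariant_of_count {Q : Type*} [Group Q] [Finite Q] {y : Q} (hy : orderOf y = 3) {p : ℕ}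
    [Fact p.Prime] (hc : ¬ 3 ∣ Nat.card (Sylow p Q)) : ∃ P : Sylow p Q, y • P = P := by
  haveI : Fact (Nat.Prime 3) := ⟨Nat.prime_three⟩
  have h3 : IsPGroup 3 (zpowers y) := IsPGroup.of_card (n := 1) (by rw [Nat.card_zpowers, hy, pow_one])
  obtain ⟨P, hP⟩ := h3.nonempty_fixed_point_of_prime_not_dvd_card (Sylow p Q) hc
  exact ⟨P, hP ⟨y, mem_zpowers y⟩⟩

theorem Top.normal_subgroupOf (T : Top x V H K L) : (K.subgroupOf L).Normal :=
  (normal_subgroupOf_iff_le_normalizer T.leK).2 (T.leL.trans T.normK)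

/-- The quotient `L / K` is simple. -/
theorem Top.isSimple_quot (h : Hyp x V) (T : Top x V H K L) [(K.subgroupOf L).Normal] :
    IsSimpleGroup (L ⧸ K.subgroupOf L) := by
  set N := L ⧸ K.subgroupOf L
  set f := QuotientGroup.mk' (K.subgroupOf L) with hf
  set y := f ⟨x, T.mem⟩
  have hy : orderOf y = 3 := orderOf_eq_prime (hp := ⟨Nat.prime_three⟩) (by
    rw [← map_pow, show (⟨x, T.mem⟩ : L) ^ 3 = 1 from Subtype.ext h.pow3, map_one]) fun e =>
      T.x_not_mem h (mem_subgroupOf.1 ((QuotientGroup.eq_one_iff _).1 e) : x ∈ K)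
  haveI : Nontrivial N := ⟨⟨y, 1, fun e => by rw [e, orderOf_one] at hy; omega⟩⟩
  refine ⟨fun M hM => ?_⟩
  haveI := hM
  set R := (M.comap f).map L.subtype with hR
  have hmem : ∀ a : L, (a : G) ∈ R ↔ f a ∈ M := fun a =>
    ⟨fun ⟨b, hb, e⟩ => L.subtype_injective e ▸ hb, fun e => ⟨a, e, rfl⟩⟩
  rcases T.simple R (map_subtype_le _) (fun a ha => (hmem ⟨a, T.leK ha⟩).2 (by
      rw [show f ⟨a, T.leK ha⟩ = 1 from (QuotientGroup.eq_one_iff _).2 (mem_subgroupOf.2 ha)]; exact M.one_mem))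
      le_normalizer_map_subtype with e | e
  · refine Or.inl (eq_bot_iff.2 fun m hm => mem_bot.2 ?_)
    obtain ⟨a, rfl⟩ := QuotientGroup.mk'_surjective _ m
    exact (QuotientGroup.eq_one_iff a).2 (mem_subgroupOf.2 (e ▸ (hmem a).2 hm))
  · refine Or.inr (eq_top_iff.2 fun m _ => ?_)
    obtain ⟨a, rfl⟩ := QuotientGroup.mk'_surjective _ m
    exact (hmem a).1 (e.symm ▸ a.2)

/-- Large subgroups of a top of order 168 are everything. -/
theorem Top.eq_of_large (h : Hyp x V) (T : Top x V H K L) (h168 : Nat.card L = 168 * Nat.card K)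
    {R : Subgroup G} (hKR : K ≤ R) (hRL : R ≤ L) (hc : 24 * Nat.card K < Nat.card R) : R = L := by
  haveI := T.normal_subgroupOf
  haveI := T.isSimple_quot h
  set f := QuotientGroup.mk' (K.subgroupOf L) with hf
  have hKc : Nat.card (K.subgroupOf L) = Nat.card K := Nat.card_congr (subgroupOfEquivOfLe T.leK).toEquiv
  have hq : Nat.card (L ⧸ K.subgroupOf L) = 168 := by
    have h1 := Subgroup.card_eq_card_quotient_mul_card_subgroup (K.subgroupOf L)
    rw [hKc, h168] at h1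
    exact (Nat.eq_of_mul_eq_mul_right Nat.card_pos h1).symm
  set R' := (R.subgroupOf L).map f with hR'
  have hcm : R'.comap f = R.subgroupOf L := by
    rw [hR', comap_map_eq, hf, QuotientGroup.ker_mk', sup_eq_left]
    exact fun a ha => mem_subgroupOf.2 (hKR (mem_subgroupOf.1 ha))
  have hR'c : Nat.card R = Nat.card K * Nat.card R' := by
    rw [← Nat.card_congr (subgroupOfEquivOfLe hRL).toEquiv, ← hcm, hf, Cfsg.Lib.Coprime.card_comap_mk', hKc]
  by_contra hne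
  have h24 := Cfsg.Lib.Small.Order168.card_le_of_ne_top hq (M := R') fun e => hne (le_antisymm hRL fun a ha => by
    have : (⟨a, ha⟩ : L) ∈ R'.comap f := by rw [e]; exact mem_top _
    rw [hcm] at this
    exact mem_subgroupOf.1 this)
  rw [hR'c, mul_comm] at hc
  exact absurd (Nat.mul_le_mul_left (Nat.card K) h24) (not_le.2 hc)

/-- An invariant subgroup of order a power of the top prime outside the core. -/
theorem Top.exists_odd (h : Hyp x V) (T : Top x V H K L) :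
    ∃ P : Subgroup G, P ≤ L ∧ IsPGroup (topPrime K L) P ∧ Fpf x P ∧ ¬ P ≤ K := by
  set p := topPrime K L with hp
  haveI : Fact p.Prime := ⟨T.topPrime_prime⟩
  have hLn : L ≤ normalizer (K : Set G) := T.leL.trans T.normK
  haveI : (K.subgroupOf L).Normal := (normal_subgroupOf_iff_le_normalizer T.leK).2 hLn
  set N := L ⧸ K.subgroupOf L
  set f := QuotientGroup.mk' (K.subgroupOf L) with hf
  have hKc : Nat.card (K.subgroupOf L) = Nat.card K := Nat.card_congr (subgroupOfEquivOfLe T.leK).toEquiv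
  have hNc : Nat.card L = Nat.card N * Nat.card K := by
    rw [← hKc]; exact Subgroup.card_eq_card_quotient_mul_card_subgroup _
  set y := f ⟨x, T.mem⟩
  have hy : orderOf y = 3 := orderOf_eq_prime (hp := ⟨Nat.prime_three⟩) (by
    rw [← map_pow, show (⟨x, T.mem⟩ : L) ^ 3 = 1 from Subtype.ext h.pow3, map_one]) fun e =>
      T.x_not_mem h (mem_subgroupOf.1 ((QuotientGroup.eq_one_iff _).1 e) : x ∈ K)
  haveI : IsSimpleGroup N := T.isSimple_quot h
  have hnc : ¬ ∀ a b : N, a * b = b * a := fun hab => by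
    letI : CommGroup N := { (inferInstance : Group N) with mul_comm := hab }
    have := IsSimpleGroup.prime_card (α := N)
    have h0 := Nat.card_pos (α := K)
    rcases T.index with ⟨e, -⟩ | ⟨e, -⟩ <;> rw [e] at hNc <;>
      rw [← Nat.eq_of_mul_eq_mul_right h0 hNc] at this <;> norm_num at this
  have hc : ¬ 3 ∣ Nat.card (Sylow p N) := by
    have h0 := Nat.card_pos (α := K)
    rcases T.topPrime_cases with ⟨e, e'⟩ | ⟨e, e'⟩ <;> rw [e'] at hNc <;>
      have hN := (Nat.eq_of_mul_eq_mul_right h0 hNc).symm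
    · haveI : Fact (Nat.Prime 7) := ⟨by norm_num⟩
      rw [hp, e, Cfsg.Lib.Small.Order168.card_sylow_seven hN]; norm_num
    · haveI : Fact (Nat.Prime 13) := ⟨by norm_num⟩
      rw [hp, e]
      obtain ⟨P⟩ : Nonempty (Sylow 13 N) := inferInstance
      obtain ⟨h1, h2⟩ := Cfsg.Lib.Small.sylow_facts P (a := 1) (m := 84) (by rw [hN]; norm_num) (by norm_num)
      have h3 := Cfsg.Lib.Small.card_sylow_ne_one (p := 13) hnc (by rw [hN]; norm_num)
      have hle : Nat.card (Sylow 13 N) ≤ 84 := Nat.le_of_dvd (by norm_num) h1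
      generalize Nat.card (Sylow 13 N) = n at h1 h2 h3 hle
      interval_cases n <;> omega
  obtain ⟨P₀, hP₀⟩ := exists_invariant_of_count hy hc
  set R := ((P₀ : Subgroup N).comap f).map L.subtype with hR
  have hRL : R ≤ L := map_subtype_le _
  have hRI : Inv x R := by
    rintro _ ⟨a, ha, rfl⟩
    refine ⟨⟨x, T.mem⟩ * a * ⟨x, T.mem⟩⁻¹, ?_, by simp⟩
    show f (⟨x, T.mem⟩ * a * ⟨x, T.mem⟩⁻¹) ∈ (P₀ : Subgroup N)
    rw [map_mul, map_mul, map_inv]
    have : y * f a * y⁻¹ ∈ ((y • P₀ : Sylow p N) : Subgroup N) := by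
      rw [Sylow.coe_subgroup_smul]; exact ⟨f a, ha, rfl⟩
    rwa [hP₀] at this
  have hRc : Nat.card R = Nat.card K * Nat.card P₀ := by
    rw [hR, card_map_of_injective L.subtype_injective, hf, Cfsg.Lib.Coprime.card_comap_mk', hKc]
  have hp3 : p ≠ 3 ∧ p ≠ 2 := by rcases T.topPrime_cases with ⟨e, -⟩ | ⟨e, -⟩ <;> rw [← hp] at e <;> omega
  have hP₀1 : p ∣ Nat.card P₀ := P₀.dvd_card_of_dvd_card (by
    have h0 := Nat.card_pos (α := K)
    rcases T.topPrime_cases with ⟨e, e'⟩ | ⟨e, e'⟩ <;> rw [e'] at hNc <;>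
      rw [hp, e, ← Nat.eq_of_mul_eq_mul_right h0 hNc] <;> norm_num)
  obtain ⟨k, hk⟩ := IsPGroup.iff_card.1 P₀.2
  have hR3 : P3 R := by
    rw [P3, hRc]
    intro h3
    rcases (Nat.Prime.dvd_mul Nat.prime_three).1 h3 with e | e
    · exact T.three e
    · rw [show Nat.card P₀ = Nat.card (P₀ : Subgroup N) from rfl, hk] at e
      exact hp3.1 ((Nat.prime_dvd_prime_iff_eq Nat.prime_three Fact.out).1 (Nat.prime_three.dvd_of_dvd_pow e)).symm
  obtain ⟨P, hPR, -, hPp, hPI, hPc⟩ := exists_inv_sylow_ge h hRI hR3 p (bot_le : (⊥ : Subgroup G) ≤ R)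
    IsPGroup.of_bot (fun r hr => by rw [mem_bot.1 hr]; simp)
  refine ⟨P, hPR.trans hRL, hPp, fpf_of h hPI (hR3.anti hPR) ?_, fun hle => ?_⟩
  · refine eq_bot_iff.2 fun r hr => mem_bot.2 ?_
    obtain ⟨j, hj⟩ := IsPGroup.iff_orderOf.1 hPp ⟨r, hr.1⟩
    rw [Subgroup.orderOf_mk] at hj
    have h2 : orderOf r ∣ 2 := orderOf_dvd_of_pow_eq_one (by rw [pow_two]; exact h.sq r hr.2)
    have h1 : orderOf r ∣ Nat.gcd 2 (p ^ j) := Nat.dvd_gcd h2 (hj ▸ dvd_rfl)
    rw [Nat.Coprime.gcd_eq_one (Nat.Coprime.pow_right _ ((Nat.coprime_primes Nat.prime_two Fact.out).2 hp3.2.symm))] at h1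
    exact orderOf_eq_one_iff.1 (Nat.dvd_one.1 h1)
  · have hd := card_dvd_of_le hle
    rw [hPc, hRc] at hd
    have h1 : p * p ^ (Nat.card K).factorization p ∣ p ^ (Nat.card K * Nat.card P₀).factorization p := by
      rw [← pow_succ', Nat.factorization_mul Nat.card_pos.ne' Nat.card_pos.ne', Finsupp.add_apply]
      refine pow_dvd_pow _ (Nat.add_le_add_left ?_ _)
      exact (Fact.out : p.Prime).factorization_pos_of_dvd Nat.card_pos.ne' hP₀1
    have h2 := (Nat.Prime.pow_dvd_iff_le_factorization Fact.out Nat.card_pos.ne').1 ((pow_succ' p _).symm ▸ h1.trans hd)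
    omega

/-- A two-factor on which `x` acts without fixed points is trivial. -/
theorem Top.no_fpf_factor (h : Hyp x V) (T : Top x V H K L) {D Z : Subgroup G} (hDZ : D ≤ Z) (hZH : Z ≤ H)
    (hZ2 : IsPGroup 2 Z) (hD : H ≤ normalizer (D : Set G)) (hZ : H ≤ normalizer (Z : Set G))
    (hfix : Z ⊓ V ≤ D) : Z = D := by
  obtain ⟨P, hPL, hPp, hPf, hPK⟩ := T.exists_odd h
  set p := topPrime K L
  haveI : Fact p.Prime := ⟨T.topPrime_prime⟩
  have hp3 : p ≠ 3 ∧ p ≠ 2 := by rcases T.topPrime_cases with ⟨e, -⟩ | ⟨e, -⟩ <;> omega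
  have hPH : P ≤ H := hPL.trans T.leL
  have hxH : x ∈ H := T.leL T.mem
  set R := Z ⊔ P with hR
  have hRH : R ≤ H := sup_le hZH hPH
  have hRI : Inv x R := Cfsg.Lib.SelfCentThree.Inv.sup (SelfCentThree.inv_of_mem_normalizer (hZ hxH)) hPf.inv
  have hZ3 : P3 Z := fun h3 => by
    obtain ⟨n, hn⟩ := IsPGroup.iff_card.1 hZ2
    rw [hn] at h3
    have := Nat.prime_three.dvd_of_dvd_pow h3
    omega
  have hR3 : P3 R := fun h3 => by
    have h1 := Cfsg.Lib.Coprime.card_sup_mul_card_inf (N := Z) (hPH.trans hZ)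
    rcases (Nat.Prime.dvd_mul Nat.prime_three).1 (h1 ▸ h3.mul_right _ : 3 ∣ Nat.card Z * Nat.card P) with e | e
    · exact hZ3 e
    · exact hPf.p3 h e
  have hRV : ∀ r ∈ R, r ∈ V → r ∈ D := by
    intro r hr hrV
    refine hfix ⟨?_, hrV⟩
    have hr' : r ∈ ((P ⊔ Z : Subgroup G) : Set G) := by rw [sup_comm]; exact hr
    rw [Subgroup.coe_mul_of_left_le_normalizer_right _ _ (hPH.trans hZ)] at hr'
    obtain ⟨b, hb, z, hz, rfl⟩ := hr'
    have h2 := h.sq _ hrV
    have hb2 : b * b ∈ Z := by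
      rw [show b * b = (b * (z⁻¹ : G) * b⁻¹) * ((b * z * (b * z)) : G) * ((z⁻¹ : G)) by group, h2, mul_one]
      exact mul_mem (((mem_set_normalizer_iff.1 (hZ (hPH hb))) _).1 (inv_mem hz)) (inv_mem hz)
    obtain ⟨i, hi⟩ := IsPGroup.iff_orderOf.1 hPp ⟨b, hb⟩
    obtain ⟨j, hj⟩ := IsPGroup.iff_orderOf.1 hZ2 ⟨b * b, hb2⟩
    rw [Subgroup.orderOf_mk] at hi hj
    have h3 : orderOf (b * b) ∣ p ^ i := by
      rw [← hi, ← pow_two]; exact orderOf_pow_dvd 2
    have h4 : orderOf (b * b) ∣ Nat.gcd (p ^ i) (2 ^ j) := Nat.dvd_gcd h3 (hj ▸ dvd_rfl)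
    rw [Nat.Coprime.gcd_eq_one (Nat.Coprime.pow _ _ ((Nat.coprime_primes Fact.out Nat.prime_two).2 hp3.2))] at h4
    have h5 : orderOf b ∣ Nat.gcd (p ^ i) 2 := Nat.dvd_gcd (hi ▸ dvd_rfl)
      (orderOf_dvd_of_pow_eq_one (by rw [pow_two]; exact orderOf_eq_one_iff.1 (Nat.dvd_one.1 h4)))
    rw [Nat.Coprime.gcd_eq_one (Nat.Coprime.pow_left _ ((Nat.coprime_primes Fact.out Nat.prime_two).2 hp3.2))] at h5
    show b * z ∈ Z
    rw [orderOf_eq_one_iff.1 (Nat.dvd_one.1 h5), one_mul]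
    exact hz
  -- the quotient `R / D`
  have hDR : D ≤ R := hDZ.trans le_sup_left
  haveI : (D.subgroupOf R).Normal := (normal_subgroupOf_iff_le_normalizer hDR).2 (hRH.trans hD)
  set Dq := D.subgroupOf R
  let c : R →* R := {
    toFun := fun r => ⟨x * r * x⁻¹, hRI r r.2⟩
    map_one' := Subtype.ext (by simp)
    map_mul' := fun a b => Subtype.ext (by simp) }
  let φ : R ⧸ Dq →* R ⧸ Dq := QuotientGroup.map Dq Dq c fun r hr =>
    mem_subgroupOf.2 (((mem_set_normalizer_iff.1 (hD hxH)) (r : G)).1 (mem_subgroupOf.1 hr))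
  have hφm : ∀ r : R, φ (QuotientGroup.mk r) = QuotientGroup.mk (c r) := fun r => rfl
  have hφ : MonoidHom.FixedPointFree φ := by
    intro q hq
    obtain ⟨r, rfl⟩ := QuotientGroup.mk_surjective q
    rw [hφm, eq_comm, QuotientGroup.eq] at hq
    have hc1 : x * (r : G) * x⁻¹ * (r : G)⁻¹ ∈ D := by
      have h1 : (r : G)⁻¹ * (x * r * x⁻¹) ∈ D := mem_subgroupOf.1 hq
      have h2 := ((mem_set_normalizer_iff.1 (hD (hRH r.2))) _).1 h1
      rwa [show (r : G) * ((r : G)⁻¹ * (x * r * x⁻¹)) * (r : G)⁻¹ = x * r * x⁻¹ * (r : G)⁻¹ by group] at h2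
    obtain ⟨n, hn, hcn⟩ := Cfsg.Lib.Coprime.exists_fixed_of_commutator_mem (A := zpowers x) (N := D)
      (zpowers_le.2 (hD hxH)) (coprime_zpowers h (hZ3.anti hDZ)) (Or.inl (solvable_zpowers x))
      (hD (hRH r.2)) (fun a ha => by
        rcases h.mem_three ha with rfl | rfl | rfl
        · simp
        · exact hc1
        · have h1 := ((mem_set_normalizer_iff.1 (inv_mem (hD hxH))) _).1 (inv_mem hc1)
          simpa [mul_assoc] using h1)
    have hV := mem_V_of_fixed h hR3 (mul_mem r.2 (hDR hn)) (mem_centralizer_zpowers_iff.1 hcn)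
    have h1 := hRV _ (mul_mem r.2 (hDR hn)) hV
    exact (QuotientGroup.eq_one_iff r).2 (mem_subgroupOf.2 (by
      have := mul_mem h1 (inv_mem hn); rwa [mul_inv_cancel_right] at this))
  have hφ3 : φ^[3] = _root_.id := by
    funext q
    obtain ⟨r, rfl⟩ := QuotientGroup.mk_surjective q
    show φ (φ (φ (QuotientGroup.mk r))) = QuotientGroup.mk r
    rw [hφm, hφm, hφm]
    refine congrArg QuotientGroup.mk (Subtype.ext ?_)
    show x * (x * (x * (r : G) * x⁻¹) * x⁻¹) * x⁻¹ = r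
    rw [h.conj_conj]; group
  haveI := Cfsg.Lib.Thompson.isNilpotent_of_fpf φ hφ Nat.prime_three hφ3
  haveI : Fact (Nat.Prime 2) := ⟨Nat.prime_two⟩
  have hcomm : ∀ a ∈ P, ∀ z ∈ Z, a * z * a⁻¹ * z⁻¹ ∈ D := by
    intro a ha z hz
    have hap : ∃ i, orderOf (QuotientGroup.mk' Dq ⟨a, mem_sup_right ha⟩) = p ^ i := by
      obtain ⟨i, hi⟩ := IsPGroup.iff_orderOf.1 hPp ⟨a, ha⟩
      rw [Subgroup.orderOf_mk] at hi
      have := orderOf_map_dvd (QuotientGroup.mk' Dq) (⟨a, mem_sup_right ha⟩ : R)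
      rw [Subgroup.orderOf_mk, hi] at this
      obtain ⟨l, -, e⟩ := (Nat.dvd_prime_pow Fact.out).1 this
      exact ⟨l, e⟩
    have hzp : ∃ i, orderOf (QuotientGroup.mk' Dq ⟨z, mem_sup_left hz⟩) = 2 ^ i := by
      obtain ⟨i, hi⟩ := IsPGroup.iff_orderOf.1 hZ2 ⟨z, hz⟩
      rw [Subgroup.orderOf_mk] at hi
      have := orderOf_map_dvd (QuotientGroup.mk' Dq) (⟨z, mem_sup_left hz⟩ : R)
      rw [Subgroup.orderOf_mk, hi] at this
      obtain ⟨l, -, e⟩ := (Nat.dvd_prime_pow Nat.prime_two).1 this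
      exact ⟨l, e⟩
    have hc := Cfsg.Lib.SolvStruct.commute_of_coprime_of_nilpotent hp3.2 hap hzp
    have : ((⟨a, mem_sup_right ha⟩ : R) * ⟨z, mem_sup_left hz⟩ * (⟨a, mem_sup_right ha⟩ : R)⁻¹ *
        (⟨z, mem_sup_left hz⟩ : R)⁻¹) ∈ Dq := (QuotientGroup.eq_one_iff _).1 (by
      show QuotientGroup.mk' Dq _ = 1
      simp only [map_mul, map_inv]
      rw [hc.eq]; group)
    exact mem_subgroupOf.1 this
  -- the centraliser of the factor
  let C : Subgroup G := {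
    carrier := {g | g ∈ H ∧ ∀ z ∈ Z, g * z * g⁻¹ * z⁻¹ ∈ D}
    one_mem' := ⟨H.one_mem, fun z _ => by simp⟩
    mul_mem' := fun {a b} ha hb => ⟨H.mul_mem ha.1 hb.1, fun z hz => by
      have h1 := ((mem_set_normalizer_iff.1 (hD ha.1)) _).1 (hb.2 z hz)
      rw [show a * b * z * (a * b)⁻¹ * z⁻¹ = a * (b * z * b⁻¹ * z⁻¹) * a⁻¹ * (a * z * a⁻¹ * z⁻¹) by group]
      exact mul_mem h1 (ha.2 z hz)⟩
    inv_mem' := fun {a} ha => ⟨H.inv_mem ha.1, fun z hz => by
      have hw : a⁻¹ * z * a ∈ Z := by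
        simpa using ((mem_set_normalizer_iff.1 (hZ (H.inv_mem ha.1))) z).1 hz
      have h1 := inv_mem (ha.2 _ hw)
      rwa [show (a * (a⁻¹ * z * a) * a⁻¹ * (a⁻¹ * z * a)⁻¹)⁻¹ = a⁻¹ * z * a⁻¹⁻¹ * z⁻¹ by group] at h1⟩ }
  have hCn : H ≤ normalizer (C : Set G) := fun g hg => Cfsg.Lib.Coprime.mem_normalizer_of_conj_mem
    (fun a ha => ⟨H.mul_mem (H.mul_mem hg ha.1) (H.inv_mem hg), fun z hz => by
      have hw : g⁻¹ * z * g ∈ Z := by simpa using ((mem_set_normalizer_iff.1 (hZ (H.inv_mem hg))) z).1 hz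
      have h1 := ((mem_set_normalizer_iff.1 (hD hg)) _).1 (ha.2 _ hw)
      rwa [show g * (a * (g⁻¹ * z * g) * a⁻¹ * (g⁻¹ * z * g)⁻¹) * g⁻¹ = g * a * g⁻¹ * z * (g * a * g⁻¹)⁻¹ * z⁻¹ by
        group] at h1⟩)
    (fun a ha => ⟨H.mul_mem (H.mul_mem (H.inv_mem hg) ha.1) hg, fun z hz => by
      have hw : g * z * g⁻¹ ∈ Z := ((mem_set_normalizer_iff.1 (hZ hg)) z).1 hz
      have h1 := ((mem_set_normalizer_iff.1 (hD (H.inv_mem hg))) _).1 (ha.2 _ hw)
      rwa [show g⁻¹ * (a * (g * z * g⁻¹) * a⁻¹ * (g * z * g⁻¹)⁻¹) * g⁻¹⁻¹ = g⁻¹ * a * g * z * (g⁻¹ * a * g)⁻¹ * z⁻¹ by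
        group] at h1⟩)
  have hxC : x ∈ C := by
    by_contra hxC
    exact hPK (le_trans (show P ≤ C from fun a ha => (⟨hPH ha, hcomm a ha⟩ : a ∈ H ∧ ∀ z ∈ Z, a * z * a⁻¹ * z⁻¹ ∈ D)) (T.core C (fun a ha => ha.1) hCn hxC))
  refine le_antisymm (fun z hz => ?_) hDZ
  obtain ⟨n, hn, hcn⟩ := Cfsg.Lib.Coprime.exists_fixed_of_commutator_mem (A := zpowers x) (N := D)
    (zpowers_le.2 (hD hxH)) (coprime_zpowers h (hZ3.anti hDZ)) (Or.inl (solvable_zpowers x))
    (hD (hZH hz)) (fun a ha => (zpowers_le.2 hxC ha : a ∈ C).2 z hz)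
  have hV := mem_V_of_fixed h hZ3 (mul_mem hz (hDZ hn)) (mem_centralizer_zpowers_iff.1 hcn)
  have := mul_mem (hfix ⟨mul_mem hz (hDZ hn), hV⟩) (inv_mem hn)
  rwa [mul_inv_cancel_right] at this

end Cfsg.Lib.ThreeFour
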