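import Cfsg.Agent.ThreeFour.Local.Classes
import Cfsg.Agent.ThreeFour.Local.Factor
import Cfsg.Agent.ThreeFour.Local.Bridge

/-!
The two parameter sets left by the searches for a nonsolvable centraliser are impossible.
-/

set_option autoImplicit false
set_option linter.unusedSectionVars false
set_option linter.style.haveILetI false

namespace Cfsg.Lib.ThreeFour

open Subgroup
open Cfsg.Lib.SelfCentThree (Inv P3)

universe u

variable {G : Type u} [Group G] [Finite G] {x τ : G} {V H K L : Subgroup G} {F s k : ℕ} {h : G → ℤ}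

/-- A simple group acts faithfully on its Sylow subgroups. -/
theorem no_small_sylow [IsSimpleGroup G] {p q : ℕ} [Fact p.Prime] (hq : q.Prime) (hd : q ∣ Nat.card G)
    (h1 : 1 < Nat.card (Sylow p G)) (hlt : Nat.card (Sylow p G) < q) : False := by
  have : Nontrivial (Sylow p G) := Finite.one_lt_card_iff_nontrivial.1 h1
  set φ := MulAction.toPermHom G (Sylow p G)
  rcases (MonoidHom.normal_ker φ).eq_bot_or_eq_top with e | e
  · have h2 := Subgroup.card_dvd_of_injective φ ((MonoidHom.ker_eq_bot_iff φ).1 e)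
    rw [Nat.card_perm] at h2
    exact absurd ((Nat.Prime.dvd_factorial hq).1 (hd.trans h2)) (not_le.2 hlt)
  · obtain ⟨P, Q, hne⟩ := exists_pair_ne (Sylow p G)
    obtain ⟨g, hg⟩ := MulAction.exists_smul_eq G P Q
    refine hne (Eq.trans ?_ hg)
    have : φ g = 1 := MonoidHom.mem_ker.1 (e.symm ▸ Subgroup.mem_top g)
    have h3 := DFunLike.congr_fun this P
    exact h3.symm

theorem Full.card_eq_of (f : Full x V τ F h s k) {v s₀ F₀ g : ℕ} (hv : Nat.card V = v) (hs : s = s₀) (hF : F = F₀)
    (hk : k = 1) (hg : 3 * g = s₀ ^ 2 * F₀ * (F₀ + 1) * v) : Nat.card G = g := by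
  have := f.norm.card_eq
  rw [hv, hs, hF, hk] at this
  omega

/-- The parameters left for two elements in `V`. -/
theorem Full.kill_two (f : Full x V τ F h s k) (h2 : Nat.card V = 2) (hk : k = 1) (hs : s = 21) (hF : F = 31) :
    False := by
  haveI := f.setting.simple
  have hG := f.card_eq_of h2 hs hF hk (show 3 * 291648 = 21 ^ 2 * 31 * (31 + 1) * 2 by norm_num)
  have hnc : ¬ ∀ a b : G, a * b = b * a := fun hab => f.toCtx.tau.not_commute f.setting.hyp (hab τ x)
  haveI : Fact (Nat.Prime 31) := ⟨by norm_num⟩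
  haveI : Fact (Nat.Prime 7) := ⟨by norm_num⟩
  obtain ⟨P⟩ : Nonempty (Sylow 31 G) := inferInstance
  obtain ⟨d1, d2⟩ := Cfsg.Lib.Small.sylow_facts P (a := 1) (m := 9408) (by rw [hG]; norm_num) (by norm_num)
  have hne := Cfsg.Lib.Small.card_sylow_ne_one (p := 31) hnc (by rw [hG]; norm_num)
  have h31 : Nat.card (Sylow 31 G) = 32 := by
    have hmem : Nat.card (Sylow 31 G) ∈ (Nat.divisors 9408).filter fun n => n % 31 = 1 :=
      Finset.mem_filter.2 ⟨Nat.mem_divisors.2 ⟨d1, by norm_num⟩, d2⟩
    rw [show ((Nat.divisors 9408).filter fun n => n % 31 = 1) = {1, 32} by decide +kernel] at hmem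
    simp only [Finset.mem_insert, Finset.mem_singleton] at hmem
    exact hmem.resolve_left hne
  set N := normalizer ((P : Subgroup G) : Set G) with hN
  have hi : N.index = 32 := by rw [hN, ← h31]; exact (P.card_eq_index_normalizer).symm
  have hNc : Nat.card N = 9114 := by
    have := N.card_mul_index
    rw [hi, hG] at this
    omega
  obtain ⟨Q⟩ : Nonempty (Sylow 7 N) := inferInstance
  obtain ⟨e1, e2⟩ := Cfsg.Lib.Small.sylow_facts Q (a := 2) (m := 186) (by rw [hNc]; norm_num) (by norm_num)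
  have hQ1 : Nat.card (Sylow 7 N) = 1 := by
    have hmem : Nat.card (Sylow 7 N) ∈ (Nat.divisors 186).filter fun n => n % 7 = 1 :=
      Finset.mem_filter.2 ⟨Nat.mem_divisors.2 ⟨e1, by norm_num⟩, e2⟩
    rw [show ((Nat.divisors 186).filter fun n => n % 7 = 1) = {1} by decide +kernel] at hmem
    simpa using hmem
  haveI : Subsingleton (Sylow 7 N) := (Finite.card_le_one_iff_subsingleton).1 hQ1.le
  haveI : (Q : Subgroup N).Normal := Sylow.normal_of_subsingleton Q
  set Q' := (Q : Subgroup N).map N.subtype with hQ'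
  have hQc : Nat.card Q' = 49 := by
    rw [hQ', card_map_of_injective N.subtype_injective, Q.card_eq_multiplicity, hNc,
      show (9114 : ℕ) = 7 ^ 2 * 186 by norm_num, Nat.factorization_mul (by norm_num) (by norm_num), Finsupp.add_apply,
      Nat.Prime.factorization_pow (by norm_num), Finsupp.single_eq_same,
      Nat.factorization_eq_zero_of_not_dvd (by norm_num : ¬ 7 ∣ 186)]
    norm_num
  let Q₀ : Sylow 7 G := Sylow.ofCard Q' (by
    rw [hQc, hG, show (291648 : ℕ) = 7 ^ 2 * 5952 by norm_num, Nat.factorization_mul (by norm_num) (by norm_num),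
      Finsupp.add_apply, Nat.Prime.factorization_pow (by norm_num), Finsupp.single_eq_same,
      Nat.factorization_eq_zero_of_not_dvd (by norm_num : ¬ 7 ∣ 5952)]
    norm_num)
  have hle : N ≤ normalizer ((Q₀ : Subgroup G) : Set G) := le_normalizer_map_subtype
  have hd7 : Nat.card (Sylow 7 G) ∣ 32 := by
    rw [Q₀.card_eq_index_normalizer, ← hi]; exact Subgroup.index_dvd_of_le hle
  have h7 : Nat.card (Sylow 7 G) % 7 = 1 := card_sylow_modEq_one 7 G
  have hne7 := Cfsg.Lib.Small.card_sylow_ne_one (p := 7) hnc (by rw [hG]; norm_num)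
  have hle32 := Nat.le_of_dvd (by norm_num) hd7
  have hlt : Nat.card (Sylow 7 G) < 31 := by
    generalize Nat.card (Sylow 7 G) = n at *
    omega
  exact no_small_sylow (p := 7) (q := 31) (by norm_num) (by rw [hG]; norm_num)
    (by have := Nat.card_pos (α := Sylow 7 G); omega) hlt

/-- The parameters left for four elements in `V`. -/
theorem Full.kill_four (f : Full x V τ F h s k) (h4 : Nat.card V = 4) (hs : s = 6) (hF : F = 76)
    (T : Top x V H K L) (h168 : Nat.card L = 168 * Nat.card K) : False := by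
  have H₀ := f.setting.hyp
  have hk := f.k_eq_one_of_four h4
  have hG := f.card_eq_of h4 hs hF hk (show 3 * 280896 = 6 ^ 2 * 76 * (76 + 1) * 4 by norm_num)
  haveI : Fact (Nat.Prime 7) := ⟨by norm_num⟩
  haveI : Fact (Nat.Prime 19) := ⟨by norm_num⟩
  obtain ⟨P, -, hPp, hPf, hPK⟩ := T.exists_odd H₀
  have hp : topPrime K L = 7 := if_pos h168
  rw [hp] at hPp
  have hP7 : Nat.card P = 7 := by
    obtain ⟨n, hn⟩ := IsPGroup.iff_card.1 hPp
    have hd : 7 ^ n ∣ 280896 := hn ▸ hG ▸ card_subgroup_dvd_card P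
    have hn1 : n ≤ 1 := by
      by_contra h2
      have := (pow_dvd_pow 7 (not_le.1 h2)).trans hd
      norm_num at this
    have hn0 : n ≠ 0 := fun e => hPK (by
      have : P = ⊥ := Subgroup.eq_bot_of_card_eq P (by rw [hn, e, pow_zero])
      rw [this]; exact bot_le)
    rw [hn, show n = 1 by omega, pow_one]
  have hf7 : ∀ m, ¬ 7 ∣ m → m ≠ 0 → (7 * m).factorization 7 = 1 := fun m hm hm0 => by
    rw [Nat.factorization_mul (by norm_num) hm0, Finsupp.add_apply, Nat.Prime.factorization_self (by norm_num),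
      Nat.factorization_eq_zero_of_not_dvd hm]
  have hf19 : ∀ m, ¬ 19 ∣ m → m ≠ 0 → (19 * m).factorization 19 = 1 := fun m hm hm0 => by
    rw [Nat.factorization_mul (by norm_num) hm0, Finsupp.add_apply, Nat.Prime.factorization_self (by norm_num),
      Nat.factorization_eq_zero_of_not_dvd hm]
  let P₀ : Sylow 7 G := Sylow.ofCard P (by
    rw [hP7, hG, show (280896 : ℕ) = 7 * 40128 by norm_num, hf7 40128 (by norm_num) (by norm_num), pow_one])
  set N := normalizer (P : Set G) with hN
  have hxN : x ∈ N := inv_mem_normalizer H₀ hPf.inv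
  have hmix : ∀ g : G, ¬ 19 * 7 ∣ orderOf g := f.prin.no_mixed 19 7 (by norm_num) (by norm_num)
    (by rw [hF]; norm_num) (by rw [hF]; norm_num)
    (by rw [hG, hF, show (280896 : ℕ) = 19 * 14784 by norm_num, show (76 : ℕ) = 19 * 4 by norm_num,
      hf19 14784 (by norm_num) (by norm_num), hf19 4 (by norm_num) (by norm_num)])
    (by rw [hG, hF, show (280896 : ℕ) = 7 * 40128 by norm_num, show (76 + 1 : ℕ) = 7 * 11 by norm_num,
      hf7 40128 (by norm_num) (by norm_num), hf7 11 (by norm_num) (by norm_num)])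
  have h19 : ¬ 19 ∣ Nat.card N := fun hd => by
    obtain ⟨y, hy⟩ := exists_prime_orderOf_dvd_card' (G := N) 19 hd
    haveI : IsCyclic P := isCyclic_of_prime_card hP7
    set φ := P.normalizerMonoidHom
    have h1 : orderOf (φ y) ∣ Nat.gcd 19 6 := Nat.dvd_gcd (hy ▸ orderOf_map_dvd φ y) (by
      refine (_root_.orderOf_dvd_natCard (φ y)).trans (dvd_of_eq ?_)
      rw [IsCyclic.card_mulAut, hP7]
      decide)
    have h2 : φ y = 1 := orderOf_eq_one_iff.1 (Nat.dvd_one.1 h1)
    obtain ⟨b, hb⟩ := exists_prime_orderOf_dvd_card' (G := P) 7 (by rw [hP7])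
    rw [← Subgroup.orderOf_coe] at hy hb
    have hc : Commute (y : G) (b : G) := by
      have h3 : (y : G) * b * (y : G)⁻¹ = b := by
        rw [← normalizerMonoidHom_coe y b]
        exact congrArg Subtype.val (DFunLike.congr_fun h2 b)
      exact mul_inv_eq_iff_eq_mul.1 h3
    exact hmix ((y : G) * b) (by rw [hc.orderOf_mul_eq_mul_orderOf_of_coprime (by rw [hy, hb]; norm_num), hy, hb])
  have h21 : 21 ∣ Nat.card N := by
    refine Nat.Coprime.mul_dvd_of_dvd_of_dvd (by norm_num : Nat.Coprime 3 7) ?_ ?_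
    · exact H₀.ord ▸ Subgroup.orderOf_dvd_natCard N hxN
    · exact hP7 ▸ card_dvd_of_le le_normalizer
  obtain ⟨m, hm⟩ : 7 ∣ Nat.card N := (Dvd.intro_left 3 rfl).trans h21
  have hmdvd : m ∣ 2112 := by
    have h1 : 7 * m ∣ 7 * 40128 := hm ▸ (show (7 * 40128 : ℕ) = Nat.card G from hG.symm) ▸ card_subgroup_dvd_card N
    have h2 : m ∣ 19 * 2112 := by
      have := Nat.dvd_of_mul_dvd_mul_left (by norm_num) h1
      simpa using this
    refine (Nat.Coprime.dvd_of_dvd_mul_left ?_ h2)
    exact ((by norm_num : Nat.Prime 19).coprime_iff_not_dvd.2 fun h' => h19 (hm ▸ h'.mul_left 7)).symm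
  have h3m : 3 ∣ m := by
    have h1 : 7 * 3 ∣ 7 * m := hm ▸ h21
    exact Nat.dvd_of_mul_dvd_mul_left (by norm_num) h1
  have hidx : 40128 / m % 7 = 1 := by
    have h1 : Nat.card (Sylow 7 G) = N.index := P₀.card_eq_index_normalizer
    have h2 : Nat.card (Sylow 7 G) % 7 = 1 := card_sylow_modEq_one 7 G
    have h3 := N.card_mul_index
    rw [hm, hG, mul_assoc] at h3
    have h4 : m * N.index = 40128 := by omega
    rw [← h4, Nat.mul_div_cancel_left _ (Nat.pos_of_ne_zero fun e => by rw [e] at h4; omega), ← h1]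
    exact h2
  have hall : ∀ m ∈ Nat.divisors 2112, 3 ∣ m → 40128 / m % 7 ≠ 1 := by decide +kernel
  exact hall m (Nat.mem_divisors.2 ⟨hmdvd, by norm_num⟩) h3m hidx

end Cfsg.Lib.ThreeFour
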