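import Cfsg.Agent.ThreeFour.Local.CentralOdd
import Cfsg.Agent.ThreeFour.Local.Kills
import Cfsg.Agent.ThreeFour.Arith.Local

/-!
With two elements in `V` the centraliser of the involution in `V` is solvable.
-/

set_option autoImplicit false
set_option linter.unusedSectionVars false
set_option linter.style.haveILetI false

namespace Cfsg.Lib.ThreeFour

open Subgroup
open Cfsg.Lib.SelfCentThree (Inv P3)

universe u

variable {G : Type u} [Group G] [Finite G] {x τ : G} {V H K L : Subgroup G} {F s k : ℕ} {h : G → ℤ}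

/-- With a central core of exponent two the elements outside squaring into the core are involutions. -/
theorem Top.sq_eq_one (hyp : Hyp x V) (T : Top x V H K L) {σ : G} (hσ2 : σ * σ = 1) (hσL : σ ∈ L) (hσK : σ ∉ K)
    (hKc : ∀ a ∈ K, ∀ g ∈ L, Commute a g) (hK2 : ∀ a ∈ K, a * a = 1) {g : G} (hg : g ∈ L) (hgK : g ∉ K)
    (hg2 : g * g ∈ K) : g * g = 1 := by
  obtain ⟨c, hc, he⟩ := T.conj_involution hyp hσL hσK (by rw [hσ2]; exact K.one_mem) hg hgK hg2
  set i := c * σ * c⁻¹ with hi
  have hiL : i ∈ L := mul_mem (mul_mem hc hσL) (inv_mem hc)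
  have hi2 : i * i = 1 := by
    rw [hi, show c * σ * c⁻¹ * (c * σ * c⁻¹) = c * (σ * σ) * c⁻¹ by group, hσ2]; group
  have e : g = (i * g⁻¹)⁻¹ * i := by group
  have hk : (i * g⁻¹)⁻¹ ∈ K := inv_mem he
  calc g * g = ((i * g⁻¹)⁻¹ * i) * ((i * g⁻¹)⁻¹ * i) := by rw [← e]
    _ = ((i * g⁻¹)⁻¹ * (i * g⁻¹)⁻¹) * (i * i) := (hKc _ hk _ hiL).symm.mul_mul_mul_comm _ _
    _ = 1 := by rw [hK2 _ hk, hi2, one_mul]

/-- The squares in a Sylow two-subgroup of a top of order 168 with central core of exponent two. -/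
theorem Top.exists_square (hyp : Hyp x V) (T : Top x V H K L) (h168 : Nat.card L = 168 * Nat.card K) {σ : G}
    (hσ2 : σ * σ = 1) (hσL : σ ∈ L) (hσK : σ ∉ K) (hKc : ∀ a ∈ K, ∀ g ∈ L, Commute a g)
    (hK2 : ∀ a ∈ K, a * a = 1) [Fact (Nat.Prime 2)] (P : Sylow 2 L) :
    ∃ a : L, a ∈ (P : Subgroup L) ∧ ((a * a : L) : G) ∉ K ∧
      ∀ b ∈ (P : Subgroup L), (b : G) * b = 1 ∨ (b : G) * b = (a : G) * a := by
  haveI := T.normal_subgroupOf
  haveI := T.isSimple_quot hyp
  set q := QuotientGroup.mk' (K.subgroupOf L)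
  have hN : Nat.card (L ⧸ K.subgroupOf L) = 168 := by
    have hc := T.card_quot
    rw [h168] at hc
    exact Nat.eq_of_mul_eq_mul_right Nat.card_pos hc
  have hone : ∀ (z : G) (hz : z ∈ L), q ⟨z, hz⟩ = 1 ↔ z ∈ K := fun z hz =>
    (QuotientGroup.eq_one_iff _).trans mem_subgroupOf
  set P' := P.mapSurjective (QuotientGroup.mk'_surjective (K.subgroupOf L))
  obtain ⟨ā, hā, b₀, -, hā4, -, -, -, -, hā2, -, hout⟩ := Cfsg.Lib.Small.Order168.dihedral_data hN P'
  obtain ⟨a, ha, rfl⟩ : ∃ a ∈ (P : Subgroup L), q a = ā := hā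
  have haK : ((a * a : L) : G) ∉ K := fun hK => by
    rw [pow_two, ← map_mul, (hone _ (a * a).2).2 hK, orderOf_one] at hā2
    omega
  have ha4 : ((a * a : L) : G) * (a * a : L) = 1 := by
    refine T.sq_eq_one hyp hσ2 hσL hσK hKc hK2 (a * a).2 haK ((hone _ (mul_mem (a * a).2 (a * a).2)).1 ?_)
    rw [show (⟨((a * a : L) : G) * (a * a : L), mul_mem (a * a).2 (a * a).2⟩ : L) = a ^ 4 from Subtype.ext (by
      simp [pow_succ, mul_assoc]), map_pow, ← hā4, pow_orderOf_eq_one]
  refine ⟨a, ha, haK, fun b hb => ?_⟩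
  by_cases hbz : q b ∈ zpowers (q a)
  · obtain ⟨i, hi⟩ := mem_zpowers_iff.1 hbz
    have hk : ((a ^ i)⁻¹ * b : L).1 ∈ K := (hone _ ((a ^ i)⁻¹ * b).2).1 (by
      show q ((a ^ i)⁻¹ * b) = 1
      rw [map_mul, map_inv, map_zpow, hi, inv_mul_cancel])
    set c : G := (((a ^ i)⁻¹ * b : L) : G)
    have hb' : (b : G) = (a : G) ^ i * c := by simp [c]
    have hcc := hKc c hk ((a : G) ^ i) (zpow_mem a.2 i)
    have hbb : (b : G) * b = ((a : G) * a) ^ i := by
      rw [hb', show (a : G) ^ i * c * ((a : G) ^ i * c) = (a : G) ^ i * (c * (a : G) ^ i) * c by group, hcc.eq,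
        show (a : G) ^ i * ((a : G) ^ i * c) * c = (a : G) ^ i * (a : G) ^ i * (c * c) by group, hK2 c hk, mul_one,
        ← (Commute.refl (a : G)).mul_zpow]
    have hz : ((a : G) * a) ^ (2 : ℤ) = 1 := by
      rw [zpow_two]
      simpa using ha4
    rw [hbb]
    rcases Int.even_or_odd i with ⟨j, rfl⟩ | ⟨j, rfl⟩
    · exact Or.inl (by rw [show j + j = 2 * j by ring, zpow_mul, hz, one_zpow])
    · exact Or.inr (by rw [zpow_add, zpow_mul, hz, one_zpow, one_mul, zpow_one])
  · left
    have h2 := hout _ ⟨b, hb, rfl⟩ hbz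
    refine T.sq_eq_one hyp hσ2 hσL hσK hKc hK2 b.2 (fun hK => ?_) ((hone _ (b * b).2).1 ?_)
    · rw [show q b = 1 from (hone _ b.2).2 hK, orderOf_one] at h2
      omega
    · show q (b * b) = 1
      rw [map_mul, ← pow_two, ← h2, pow_orderOf_eq_one]

/-- With two elements in `V` the centraliser of the involution is solvable. -/
theorem Full.central_two (f : Full x V τ F h s k) (h2 : Nat.card V = 2) {u : G} (hu : u ∈ V) (hu1 : u ≠ 1) :
    Group.IsSolvable (centralizer ({u} : Set G)) := by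
  by_contra hns
  have H₀ := f.setting.hyp
  haveI : Fact (Nat.Prime 2) := ⟨Nat.prime_two⟩
  obtain ⟨K, L, T, h168, hVL, hK2, huK, hcases⟩ := f.toCtx.central_cases hu hu1 hns
  rcases hcases with ⟨hK, hXc⟩ | ⟨h4, -⟩ | ⟨h4, -⟩
  · set X := centralizer ({u} : Set G) with hX
    rw [h2] at hXc
    have hLc : Nat.card L = 336 := by rw [h168, hK, H₀.card_zpowers_V hu hu1]
    have hLX : L = X := Subgroup.eq_of_le_of_card_ge T.leL (by omega)
    have hk1 : k = 1 := by
      rcases f.two_lists h2 hu hu1 with ⟨-, hall, -, ⟨d, hd, hdiv⟩, -⟩ | ⟨e, -⟩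
      swap
      · exact e
      exfalso
      rw [List.mem_singleton] at hd
      rw [hd, show cen u = 336 from hXc] at hdiv
      have hG16 : (Nat.card G).factorization 2 = 4 := by
        refine le_antisymm ?_ ?_
        · by_contra h5
          have := (pow_dvd_pow 2 (not_le.1 h5)).trans hdiv
          norm_num at this
        · refine (Nat.Prime.pow_dvd_iff_le_factorization Nat.prime_two Nat.card_pos.ne').1 ?_
          exact ((by norm_num : 2 ^ 4 ∣ 336).trans (dvd_of_eq hLc.symm)).trans (card_subgroup_dvd_card L)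
      obtain ⟨P⟩ : Nonempty (Sylow 2 L) := inferInstance
      have hPc : Nat.card ((P : Subgroup L).map L.subtype) = 2 ^ (Nat.card G).factorization 2 := by
        rw [card_map_of_injective L.subtype_injective, P.card_eq_multiplicity, hLc, hG16,
          show (336 : ℕ) = 2 ^ 4 * 21 by norm_num, Nat.factorization_mul (by norm_num) (by norm_num), Finsupp.add_apply,
          Nat.Prime.factorization_pow Nat.prime_two, Finsupp.single_eq_same,
          Nat.factorization_eq_zero_of_not_dvd (by norm_num : ¬ 2 ∣ 21)]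
      let P₀ : Sylow 2 G := Sylow.ofCard ((P : Subgroup L).map L.subtype) hPc
      obtain ⟨σ, hσ, hσL, hσK, -⟩ := T.exists_tau H₀ f.toCtx.tau (f.toCtx.tau_mem_cent hu)
      have hKc : ∀ a ∈ K, ∀ g ∈ L, Commute a g := fun a ha g hg => by
        obtain ⟨i, rfl⟩ := mem_zpowers_iff.1 (hK ▸ ha)
        exact ((show Commute g u from mem_centralizer_singleton_iff.1 (T.leL hg)).zpow_right i).symm
      have hKsq : ∀ a ∈ K, a * a = 1 := fun a ha => H₀.sq a (zpowers_le.2 hu (hK ▸ ha))
      obtain ⟨a, haP, haK, hall'⟩ := T.exists_square H₀ h168 hσ.sq hσL hσK hKc hKsq P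
      set z : G := (a : G) * a with hz
      have hzP : z ∈ (P₀ : Subgroup G) := ⟨a * a, mul_mem haP haP, rfl⟩
      have hz1 : z ≠ 1 := fun e => haK (by rw [Subgroup.coe_mul, ← hz, e]; exact K.one_mem)
      have hzC : z ∈ centralizer ((P₀ : Subgroup G) : Set G) := by
        refine mem_centralizer_iff.2 fun b hb => ?_
        obtain ⟨b', hb', rfl⟩ := hb
        rcases hall' (b' * a * b'⁻¹) (mul_mem (mul_mem hb' haP) (inv_mem hb')) with e | e
        · exfalso
          apply hz1
          rw [Subgroup.coe_mul, Subgroup.coe_mul, InvMemClass.coe_inv] at e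
          calc z = (b' : G)⁻¹ * ((b' : G) * a * (b' : G)⁻¹ * ((b' : G) * a * (b' : G)⁻¹)) * b' := by rw [hz]; group
            _ = 1 := by rw [e]; group
        · rw [Subgroup.coe_mul, Subgroup.coe_mul, InvMemClass.coe_inv] at e
          show (b' : G) * z = z * b'
          calc (b' : G) * z = (b' : G) * a * (b' : G)⁻¹ * ((b' : G) * a * (b' : G)⁻¹) * b' := by rw [hz]; group
            _ = z * b' := by rw [e]
      have hz2 : orderOf z = 2 := orderOf_eq_two (by
        rcases hall' (a * a) (mul_mem haP haP) with e | e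
        · simpa [hz] using e
        · rw [Subgroup.coe_mul] at e
          exact absurd (mul_eq_left.1 e) hz1) hz1
      obtain ⟨g, hg⟩ := isConj_iff.1 (hall z hz2)
      have huC : g⁻¹⁻¹ * z * g⁻¹ ∈ centralizer ((P₀ : Subgroup G) : Set G) := by
        rw [inv_inv, hg]
        refine mem_centralizer_iff.2 fun b hb => ?_
        obtain ⟨b', -, rfl⟩ := hb
        exact mem_centralizer_singleton_iff.1 (T.leL b'.2)
      obtain ⟨n, hn, hnz⟩ := P₀.conj_eq_normalizer_conj_of_mem_centralizer z g⁻¹ hzC huC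
      rw [inv_inv, hg] at hnz
      -- `u` would be a square in the Sylow subgroup
      have hna : n⁻¹ * (a : G) * n ∈ (P₀ : Subgroup G) := by
        have h1 := ((mem_set_normalizer_iff.1 (inv_mem hn)) (a : G)).1 ⟨a, haP, rfl⟩
        rw [inv_inv] at h1
        exact h1
      obtain ⟨b, hb, hbe : (b : G) = n⁻¹ * (a : G) * n⟩ := hna
      have hub : u = (b : G) * b := by rw [hbe, hnz, hz]; group
      rcases hall' b hb with e | e
      · exact hu1 (hub.trans e)
      · apply haK
        rw [Subgroup.coe_mul, ← hz, ← e, ← hub]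
        exact huK
    have h7 : 7 ∣ Nat.card G :=
      ((by norm_num : 7 ∣ 336).trans (dvd_of_eq hLc.symm)).trans (card_subgroup_dvd_card L)
    obtain ⟨-, hc, z, hz, hzc, hck⟩ := (f.two_lists h2 hu hu1).resolve_left (fun e => by rw [e.1] at hk1; omega)
    have hrow := f.row h7
    rw [h2, hk1] at hrow
    have hcu : cen u = 336 := hXc
    rw [hcu] at hc hck
    obtain ⟨-, hs, hF⟩ := localTwoStmt _ _ _ _ _ hrow (Or.inl ⟨rfl, rfl⟩) (Or.inr ⟨rfl, hc, z, hz, hzc, hck⟩)
    exact f.kill_two h2 hk1 hs hF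
  · omega
  · omega

end Cfsg.Lib.ThreeFour
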