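import Cfsg.Agent.ThreeFour.Local.SolvU
import Cfsg.Agent.ThreeFour.Local.CentralTwo

/-!
With four elements in `V` the centralisers of its involutions are solvable.
-/

set_option autoImplicit false
set_option linter.unusedSectionVars false
set_option linter.style.haveILetI false

namespace Cfsg.Lib.ThreeFour

open Subgroup

universe u

variable {G : Type u} [Group G] [Finite G] {x τ : G} {V : Subgroup G} {F s k : ℕ} {h : G → ℤ}

theorem Full.three_dvd_cen (f : Full x V τ F h s k) {u : G} (hu : u ∈ V) : 3 ∣ cen u :=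
  f.setting.hyp.ord ▸ Subgroup.orderOf_dvd_natCard _ (f.toCtx.x_mem_cent hu)

/-- A nonsolvable centraliser is of the largest type. -/
theorem Full.typeC (f : Full x V τ F h s k) (h4 : Nat.card V = 4) {u : G} (hu : u ∈ V) (hu1 : u ≠ 1)
    (hns : ¬ Group.IsSolvable (centralizer ({u} : Set G))) : ∃ K, TypeC x V u K := by
  obtain ⟨K, L, T, h168, -, hK2, -, hcases⟩ := f.toCtx.central_cases hu hu1 hns
  have hex := f.setting.hyp.exists_others h4 hu hu1
  have key : cen u = 672 → False := fun hc => by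
    have h7 : 7 ∣ Nat.card G := ((by norm_num : 7 ∣ 672).trans (dvd_of_eq hc.symm)).trans (card_subgroup_dvd_card _)
    have hrow := f.row h7
    rw [h4, f.k_eq_one_of_four h4] at hrow
    obtain ⟨u', hu', n1, n2, n3, n4, n5, -⟩ := hex
    obtain ⟨-, hs, hF⟩ := localFourStmt _ _ _ _ _ _ hrow
      (f.four_lists h4 hu hu' (V.mul_mem hu hu') hu1 n1 n3 (Ne.symm n2) (Ne.symm n4) (Ne.symm n5))
      (Or.inl ⟨hc, f.three_dvd_cen hu', f.three_dvd_cen (V.mul_mem hu hu')⟩)
    exact f.kill_four h4 hs hF T h168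
  rcases hcases with ⟨-, hc⟩ | ⟨-, -, hc, -⟩ | ⟨-, hVK, h16, hL, hc, hs⟩
  · exact absurd (show cen u = 672 by rw [cen, hc, h4]) key
  · exact absurd (show cen u = 672 from hc) key
  · subst hL
    exact ⟨K, hu, hu1, h4, T, h168, hK2, hVK, h16, hs⟩

theorem Full.no_mixed_types (f : Full x V τ F h s k) (h4 : Nat.card V = 4) {u u₂ u₃ : G} {K : Subgroup G}
    (C : TypeC x V u K) (h2 : u₂ ∈ V) (h3 : u₃ ∈ V) (n2 : u₂ ≠ 1) (n3 : u₃ ≠ 1) (d2 : u₂ ≠ u) (d3 : u₃ ≠ u)
    (d23 : u₂ ≠ u₃) (hsol : Group.IsSolvable (centralizer ({u₂} : Set G))) : False := by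
  have H := f.setting.hyp
  have hc : cen u = 2688 := by rw [cen, C.index, C.card]
  have h7 : 7 ∣ Nat.card G := ((by norm_num : 7 ∣ 2688).trans (dvd_of_eq hc.symm)).trans (card_subgroup_dvd_card _)
  have hrow := f.row h7
  rw [h4, f.k_eq_one_of_four h4] at hrow
  have hs₃ : cen u₃ = 2688 ∨ SolvU 4 (cen u₃) := by
    by_cases hs3 : Group.IsSolvable (centralizer ({u₃} : Set G))
    · exact Or.inr (C.solvU H f.setting.five f.toCtx.tau h3 n3 d3 hs3)
    · obtain ⟨K₃, C₃⟩ := f.typeC h4 h3 n3 hs3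
      exact Or.inl (by rw [cen, C₃.index, C₃.card])
  obtain ⟨h672, -, -⟩ := localFourStmt _ _ _ _ _ _ hrow
    (f.four_lists h4 C.mem h2 h3 C.ne n2 n3 (Ne.symm d2) (Ne.symm d3) d23)
    (Or.inr (Or.inl ⟨hc, C.solvU H f.setting.five f.toCtx.tau h2 n2 d2 hsol, hs₃⟩))
  omega

/-- With four elements in `V` their centralisers are solvable. -/
theorem Full.central_four (f : Full x V τ F h s k) (h4 : Nat.card V = 4) {u : G} (hu : u ∈ V) (hu1 : u ≠ 1) :
    Group.IsSolvable (centralizer ({u} : Set G)) := by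
  by_contra hns
  have H := f.setting.hyp
  obtain ⟨K, C⟩ := f.typeC h4 hu hu1 hns
  obtain ⟨u', hu', n1, n2, n3, n4, n5, -⟩ := H.exists_others h4 hu hu1
  by_cases hs : Group.IsSolvable (centralizer ({u'} : Set G))
  · exact f.no_mixed_types h4 C hu' (V.mul_mem hu hu') n1 n3 n2 n4 (Ne.symm n5) hs
  by_cases hs' : Group.IsSolvable (centralizer ({u * u'} : Set G))
  · exact f.no_mixed_types h4 C (V.mul_mem hu hu') hu' n3 n1 n4 n2 n5 hs'
  obtain ⟨K₂, C₂⟩ := f.typeC h4 hu' n1 hs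
  obtain ⟨K₃, C₃⟩ := f.typeC h4 (V.mul_mem hu hu') n3 hs'
  exact C.not_three H f.setting.five f.toCtx.tau C₂ C₃ n2 n4 n5

/-- The centraliser of an involution in `V` is solvable. -/
theorem Full.central (f : Full x V τ F h s k) {u : G} (hu : u ∈ V) (hu1 : u ≠ 1) :
    Group.IsSolvable (centralizer ({u} : Set G)) := by
  rcases f.setting.hyp.card with e | e
  · exact f.central_two e hu hu1
  · exact f.central_four e hu hu1

end Cfsg.Lib.ThreeFour
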