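import Cfsg.Agent.ThreeFour.Local.Bridge

/-!
An element of order three acting without fixed points on an abelian group of odd order leaves no room for a
four-group which it permutes.
-/

set_option autoImplicit false
set_option linter.unusedSectionVars false
set_option linter.style.haveILetI false

namespace Cfsg.Lib.ThreeFour

open Subgroup
open Cfsg.Lib.SelfCentThree (Inv P3)
open scoped IsMulCommutative

universe u

/-- The identity in the ring of endomorphisms. -/
theorem four_smul_eq {R : Type*} [Ring R] {X E E' E'' : R} (hX : 1 + X + X * X = 0) (h1 : E * E = 1)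
    (h2 : E' * E' = 1) (h3 : E'' * E'' = 1) (c1 : X * E = E' * X) (c2 : X * E' = E'' * X)
    (c3 : X * E'' = E * X) (p : E * E' = E'') : (4 : R) * E = 4 := by
  have p2 : E * E'' = E' := by rw [← p, ← mul_assoc, h1, one_mul]
  have p3 : E'' * E' = E := by rw [← p, mul_assoc, h2, mul_one]
  have p4 : E' * E = E'' := by
    calc E' * E = (E'' * E'') * (E' * E) := by rw [h3, one_mul]
      _ = E'' * ((E'' * E') * E) := by simp only [mul_assoc]
      _ = E'' := by rw [p3, h1, mul_one]
  have p5 : E' * E'' = E := by rw [← p4, ← mul_assoc, h2, one_mul]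
  have p6 : E'' * E = E' := by rw [← p4, mul_assoc, h1, mul_one]
  have a1 : E * X * E = E'' * X := by rw [mul_assoc, c1, ← mul_assoc, p]
  have a2 : E' * X * E' = E * X := by rw [mul_assoc, c2, ← mul_assoc, p5]
  have a3 : E'' * X * E'' = E' * X := by rw [mul_assoc, c3, ← mul_assoc, p6]
  have b1 : E * (X * X) * E = E' * (X * X) := by
    rw [mul_assoc, mul_assoc X, c1, ← mul_assoc X, c2, mul_assoc E'' X, ← mul_assoc E, p2]
  have b2 : E' * (X * X) * E' = E'' * (X * X) := by
    rw [mul_assoc, mul_assoc X, c2, ← mul_assoc X, c3, mul_assoc E X, ← mul_assoc E', p4]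
  have b3 : E'' * (X * X) * E'' = E * (X * X) := by
    rw [mul_assoc, mul_assoc X, c3, ← mul_assoc X, c1, mul_assoc E' X, ← mul_assoc E'', p3]
  have s : ∀ g : R, g * g = 1 → 1 + g * X * g + g * (X * X) * g = 0 := fun g hg => by
    have h0 : g * (1 + X + X * X) * g = 0 := by rw [hX, mul_zero, zero_mul]
    simpa only [mul_add, add_mul, mul_one, hg] using h0
  have hsum : (1 + E + E' + E'') * (X + X * X) + 4 = 0 := by
    calc (1 + E + E' + E'') * (X + X * X) + 4
        = (1 + X + X * X) + (1 + E'' * X + E' * (X * X)) + (1 + E * X + E'' * (X * X))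
          + (1 + E' * X + E * (X * X)) := by
          rw [show (4 : R) = 1 + 1 + 1 + 1 by norm_num, add_mul, add_mul, add_mul, one_mul, mul_add, mul_add, mul_add]
          abel
      _ = 0 := by
          have s1 := s E h1; rw [a1, b1] at s1
          have s2 := s E' h2; rw [a2, b2] at s2
          have s3 := s E'' h3; rw [a3, b3] at s3
          rw [hX, s1, s2, s3, add_zero, add_zero, add_zero]
  have hXX : X + X * X = -1 := eq_neg_of_add_eq_zero_right (by rw [← add_assoc]; exact hX)
  rw [hXX, mul_neg, mul_one, neg_add_eq_zero] at hsum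
  calc (4 : R) * E = (1 + E + E' + E'') * E := by rw [hsum]
    _ = E + 1 + E'' + E' := by rw [add_mul, add_mul, add_mul, one_mul, h1, p4, p6]
    _ = 4 := by rw [← hsum]; abel

variable {G : Type u} [Group G] {x : G} {V W : Subgroup G}

/-- The action of the normaliser of an abelian subgroup by endomorphisms. -/
noncomputable def selfAct (W : Subgroup G) [IsMulCommutative W] :
    normalizer (W : Set G) →* AddMonoid.End (Additive W) :=
  (toEnd W).comp W.normalizerMonoidHom

theorem selfAct_apply [IsMulCommutative W] (g : normalizer (W : Set G)) (w : W) :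
    ((selfAct W g (Additive.ofMul w)).toMul : G) = (g : G) * w * (g : G)⁻¹ := rfl

theorem selfAct_eq_one [IsMulCommutative W] {g : normalizer (W : Set G)} :
    selfAct W g = 1 ↔ (g : G) ∈ centralizer (W : Set G) := by
  rw [mem_centralizer_iff]
  refine ⟨fun e w hw => ?_, fun e => AddMonoidHom.ext fun w => ?_⟩
  · have h1 : (g : G) * w * (g : G)⁻¹ = w := by rw [← selfAct_apply g ⟨w, hw⟩, e]; rfl
    exact (mul_inv_eq_iff_eq_mul.1 h1).symm
  · refine Additive.toMul.injective (Subtype.ext ?_)
    show (g : G) * (w.toMul : G) * (g : G)⁻¹ = (w.toMul : G)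
    rw [← e _ w.toMul.2, mul_inv_cancel_right]

variable [Finite G]

theorem selfAct_quadratic (h : Hyp x V) [IsMulCommutative W] (hW : Fpf x W) :
    1 + selfAct W ⟨x, inv_mem_normalizer h hW.inv⟩ +
      selfAct W ⟨x, inv_mem_normalizer h hW.inv⟩ * selfAct W ⟨x, inv_mem_normalizer h hW.inv⟩ = 0 := by
  refine AddMonoidHom.ext fun w => Additive.toMul.injective (Subtype.ext ?_)
  show (w.toMul : G) * (x * (w.toMul : G) * x⁻¹) * (x * (x * (w.toMul : G) * x⁻¹) * x⁻¹) = 1
  rw [h.conj_conj]
  exact hW.prod_three h w.toMul.2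

/-- A four-group of automorphisms permuted by `x` is trivial. -/
theorem eq_one_of_four (h : Hyp x V) [IsMulCommutative W] (hW : Fpf x W) (hW2 : ¬ 2 ∣ Nat.card W)
    {E E' E'' : AddMonoid.End (Additive W)} (h1 : E * E = 1) (h2 : E' * E' = 1) (h3 : E'' * E'' = 1)
    (c1 : selfAct W ⟨x, inv_mem_normalizer h hW.inv⟩ * E = E' * selfAct W ⟨x, inv_mem_normalizer h hW.inv⟩)
    (c2 : selfAct W ⟨x, inv_mem_normalizer h hW.inv⟩ * E' = E'' * selfAct W ⟨x, inv_mem_normalizer h hW.inv⟩)
    (c3 : selfAct W ⟨x, inv_mem_normalizer h hW.inv⟩ * E'' = E * selfAct W ⟨x, inv_mem_normalizer h hW.inv⟩)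
    (p : E * E' = E'') : E = 1 := by
  have h4 := four_smul_eq (selfAct_quadratic h hW) h1 h2 h3 c1 c2 c3 p
  refine AddMonoidHom.ext fun w => ?_
  have e : (4 : ℕ) • E w = (4 : ℕ) • w := by
    have e' := DFunLike.congr_fun h4 w
    have hfour : ∀ v, (4 : AddMonoid.End (Additive W)) v = (4 : ℕ) • v := fun v => AddMonoid.End.natCast_apply 4 v
    calc (4 : ℕ) • E w = (4 : AddMonoid.End (Additive W)) (E w) := (hfour _).symm
      _ = (4 : AddMonoid.End (Additive W)) w := e'
      _ = _ := hfour w
  have hco : (Nat.card (Additive W)).Coprime 4 := by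
    show (Nat.card W).Coprime (2 ^ 2)
    exact Nat.Coprime.pow_right 2 (Nat.prime_two.coprime_iff_not_dvd.2 hW2).symm
  exact (nsmulCoprime hco).injective e

end Cfsg.Lib.ThreeFour
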