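import Cfsg.Agent.ThreeFour.Local.CentralShape
import Cfsg.Agent.ThreeFour.Local.FourIdentity

/-!
A nonsolvable centraliser of an element of `V` has no odd core, and its possible shapes.
-/

set_option autoImplicit false
set_option linter.unusedSectionVars false
set_option linter.style.haveILetI false

namespace Cfsg.Lib.ThreeFour

open Subgroup
open Cfsg.Lib.SelfCentThree (Inv P3)
open scoped IsMulCommutative commutatorElement

universe u

variable {G : Type u} [Group G] {x τ : G} {V H K L S W : Subgroup G} {u : G}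

/-- `g` centralises or inverts the elements of `W`. -/
def PM (W : Subgroup G) (g : G) : Prop :=
  (∀ w ∈ W, g * w * g⁻¹ = w) ∨ ∀ w ∈ W, g * w * g⁻¹ = w⁻¹

theorem PM.mul {a b : G} (ha : PM W a) (hb : PM W b) : PM W (a * b) := by
  have e : ∀ w : G, a * b * w * (a * b)⁻¹ = a * (b * w * b⁻¹) * a⁻¹ := fun w => by group
  rcases ha with ha | ha <;> rcases hb with hb | hb
  · exact Or.inl fun w hw => by rw [e, hb w hw, ha w hw]
  · exact Or.inr fun w hw => by rw [e, hb w hw, ha _ (inv_mem hw)]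
  · exact Or.inr fun w hw => by rw [e, hb w hw, ha w hw]
  · exact Or.inl fun w hw => by rw [e, hb w hw, ha _ (inv_mem hw), inv_inv]

theorem PM.inv {a : G} (ha : PM W a) : PM W a⁻¹ := by
  rcases ha with ha | ha
  · exact Or.inl fun w hw => by
      conv_lhs => rw [← ha w hw]
      group
  · exact Or.inr fun w hw => by
      have h1 := ha _ (inv_mem hw)
      rw [inv_inv] at h1
      conv_lhs => rw [← h1]
      group

theorem PM.conj {a g : G} (ha : PM W a) (hg : g ∈ normalizer (W : Set G)) : PM W (g * a * g⁻¹) := by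
  have hin : ∀ w ∈ W, g⁻¹ * w * g ∈ W := fun w hw => by
    simpa using ((mem_set_normalizer_iff.1 (inv_mem hg)) w).1 hw
  have e : ∀ w : G, g * a * g⁻¹ * w * (g * a * g⁻¹)⁻¹ = g * (a * (g⁻¹ * w * g) * a⁻¹) * g⁻¹ := fun w => by group
  rcases ha with ha | ha
  · exact Or.inl fun w hw => by rw [e, ha _ (hin w hw)]; group
  · exact Or.inr fun w hw => by rw [e, ha _ (hin w hw)]; group

/-- The elements of `H` acting as scalars. -/
def pmGroup (W H : Subgroup G) : Subgroup G where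
  carrier := {g | g ∈ H ∧ PM W g}
  one_mem' := ⟨H.one_mem, Or.inl fun w _ => by simp⟩
  mul_mem' := fun ha hb => ⟨H.mul_mem ha.1 hb.1, ha.2.mul hb.2⟩
  inv_mem' := fun ha => ⟨H.inv_mem ha.1, ha.2.inv⟩

theorem pm_iff [IsMulCommutative W] (g : normalizer (W : Set G)) :
    PM W (g : G) ↔ selfAct W g = 1 ∨ selfAct W g = -1 := by
  constructor
  · rintro (e | e)
    · exact Or.inl (AddMonoidHom.ext fun w => Additive.toMul.injective (Subtype.ext (e _ w.toMul.2)))
    · exact Or.inr (AddMonoidHom.ext fun w => Additive.toMul.injective (Subtype.ext (e _ w.toMul.2)))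
  · rintro (e | e)
    · exact Or.inl fun w hw => by rw [← selfAct_apply g ⟨w, hw⟩, e]; rfl
    · exact Or.inr fun w hw => by rw [← selfAct_apply g ⟨w, hw⟩, e]; rfl

variable [Finite G]

/-- The scalars in a nonsolvable subgroup lie in its core. -/
theorem Top.pm_le_core (h : Hyp x V) (T : Top x V H K L) (hW : Fpf x W) (hW2 : ¬ 2 ∣ Nat.card W) (hW1 : W ≠ ⊥)
    (hWn : H ≤ normalizer (W : Set G)) : pmGroup W H ≤ K := by
  refine T.core _ (fun g hg => hg.1) (fun g hg => Cfsg.Lib.Coprime.mem_normalizer_of_conj_mem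
    (fun a ha => ⟨H.mul_mem (H.mul_mem hg ha.1) (H.inv_mem hg), ha.2.conj (hWn hg)⟩)
    (fun a ha => ⟨H.mul_mem (H.mul_mem (H.inv_mem hg) ha.1) hg, by
      simpa using ha.2.conj (hWn (H.inv_mem hg))⟩)) ?_
  rintro ⟨-, e | e⟩
  · exact hW1 (eq_bot_iff.2 fun w hw => mem_bot.2 (hW.fix w hw (mul_inv_eq_iff_eq_mul.1 (e w hw)).symm))
  · obtain ⟨⟨w, hw⟩, hw1⟩ : ∃ w : W, w ≠ 1 := by
      haveI := (Subgroup.nontrivial_iff_ne_bot W).2 hW1
      exact exists_ne 1
    have h2 : w * w = 1 := by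
      have h1 : x * (x * (x * w * x⁻¹) * x⁻¹) * x⁻¹ = w := by rw [h.conj_conj]; group
      rw [e w hw, e _ (inv_mem hw), inv_inv, e w hw] at h1
      rw [← inv_eq_iff_mul_eq_one]; exact h1
    haveI : Fact (Nat.Prime 2) := ⟨Nat.prime_two⟩
    exact hW2 ((orderOf_eq_prime (by rw [pow_two]; exact h2) fun e' => hw1 (Subtype.ext e')) ▸
      Subgroup.orderOf_dvd_natCard W hw)

/-- A four-group of scalars modulo: an involution whose two conjugates give a scalar product is a scalar. -/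
theorem pm_of_four (h : Hyp x V) [IsMulCommutative W] (hW : Fpf x W) (hW2 : ¬ 2 ∣ Nat.card W) {e : G}
    (he : e ∈ normalizer (W : Set G)) (he2 : PM W (e * e)) (he2' : ∀ w ∈ W, e * e * w * (e * e)⁻¹ = w)
    (hp : PM W (e * (x * e * x⁻¹) * (x⁻¹ * e * x))) : PM W e := by
  have hx := inv_mem_normalizer h hW.inv
  set xe : normalizer (W : Set G) := ⟨x, hx⟩ with hxe
  set a : normalizer (W : Set G) := ⟨e, he⟩ with ha
  set X := selfAct W xe
  set E := selfAct W a with hE
  set E' := selfAct W (xe * a * xe⁻¹)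
  set E'' := selfAct W (xe⁻¹ * a * xe)
  have h1 : selfAct W (a * a) = 1 := AddMonoidHom.ext fun w =>
    Additive.toMul.injective (Subtype.ext (he2' _ w.toMul.2))
  have hEE : E * E = 1 := by rw [← map_mul]; exact h1
  have hc3 : xe * xe * xe = 1 := Subtype.ext (by
    show x * x * x = 1
    rw [h.mul_self, inv_mul_cancel])
  have hEE' : E' * E' = 1 := by
    rw [← map_mul, show xe * a * xe⁻¹ * (xe * a * xe⁻¹) = xe * (a * a) * xe⁻¹ by group, map_mul, map_mul, h1,
      mul_one, ← map_mul, mul_inv_cancel, map_one]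
  have hEE'' : E'' * E'' = 1 := by
    rw [← map_mul, show xe⁻¹ * a * xe * (xe⁻¹ * a * xe) = xe⁻¹ * (a * a) * xe by group, map_mul, map_mul, h1,
      mul_one, ← map_mul, inv_mul_cancel, map_one]
  have hxi : xe * xe = xe⁻¹ := eq_inv_of_mul_eq_one_left hc3
  have c1 : X * E = E' * X := by rw [← map_mul, ← map_mul]; exact congrArg _ (by group)
  have c2 : X * E' = E'' * X := by
    rw [← map_mul, ← map_mul]
    refine congrArg _ ?_
    rw [← mul_assoc, ← mul_assoc, hxi, mul_assoc (xe⁻¹ * a) xe xe, hxi]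
  have c3 : X * E'' = E * X := by rw [← map_mul, ← map_mul]; exact congrArg _ (by group)
  obtain ⟨ε, hε, hεe⟩ : ∃ ε : AddMonoid.End (Additive W), (ε = 1 ∨ ε = -1) ∧ E * E' * E'' = ε :=
    ⟨_, (pm_iff (a * (xe * a * xe⁻¹) * (xe⁻¹ * a * xe))).1 hp, by rw [← map_mul, ← map_mul]⟩
  have hεc : ∀ r : AddMonoid.End (Additive W), ε * r = r * ε := by
    rcases hε with rfl | rfl <;> intro r
    · rw [one_mul, mul_one]
    · exact AddMonoidHom.ext fun w => (map_neg r w).symm
  have hεε : ε * ε = 1 := by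
    rcases hε with rfl | rfl
    · rw [mul_one]
    · exact AddMonoidHom.ext fun w => neg_neg w
  have hp' : E * E' = ε * E'' := by
    calc E * E' = E * E' * (E'' * E'') := by rw [hEE'', mul_one]
      _ = ε * E'' := by rw [← mul_assoc, hεe]
  have sq : ∀ r : AddMonoid.End (Additive W), r * r = 1 → ε * r * (ε * r) = 1 := fun r hr => by
    rw [mul_assoc, ← mul_assoc r, ← hεc r, mul_assoc ε r r, hr, mul_one, hεε]
  have mv : ∀ r s : AddMonoid.End (Additive W), X * r = s * X → X * (ε * r) = ε * s * X := fun r s e' => by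
    rw [← mul_assoc, ← hεc X, mul_assoc, e', mul_assoc]
  have key := eq_one_of_four h hW hW2 (sq E hEE) (sq E' hEE') (sq E'' hEE'') (mv _ _ c1) (mv _ _ c2) (mv _ _ c3) (by
    rw [mul_assoc, ← mul_assoc E, ← hεc E, mul_assoc ε E E', hp', ← mul_assoc ε ε, hεε, one_mul])
  refine (pm_iff a).2 ?_
  have : E = ε := by rw [← one_mul E, ← hεε, mul_assoc, key, mul_one]
  rw [← hE, this]
  exact hε

/-- The top of order 168 cannot act on an abelian group of odd order on which its core acts by scalars and `x`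
without fixed points. -/
theorem Top.no_scalar_module {X₀ K₀ L₀ : Subgroup G} (h : Hyp x V) (T₀ : Top x V X₀ K₀ L₀)
    (h168 : Nat.card L₀ = 168 * Nat.card K₀) (hVL : V ⊓ L₀ ≤ K₀) (hτ : Tau x V τ) (hτH : τ ∈ X₀)
    [IsMulCommutative W] (hWf : Fpf x W) (hW2 : ¬ 2 ∣ Nat.card W) (hW1 : W ≠ ⊥)
    (hWn : X₀ ≤ normalizer (W : Set G))
    (hS : ∀ R ≤ K₀, IsPGroup 2 R → Inv x R → R ≤ pmGroup W X₀) : False := by
  haveI : Fact (Nat.Prime 2) := ⟨Nat.prime_two⟩
  have hC := T₀.pm_le_core h hWf hW2 hW1 hWn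
  -- the four-group of the top
  obtain ⟨M, hKM, hML, hMI, hMc⟩ := T₀.exists_four h h168
  have hMn : M ≤ normalizer (K₀ : Set G) := hML.trans (T₀.leL.trans T₀.normK)
  have hM3 : P3 M := by
    rw [P3, hMc]
    intro h3
    rcases (Nat.Prime.dvd_mul Nat.prime_three).1 h3 with e | e
    · omega
    · exact T₀.three e
  haveI : (K₀.subgroupOf M).Normal := (normal_subgroupOf_iff_le_normalizer hKM).2 hMn
  have hMq : Nat.card (M ⧸ K₀.subgroupOf M) = 2 ^ 2 := by
    have h1 := Subgroup.card_eq_card_quotient_mul_card_subgroup (K₀.subgroupOf M)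
    rw [Nat.card_congr (subgroupOfEquivOfLe hKM).toEquiv, hMc] at h1
    exact (Nat.eq_of_mul_eq_mul_right Nat.card_pos h1).symm.trans (by norm_num)
  have hMcomm : ∀ a ∈ M, ∀ b ∈ M, a * b * a⁻¹ * b⁻¹ ∈ K₀ := fun a ha b hb => by
    have h1 := IsPGroup.commutative_of_card_eq_prime_sq (p := 2) hMq
      (QuotientGroup.mk (⟨a, ha⟩ : M)) (QuotientGroup.mk ⟨b, hb⟩)
    have : (⟨a, ha⟩ * ⟨b, hb⟩ * (⟨a, ha⟩ : M)⁻¹ * (⟨b, hb⟩ : M)⁻¹) ∈ K₀.subgroupOf M := by
      rw [← QuotientGroup.eq_one_iff]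
      simp only [QuotientGroup.mk_mul, QuotientGroup.mk_inv]
      rw [h1]; group
    exact mem_subgroupOf.1 this
  obtain ⟨q, hq⟩ := exists_prime_orderOf_dvd_card' (G := M ⧸ K₀.subgroupOf M) 2 (by rw [hMq]; norm_num)
  obtain ⟨⟨m, hmM⟩, rfl⟩ := QuotientGroup.mk_surjective q
  have hmK : m ∉ K₀ := fun hm => by
    rw [(QuotientGroup.eq_one_iff _).2 (mem_subgroupOf.2 hm), orderOf_one] at hq; omega
  have hm2 : m * m ∈ K₀ := by
    have h1 := pow_orderOf_eq_one (QuotientGroup.mk (s := K₀.subgroupOf M) (⟨m, hmM⟩ : M))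
    rw [hq, pow_two, ← QuotientGroup.mk_mul, QuotientGroup.eq_one_iff] at h1
    exact mem_subgroupOf.1 h1
  obtain ⟨σ, hσ, hσL, hσK, hσ2⟩ := T₀.exists_tau h hτ hτH
  obtain ⟨g, hgL, hg⟩ := T₀.conj_involution h hσL hσK hσ2 (hML hmM) hmK hm2
  set i := g * σ * g⁻¹ with hi
  have hiM : i ∈ M := by
    rw [show i = (i * m⁻¹) * m by group]; exact mul_mem (hKM hg) hmM
  have hi2 : i * i = 1 := by rw [hi, show g * σ * g⁻¹ * (g * σ * g⁻¹) = g * (σ * σ) * g⁻¹ by group, hσ.sq]; group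
  have hiK : i ∉ K₀ := fun hiK => hσK (((mem_set_normalizer_iff.1 (T₀.normK (T₀.leL hgL))) σ).2 hiK)
  obtain ⟨U, hUM, -, hU2, hUI, hUc⟩ := exists_inv_sylow_ge h hMI hM3 2 (bot_le : (⊥ : Subgroup G) ≤ M)
    IsPGroup.of_bot (fun r hr => by rw [mem_bot.1 hr]; simp)
  obtain ⟨e, heU, he2, heK⟩ : ∃ e ∈ U, e * e = 1 ∧ e ∉ K₀ := by
    let P : Sylow 2 M := Sylow.ofCard (U.subgroupOf M) (by rw [Nat.card_congr (subgroupOfEquivOfLe hUM).toEquiv, hUc])
    have hp : IsPGroup 2 (zpowers (⟨i, hiM⟩ : M)) := IsPGroup.of_card (n := 1) (by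
      rw [Nat.card_zpowers, pow_one]
      exact orderOf_eq_prime (by rw [pow_two]; exact Subtype.ext hi2) fun e' => hiK (by
        rw [show i = ((⟨i, hiM⟩ : M) : G) from rfl, e']; exact K₀.one_mem))
    obtain ⟨Q, hQ⟩ := hp.exists_le_sylow
    obtain ⟨n, hn⟩ := MulAction.exists_smul_eq M Q P
    refine ⟨(n : G) * i * (n : G)⁻¹, ?_, ?_, fun hK' => hiK (((mem_set_normalizer_iff.1 (hMn n.2)) i).2 hK')⟩
    · have : n * ⟨i, hiM⟩ * n⁻¹ ∈ (P : Subgroup M) := by rw [← hn]; exact ⟨_, hQ (mem_zpowers _), rfl⟩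
      exact mem_subgroupOf.1 this
    · rw [show (n : G) * i * (n : G)⁻¹ * ((n : G) * i * (n : G)⁻¹) = (n : G) * (i * i) * (n : G)⁻¹ by group, hi2]; group
  have he' : x * e * x⁻¹ ∈ U := hUI e heU
  have he'' : x⁻¹ * e * x ∈ U := inv_back h hUI heU
  set p := e * (x * e * x⁻¹) * (x⁻¹ * e * x) with hp
  have hpU : p ∈ U := mul_mem (mul_mem heU he') he''
  have hpK : p ∈ K₀ := by
    have hxp : x * p * x⁻¹ * p⁻¹ ∈ K₀ := by
      rw [show x * p * x⁻¹ * p⁻¹ = (x * e * x⁻¹) * (x * (x * e * x⁻¹) * x⁻¹) * (x * (x⁻¹ * e * x) * x⁻¹) *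
        (e * (x * e * x⁻¹) * (x⁻¹ * e * x))⁻¹ by rw [hp]; group, h.conj_conj,
        show (x * e * x⁻¹) * (x⁻¹ * e * x) * (x * (x⁻¹ * e * x) * x⁻¹) * (e * (x * e * x⁻¹) * (x⁻¹ * e * x))⁻¹ =
          ((x * e * x⁻¹) * (x⁻¹ * e * x)) * e * ((x * e * x⁻¹) * (x⁻¹ * e * x))⁻¹ * e⁻¹ by group]
      exact hMcomm _ (hUM (mul_mem he' he'')) _ (hUM heU)
    obtain ⟨n, hn, hcn⟩ := Cfsg.Lib.Coprime.exists_fixed_of_commutator_mem (A := zpowers x) (N := K₀)
      (zpowers_le.2 T₀.mem_normK) (coprime_zpowers h T₀.three) (Or.inl (solvable_zpowers x))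
      (hMn (hUM hpU)) (fun a ha => by
        rcases h.mem_three ha with rfl | rfl | rfl
        · simp
        · exact hxp
        · have h1 := ((mem_set_normalizer_iff.1 (inv_mem T₀.mem_normK)) _).1 (inv_mem hxp)
          simpa [mul_assoc] using h1)
    have hpn := mem_V_of_fixed h hM3 (mul_mem (hUM hpU) (hKM hn)) (mem_centralizer_zpowers_iff.1 hcn)
    have h1 := hVL ⟨hpn, hML (mul_mem (hUM hpU) (hKM hn))⟩
    have := mul_mem h1 (inv_mem hn)
    rwa [mul_inv_cancel_right] at this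
  have hpS : p ∈ pmGroup W X₀ := hS (U ⊓ K₀) inf_le_right (hU2.to_le inf_le_left)
    (hUI.inf (SelfCentThree.inv_of_mem_normalizer T₀.mem_normK)) ⟨hpU, hpK⟩
  have heX : e ∈ X₀ := T₀.leL (hML (hUM heU))
  have hee : ∀ w ∈ W, e * e * w * (e * e)⁻¹ = w := fun w _ => by rw [he2]; simp
  exact heK (hC ⟨heX, pm_of_four h hWf hW2 (hWn heX) (Or.inl hee) hee hpS.2⟩)


/-- The centraliser has no odd core. -/
theorem Ctx.odd_core (c : Ctx x V τ) {u : G} (hu : u ∈ V) (hu1 : u ≠ 1)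
    (hns : ¬ Group.IsSolvable (centralizer ({u} : Set G)))
    (T : Top x V (centralizer ({u} : Set G)) K L) {R : Subgroup G} (hRK : R ≤ K)
    (hRn : centralizer ({u} : Set G) ≤ normalizer (R : Set G)) (hR2 : Odd (Nat.card R)) : R = ⊥ := by
  classical
  by_contra hR1
  have h := c.set.hyp
  haveI : Fact (Nat.Prime 2) := ⟨Nat.prime_two⟩
  set X := centralizer ({u} : Set G) with hXdef
  have hxX : x ∈ X := c.x_mem_cent hu
  have hVX : V ≤ X := c.V_le_cent hu
  have hτX : τ ∈ X := c.tau_mem_cent hu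
  have hKI : Inv x K := SelfCentThree.inv_of_mem_normalizer T.mem_normK
  obtain ⟨S, hSK, hS2, hSI, hSc, hSuniq⟩ := exists_two_core h hKI T.three
  have hKV : K ⊓ V ≤ S := hSuniq _ inf_le_left (isPGroup_of_le_V h inf_le_right) (inv_inf_V h hKI)
  -- the elements normalising the invariant Sylow subgroup
  have hτS : τ ∈ normalizer (S : Set G) := by
    have key : ∀ a ∈ S, τ * a * τ⁻¹ ∈ S := fun a ha => hSuniq (S.map (MulAut.conj τ).toMonoidHom)
      (by rintro _ ⟨r, hr, rfl⟩; exact ((mem_set_normalizer_iff.1 (T.normK hτX)) r).1 (hSK hr))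
      (hS2.map _) (inv_conj c.tau hSI h) ⟨a, ha, rfl⟩
    exact Cfsg.Lib.Coprime.mem_normalizer_of_conj_mem key fun a ha => by
      rw [c.tau.inv_eq]; simpa [c.tau.inv_eq] using key a ha
  have hVS : V ≤ normalizer (S : Set G) := fun v hv => by
    have key : ∀ v ∈ V, ∀ a ∈ S, v * a * v⁻¹ ∈ S := fun v hv a ha => hSuniq (S.map (MulAut.conj v).toMonoidHom)
      (by rintro _ ⟨r, hr, rfl⟩; exact ((mem_set_normalizer_iff.1 (T.normK (hVX hv))) r).1 (hSK hr))
      (hS2.map _) (by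
        rintro _ ⟨r, hr, rfl⟩
        refine ⟨x * r * x⁻¹, hSI r hr, ?_⟩
        simp only [MulEquiv.coe_toMonoidHom, MulAut.conj_apply]
        have hc := (h.comm v hv).eq
        rw [show v * (x * r * x⁻¹) * v⁻¹ = (v * x) * r * (v * x)⁻¹ by group, hc]; group) ⟨a, ha, rfl⟩
    exact Cfsg.Lib.Coprime.mem_normalizer_of_conj_mem (key v hv) fun a ha => by
      simpa using key v⁻¹ (inv_mem hv) a ha
  set X₀ := X ⊓ normalizer (S : Set G) with hX₀
  have hxX₀ : x ∈ X₀ := ⟨hxX, inv_mem_normalizer h hSI⟩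
  have hfr : ∀ g ∈ X, ∃ k ∈ K, k * g ∈ X₀ := by
    intro g hg
    have hgK := mem_set_normalizer_iff.1 (T.normK hg)
    have h1 : ∀ R' : Subgroup G, R' ≤ K → Nat.card R' = 2 ^ (Nat.card K).factorization 2 →
        Nat.card (R'.subgroupOf K) = 2 ^ (Nat.card K).factorization 2 := fun R' hR' hc => by
      rw [Nat.card_congr (subgroupOfEquivOfLe hR').toEquiv, hc]
    have hS' : S.map (MulAut.conj g).toMonoidHom ≤ K := by
      rintro _ ⟨r, hr, rfl⟩; exact (hgK r).1 (hSK hr)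
    let P₁ : Sylow 2 K := Sylow.ofCard (S.subgroupOf K) (h1 S hSK hSc)
    let P₂ : Sylow 2 K := Sylow.ofCard ((S.map (MulAut.conj g).toMonoidHom).subgroupOf K)
      (h1 _ hS' (by rw [card_map_of_injective (MulAut.conj g).injective, hSc]))
    obtain ⟨k, hk⟩ := MulAction.exists_smul_eq K P₂ P₁
    refine ⟨k, k.2, X.mul_mem (T.leH k.2) hg, ?_⟩
    have key : ∀ a ∈ S, (k : G) * g * a * ((k : G) * g)⁻¹ ∈ S := fun a ha => by
      have hm : (⟨g * a * g⁻¹, (hgK a).1 (hSK ha)⟩ : K) ∈ (P₂ : Subgroup K) :=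
        mem_subgroupOf.2 ⟨a, ha, rfl⟩
      have : k * ⟨g * a * g⁻¹, (hgK a).1 (hSK ha)⟩ * k⁻¹ ∈ (P₁ : Subgroup K) := by
        rw [← hk]; exact ⟨_, hm, rfl⟩
      have h2 : (k : G) * (g * a * g⁻¹) * (k : G)⁻¹ ∈ S := mem_subgroupOf.1 this
      rwa [show (k : G) * g * a * ((k : G) * g)⁻¹ = (k : G) * (g * a * g⁻¹) * (k : G)⁻¹ by group]
    haveI : Finite S := inferInstance
    have himg : S.map (MulAut.conj ((k : G) * g)).toMonoidHom = S := Subgroup.eq_of_le_of_card_ge
      (by rintro _ ⟨a, ha, rfl⟩; exact key a ha) (by rw [card_map_of_injective (MulAut.conj _).injective])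
    refine mem_set_normalizer_iff.2 fun a => ⟨key a, fun ha => ?_⟩
    rw [← himg] at ha
    obtain ⟨b, hb, e⟩ := ha
    exact (MulAut.conj ((k : G) * g)).injective e ▸ hb
  have hns₀ : ¬ Group.IsSolvable X₀ := fun hs => hns (by
    haveI := hs
    haveI : (K.subgroupOf X).Normal := (normal_subgroupOf_iff_le_normalizer T.leH).2 T.normK
    haveI : Group.IsSolvable (X ⧸ K.subgroupOf X) := Group.isSolvable_of_surjective
      (f := (QuotientGroup.mk' (K.subgroupOf X)).comp (inclusion (inf_le_left : X₀ ≤ X))) (fun q => by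
        obtain ⟨⟨g, hg⟩, rfl⟩ := QuotientGroup.mk'_surjective _ q
        obtain ⟨k, hk, hkg⟩ := hfr g hg
        refine ⟨⟨k * g, hkg⟩, ?_⟩
        show QuotientGroup.mk' (K.subgroupOf X) (⟨k, T.leH hk⟩ * ⟨g, hg⟩) = _
        rw [map_mul, show QuotientGroup.mk' (K.subgroupOf X) ⟨k, T.leH hk⟩ = 1 from
          (QuotientGroup.eq_one_iff _).2 (mem_subgroupOf.2 hk), one_mul])
    haveI : Group.IsSolvable K := solvable_of_prime_to_fifteen T.three fun h5' =>
      c.set.five (h5'.trans (card_subgroup_dvd_card K))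
    exact Group.isSolvable_of_ker_le_range (inclusion T.leH) (QuotientGroup.mk' (K.subgroupOf X))
      (by
        rw [QuotientGroup.ker_mk']
        exact fun a ha => ⟨⟨a, mem_subgroupOf.1 ha⟩, rfl⟩))
  obtain ⟨K₀, L₀, T₀⟩ := exists_top h c.set.five c.small
    (lt_of_le_of_lt (Nat.le_of_dvd Nat.card_pos (card_dvd_of_le (inf_le_left : X₀ ≤ X))) (c.centralizer_lt hu1))
    hxX₀ hns₀
  have hK₀ : K₀ ≤ K := by
    have hn : K₀ ≤ normalizer (K : Set G) := T₀.leH.trans (inf_le_left.trans T.normK)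
    refine le_sup_left.trans (T.core (K₀ ⊔ K) (sup_le (T₀.leH.trans inf_le_left) T.leH) ?_ ?_)
    · intro g hg
      obtain ⟨k, hk, hkg⟩ := hfr g hg
      rw [show g = k⁻¹ * (k * g) by group]
      exact mul_mem (le_normalizer (mem_sup_right (inv_mem hk)))
        (Cfsg.Lib.Coprime.le_normalizer_sup (T₀.normK) (inf_le_left.trans T.normK) hkg)
    · intro hx'
      have h3 : 3 ∣ Nat.card (K₀ ⊔ K : Subgroup G) := h.ord ▸ Subgroup.orderOf_dvd_natCard _ hx'
      have h1 := Cfsg.Lib.Coprime.card_sup_mul_card_inf hn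
      rw [sup_comm] at h3
      rcases (Nat.Prime.dvd_mul Nat.prime_three).1 (h1 ▸ h3.mul_right _) with e | e
      · exact T.three e
      · exact T₀.three e
  have hSX₀ : S ≤ X₀ := le_inf (hSK.trans T.leH) le_normalizer
  have hSn : X₀ ≤ normalizer (S : Set G) := inf_le_right
  have hSK₀ : S ≤ K₀ := T₀.core S hSX₀ hSn fun hx' => T.three (h.ord ▸ Subgroup.orderOf_dvd_natCard K (hSK hx'))
  have hK₀V : K₀ ⊓ V ≤ S := (inf_le_inf_right V hK₀).trans hKV
  have hSc₀ : Nat.card S = 2 ^ (Nat.card K₀).factorization 2 := by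
    refine le_antisymm ?_ ?_
    · obtain ⟨j, hj⟩ := IsPGroup.iff_card.1 hS2
      rw [hj]
      exact Nat.pow_le_pow_right (by norm_num)
        ((Nat.Prime.pow_dvd_iff_le_factorization Nat.prime_two Nat.card_pos.ne').1 (hj ▸ card_dvd_of_le hSK₀))
    · rw [hSc]
      exact Nat.pow_le_pow_right (by norm_num) ((Nat.factorization_le_iff_dvd Nat.card_pos.ne' Nat.card_pos.ne').2
        (card_dvd_of_le hK₀) 2)
  have hX₀u : X₀ ≤ centralizer ({u} : Set G) := inf_le_left
  have hVX₀ : V ≤ X₀ := le_inf hVX hVS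
  obtain ⟨h168, hVL⟩ := T₀.central_168 c hu hu1 hVX₀ ⟨hτX, hτS⟩ hX₀u hS2 hSK₀ hSn hK₀V hSc₀
  -- a minimal subgroup of the core
  set 𝒮 := {W : Subgroup G | W ≤ R ∧ W ≠ ⊥ ∧ X₀ ≤ normalizer (W : Set G)}
  obtain ⟨W, ⟨hWR, hW1, hWn⟩, hWmin⟩ := (Set.toFinite 𝒮).exists_minimal
    ⟨R, le_rfl, hR1, inf_le_left.trans hRn⟩
  have hmin : ∀ W' ≤ W, X₀ ≤ normalizer (W' : Set G) → W' = ⊥ ∨ W' = W := fun W' hle hn => by
    by_cases hb : W' = ⊥
    · exact Or.inl hb
    · exact Or.inr (le_antisymm hle (hWmin (show W' ∈ 𝒮 from ⟨hle.trans hWR, hb, hn⟩) hle))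
  have hWK : W ≤ K := hWR.trans hRK
  have hW2 : ¬ 2 ∣ Nat.card W := fun h2 => by
    have := h2.trans (card_dvd_of_le hWR)
    rw [Nat.odd_iff] at hR2
    omega
  haveI : Nontrivial W := (Subgroup.nontrivial_iff_ne_bot W).2 hW1
  haveI : Group.IsSolvable W := solvable_of_prime_to_fifteen (T.three.anti hWK) fun h5' =>
    c.set.five (h5'.trans (card_subgroup_dvd_card W))
  have hWc : (_root_.commutator W).map W.subtype = ⊥ := by
    haveI : (_root_.commutator W).Characteristic := inferInstance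
    refine (hmin _ (map_subtype_le _) (hWn.trans (normalizer_le_char _))).resolve_right fun e => ?_
    have h1 : _root_.commutator W = ⊤ := by
      apply Subgroup.map_injective W.subtype_injective
      rw [e, ← MonoidHom.range_eq_map, range_subtype]
    exact (Group.IsSolvable.commutator_lt_top_of_nontrivial W).ne h1
  haveI : IsMulCommutative W := ⟨⟨fun a b => by
    have h1 : (⁅a, b⁆ : W) ∈ _root_.commutator W := Subgroup.commutator_mem_commutator (mem_top a) (mem_top b)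
    rw [(Subgroup.map_eq_bot_iff_of_injective _ W.subtype_injective).1 hWc, mem_bot,
      commutatorElement_eq_one_iff_mul_comm] at h1
    exact h1⟩⟩
  have hWI : Inv x W := SelfCentThree.inv_of_mem_normalizer (hWn hxX₀)
  have hWf : Fpf x W := fpf_of h hWI (T.three.anti hWK) (eq_bot_iff.2 fun a ha => mem_bot.2 (by
    by_contra ha1
    exact hW2 ((orderOf_eq_prime (by rw [pow_two]; exact h.sq a ha.2) ha1) ▸ Subgroup.orderOf_dvd_natCard W ha.1)))
  have hu_cent : ∀ w ∈ W, u * w * u⁻¹ = w := fun w hw => by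
    rw [← mem_centralizer_singleton_iff.1 (T.leH (hWK hw) : w ∈ X), mul_inv_cancel_right]
  have hzu : ∀ a ∈ zpowers u, ∀ w ∈ W, a * w * a⁻¹ = w := fun a ha w hw => by
    obtain ⟨i, rfl⟩ := mem_zpowers_iff.1 ha
    have hcw : Commute u w := mul_inv_eq_iff_eq_mul.1 (hu_cent w hw)
    rw [(hcw.zpow_left i).eq, mul_inv_cancel_right]
  -- the two-core acts by scalars
  have hSpm : S ≤ pmGroup W X₀ := by
    rcases T₀.central_shape h c.set.five c.tau hu hu1 (hVX₀ hu) hX₀u hS2 hSK₀ hSn hK₀V with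
      ⟨hS, -⟩ | ⟨-, -, ⟨hS, hcV⟩ | ⟨hc16, -, -, hs⟩⟩
    · intro a ha
      exact ⟨hSX₀ ha, Or.inl (hzu a (hS ▸ ha))⟩
    · intro a ha
      refine ⟨hSX₀ ha, ?_⟩
      set C := W ⊓ centralizer ({a} : Set G)
      have hCn : X₀ ≤ normalizer (C : Set G) := by
        have key : ∀ g ∈ X₀, ∀ w ∈ C, g * w * g⁻¹ ∈ C := fun g hg w hw => by
          refine ⟨((mem_set_normalizer_iff.1 (hWn hg)) w).1 hw.1, mem_centralizer_singleton_iff.2 ?_⟩
          have hga : Commute g a := ((mem_centralizer_iff.1 (hcV hg)) a (hS ▸ ha)).symm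
          have hwa : Commute w a := mem_centralizer_singleton_iff.1 hw.2
          exact ((hga.mul_left hwa).mul_left hga.inv_left).eq
        exact fun g hg => Cfsg.Lib.Coprime.mem_normalizer_of_conj_mem (key g hg) fun w hw => by
          simpa using key g⁻¹ (X₀.inv_mem hg) w hw
      rcases hmin C inf_le_left hCn with e | e
      · refine Or.inr fun w hw => ?_
        have ha' := (mem_set_normalizer_iff.1 (hWn (hSX₀ ha))) w
        have hmem : w * (a * w * a⁻¹) ∈ C := by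
          refine ⟨mul_mem hw (ha'.1 hw), mem_centralizer_singleton_iff.2 ?_⟩
          have hwc : w * (a * w * a⁻¹) = a * w * a⁻¹ * w :=
            congrArg Subtype.val (mul_comm' (⟨w, hw⟩ : W) ⟨_, ha'.1 hw⟩)
          have haV : a ∈ V := hS ▸ ha
          calc w * (a * w * a⁻¹) * a = a * w * a⁻¹ * (w * a) := by rw [hwc, mul_assoc]
            _ = a * (w * (a⁻¹ * w * a)) := by group
            _ = a * (w * (a * w * a⁻¹)) := by rw [h.inv_eq haV]
        rw [e, mem_bot] at hmem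
        exact (eq_inv_of_mul_eq_one_right hmem)
      · refine Or.inl fun w hw => ?_
        have hwC : w ∈ C := e.symm ▸ hw
        rw [← mem_centralizer_singleton_iff.1 hwC.2, mul_inv_cancel_right]
    · have hSm : ∀ s ∈ S, ∀ w ∈ W, s⁻¹ * (x * s * x⁻¹) * w * (s⁻¹ * (x * s * x⁻¹))⁻¹ = w := by
        intro s hs'
        set f := s⁻¹ * (x * s * x⁻¹)
        have hfS : f ∈ S := mul_mem (inv_mem hs') (hSI s hs')
        have h2 := hzu _ (hs.sq_mem hfS)
        have hprod : f * (x * f * x⁻¹) * (x⁻¹ * f * x) = 1 := by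
          rw [← h.conj_conj f]
          calc f * (x * f * x⁻¹) * (x * (x * f * x⁻¹) * x⁻¹) = s⁻¹ * (x * (x * (x * s * x⁻¹) * x⁻¹) * x⁻¹) := by
                simp only [f]; group
            _ = 1 := by rw [h.conj_conj]; group
        have hf := pm_of_four h hWf hW2 (hWn (hSX₀ hfS)) (Or.inl h2) h2
          (by rw [hprod]; exact Or.inl fun w _ => by simp)
        -- an element inverting would have a trivial product
        rcases hf with hf | hf
        · exact hf
        · intro w hw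
          exfalso
          have hconj : ∀ v ∈ W, (x * f * x⁻¹) * v * (x * f * x⁻¹)⁻¹ = v⁻¹ := fun v hv => by
            rw [show (x * f * x⁻¹) * v * (x * f * x⁻¹)⁻¹ = x * (f * (x⁻¹ * v * x) * f⁻¹) * x⁻¹ by group,
              hf _ (inv_back h hWI hv)]
            group
          have hconj' : ∀ v ∈ W, (x⁻¹ * f * x) * v * (x⁻¹ * f * x)⁻¹ = v⁻¹ := fun v hv => by
            rw [show (x⁻¹ * f * x) * v * (x⁻¹ * f * x)⁻¹ = x⁻¹ * (f * (x * v * x⁻¹) * f⁻¹) * x by group,
              hf _ (hWI v hv)]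
            group
          obtain ⟨⟨v, hv⟩, hv1⟩ := exists_ne (1 : W)
          have h7 : f * (x * f * x⁻¹) * (x⁻¹ * f * x) * v * (f * (x * f * x⁻¹) * (x⁻¹ * f * x))⁻¹ = v⁻¹ := by
            have h8 : ∀ a b c' : G, a * b * c' * v * (a * b * c')⁻¹ = a * (b * (c' * v * c'⁻¹) * b⁻¹) * a⁻¹ :=
              fun a b c' => by group
            rw [h8,
              hconj' v hv, hconj _ (inv_mem hv), inv_inv, hf v hv]
          rw [hprod] at h7
          simp only [one_mul, inv_one, mul_one] at h7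
          exact hW2 ((orderOf_eq_prime (by rw [pow_two, mul_eq_one_iff_eq_inv]; exact h7)
            fun e' => hv1 (Subtype.ext e')) ▸ Subgroup.orderOf_dvd_natCard W hv)
      set D := S ⊓ centralizer (W : Set G)
      have hDn : X₀ ≤ normalizer (D : Set G) := by
        have key : ∀ g ∈ X₀, ∀ d ∈ D, g * d * g⁻¹ ∈ D := fun g hg d hd => by
          refine ⟨((mem_set_normalizer_iff.1 (hSn hg)) d).1 hd.1, mem_centralizer_iff.2 fun w hw => ?_⟩
          have hw' : g⁻¹ * w * g ∈ W := by simpa using ((mem_set_normalizer_iff.1 (hWn (X₀.inv_mem hg))) w).1 hw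
          have h1 := (mem_centralizer_iff.1 hd.2) _ hw'
          calc w * (g * d * g⁻¹) = g * ((g⁻¹ * w * g) * d) * g⁻¹ := by group
            _ = g * (d * (g⁻¹ * w * g)) * g⁻¹ := by rw [h1]
            _ = g * d * g⁻¹ * w := by group
        exact fun g hg => Cfsg.Lib.Coprime.mem_normalizer_of_conj_mem (key g hg) fun d hd => by
          simpa using key g⁻¹ (X₀.inv_mem hg) d hd
      rcases hs.minimal D (zpowers_le.2 ⟨hs.le (mem_zpowers u), mem_centralizer_iff.2 fun w hw =>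
          (mul_inv_eq_iff_eq_mul.1 (hu_cent w hw)).symm⟩) inf_le_left hDn with e | e
      · exfalso
        have hsub : S ≤ V := fun s hs' => by
          have hD' : s⁻¹ * (x * s * x⁻¹) ∈ zpowers u := e ▸ (⟨S.mul_mem (S.inv_mem hs') (hSI s hs'),
            mem_centralizer_iff.2 fun w hw => (mul_inv_eq_iff_eq_mul.1 (hSm s hs' w hw)).symm⟩ : _ ∈ D)
          have h1 := ((mem_set_normalizer_iff.1 (hs.norm₀ (hs.leH hs'))) _).1 hD'
          obtain ⟨n, hn, hnV⟩ := hs.fixed_lift h hxX₀ hs' (by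
            rwa [show s * (s⁻¹ * (x * s * x⁻¹)) * s⁻¹ = x * s * x⁻¹ * s⁻¹ by group] at h1)
          have := mul_mem hnV (inv_mem (zpowers_le.2 hu hn))
          rwa [mul_inv_cancel_right] at this
        have := Nat.le_of_dvd Nat.card_pos (card_dvd_of_le hsub)
        rcases h.card with e' | e' <;> omega
      · intro a ha
        have haD : a ∈ D := e.symm ▸ ha
        exact ⟨hSX₀ ha, Or.inl fun w hw => by rw [← (mem_centralizer_iff.1 haD.2) w hw, mul_inv_cancel_right]⟩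
  exact T₀.no_scalar_module h h168 hVL c.tau ⟨hτX, hτS⟩ hWf hW2 hW1 hWn
    fun R' hR' h2' hI' => (hSuniq R' (hR'.trans hK₀) h2' hI').trans hSpm

/-- The shapes of a nonsolvable centraliser of an element of `V`. -/
theorem Ctx.central_cases (c : Ctx x V τ) {u : G} (hu : u ∈ V) (hu1 : u ≠ 1)
    (hns : ¬ Group.IsSolvable (centralizer ({u} : Set G))) :
    ∃ K L : Subgroup G, Top x V (centralizer ({u} : Set G)) K L ∧ Nat.card L = 168 * Nat.card K ∧
      V ⊓ L ≤ K ∧ IsPGroup 2 K ∧ u ∈ K ∧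
      ((K = zpowers u ∧ Nat.card (centralizer ({u} : Set G)) = 168 * Nat.card V) ∨
        (Nat.card V = 4 ∧ K = V ∧ Nat.card (centralizer ({u} : Set G)) = 672 ∧
          centralizer ({u} : Set G) ≤ centralizer (V : Set G)) ∨
        (Nat.card V = 4 ∧ V ≤ K ∧ Nat.card K = 16 ∧ L = centralizer ({u} : Set G) ∧
          Nat.card (centralizer ({u} : Set G)) = 2688 ∧ Step (centralizer ({u} : Set G)) (zpowers u) K)) := by
  have h := c.set.hyp
  obtain ⟨K, L, T⟩ := c.exists_top_cent hu hu1 hns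
  set X := centralizer ({u} : Set G)
  have hKI : Inv x K := SelfCentThree.inv_of_mem_normalizer T.mem_normK
  have hτX : τ ∈ X := c.tau_mem_cent hu
  have hK2 : IsPGroup 2 K := core_isPGroup_two h c.set.five c.tau T.three hKI (T.normK hτX)
    fun R hR hn hodd => c.odd_core hu hu1 hns T hR (T.normK.trans hn) hodd
  have hVX : V ≤ X := c.V_le_cent hu
  have huK := T.center_mem_core h hu (hVX hu) le_rfl
  have hKc : Nat.card K = 2 ^ (Nat.card K).factorization 2 := by
    obtain ⟨n, hn⟩ := IsPGroup.iff_card.1 hK2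
    rw [hn, Nat.Prime.factorization_pow Nat.prime_two, Finsupp.single_eq_same]
  obtain ⟨h168, hVL⟩ := T.central_168 c hu hu1 hVX hτX le_rfl hK2 le_rfl T.normK inf_le_left hKc
  refine ⟨K, L, T, h168, hVL, hK2, huK, ?_⟩
  have hXc : Nat.card X * Nat.card (V ⊓ K : Subgroup G) = 168 * Nat.card K * Nat.card V := by
    have hle : X = L ⊔ V := le_antisymm (fun g hg => by
      obtain ⟨l, hl, v, hv, rfl⟩ := T.cover g hg
      exact mul_mem (mem_sup_left hl) (mem_sup_right hv.1)) (sup_le T.leL hVX)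
    have h1 := Cfsg.Lib.Coprime.card_sup_mul_card_inf (N := L) (H := V) (hVX.trans T.normL)
    rw [← hle, h168] at h1
    rw [show (V ⊓ K : Subgroup G) = L ⊓ V from le_antisymm (fun a ha => ⟨T.leK ha.2, ha.1⟩)
      (fun a ha => ⟨ha.2, hVL ⟨ha.2, ha.1⟩⟩)]
    exact h1
  rcases T.central_shape h c.set.five c.tau hu hu1 (hVX hu) le_rfl hK2 le_rfl T.normK inf_le_left with
    ⟨hK, -⟩ | ⟨h4, hVK, ⟨hK, hc⟩ | ⟨h16, -, hL, hs⟩⟩
  · refine Or.inl ⟨hK, ?_⟩
    rw [inf_eq_right.2 (hK ▸ zpowers_le.2 hu), hK, h.card_zpowers_V hu hu1] at hXc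
    omega
  · refine Or.inr (Or.inl ⟨h4, hK, ?_, hc⟩)
    rw [hK, inf_idem, h4] at hXc
    omega
  · refine Or.inr (Or.inr ⟨h4, hVK, h16, hL.symm, ?_, hs⟩)
    rw [inf_eq_left.2 hVK, h4, h16] at hXc
    omega

end Cfsg.Lib.ThreeFour
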