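import Cfsg.Agent.ThreeFour.Local.Fpf
import Cfsg.Agent.Coprime.Sylow
import Cfsg.Agent.Coprime.SolvableBasics
import Cfsg.Agent.Coprime.Fitting

/-!
Subgroups of order prime to three invariant under `x`, and the solvable subgroups containing `x`.
-/

set_option autoImplicit false
set_option linter.unusedSectionVars false
set_option linter.style.haveILetI false

namespace Cfsg.Lib.ThreeFour

open Subgroup
open Cfsg.Lib.SelfCentThree (Inv P3)

universe u

variable {G : Type u} [Group G] {x : G} {V K R : Subgroup G}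

theorem mem_centralizer_zpowers_iff {c : G} : c ∈ centralizer (zpowers x : Set G) ↔ Commute c x := by
  rw [mem_centralizer_iff]
  refine ⟨fun h => (h x (mem_zpowers x)).symm, fun h b hb => ?_⟩
  obtain ⟨k, rfl⟩ := mem_zpowers_iff.1 hb
  exact (h.zpow_right k).symm.eq

/-- The elements of `K` commuting with `x`. -/
theorem inv_inf_V (h : Hyp x V) (hI : Inv x K) : Inv x (K ⊓ V) := fun r hr => by
  have e : x * r * x⁻¹ = r := by rw [(h.comm r hr.2).symm.eq, mul_inv_cancel_right]
  rw [e]; exact hr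

theorem isPGroup_of_le_V (h : Hyp x V) (hR : R ≤ V) : IsPGroup 2 R := fun r =>
  ⟨1, Subtype.ext (by simpa [pow_two] using h.sq r (hR r.2))⟩

variable [Finite G]

theorem exists_inv_sylow_ge (h : Hyp x V) (hI : Inv x K) (hP : P3 K) (p : ℕ) [Fact p.Prime]
    (hRK : R ≤ K) (hR : IsPGroup p R) (hRI : Inv x R) :
    ∃ T : Subgroup G, T ≤ K ∧ R ≤ T ∧ IsPGroup p T ∧ Inv x T ∧
      Nat.card T = p ^ (Nat.card K).factorization p := by
  obtain ⟨P, hRP, hPx⟩ := Cfsg.Lib.Coprime.exists_invariant_sylow_ge (inv_zpowers_le h hI)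
    (coprime_zpowers h hP) (Or.inl (solvable_zpowers x)) p hRK hR (inv_zpowers_le h hRI)
  exact ⟨_, map_subtype_le _, hRP, P.2.map _, inv_of_le_normalizer hPx,
    by rw [Subgroup.card_map_of_injective K.subtype_injective, P.card_eq_multiplicity]⟩

/-- The invariant subgroups of full `p`-order are conjugate under `K ⊓ V`. -/
theorem inv_sylow_conj (h : Hyp x V) (hI : Inv x K) (hP : P3 K) (p : ℕ) [Fact p.Prime]
    {T T' : Subgroup G} (hT : T ≤ K) (hTI : Inv x T) (hTc : Nat.card T = p ^ (Nat.card K).factorization p)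
    (hT' : T' ≤ K) (hTI' : Inv x T') (hTc' : Nat.card T' = p ^ (Nat.card K).factorization p) :
    ∃ c ∈ K ⊓ V, ∀ t, t ∈ T' ↔ c⁻¹ * t * c ∈ T := by
  let P : Sylow p K := Sylow.ofCard (T.subgroupOf K)
    (by rw [Nat.card_congr (subgroupOfEquivOfLe hT).toEquiv, hTc])
  let Q : Sylow p K := Sylow.ofCard (T'.subgroupOf K)
    (by rw [Nat.card_congr (subgroupOfEquivOfLe hT').toEquiv, hTc'])
  have eP : (P : Subgroup K).map K.subtype = T := by
    simp only [P, Sylow.coe_ofCard, map_subgroupOf_eq_of_le hT]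
  have eQ : (Q : Subgroup K).map K.subtype = T' := by
    simp only [Q, Sylow.coe_ofCard, map_subgroupOf_eq_of_le hT']
  obtain ⟨c, hc, hcQ⟩ := Cfsg.Lib.Coprime.invariant_sylow_conj (inv_zpowers_le h hI)
    (coprime_zpowers h hP) (Or.inl (solvable_zpowers x)) p P Q
    (by rw [eP]; exact inv_zpowers_le h hTI) (by rw [eQ]; exact inv_zpowers_le h hTI')
  refine ⟨c, ⟨c.2, mem_V_of_fixed h hP c.2 (mem_centralizer_zpowers_iff.1 hc)⟩, fun t => ?_⟩
  have e1 := Cfsg.Lib.Coprime.map_subtype_smul c P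
  rw [hcQ, eQ, eP] at e1
  rw [e1, Cfsg.Lib.Coprime.mem_conjMap]

/-- An invariant subgroup of order prime to three has one invariant Sylow two-subgroup. -/
theorem exists_two_core (h : Hyp x V) (hI : Inv x K) (hP : P3 K) :
    ∃ T : Subgroup G, T ≤ K ∧ IsPGroup 2 T ∧ Inv x T ∧ Nat.card T = 2 ^ (Nat.card K).factorization 2 ∧
      ∀ R ≤ K, IsPGroup 2 R → Inv x R → R ≤ T := by
  haveI : Fact (Nat.Prime 2) := ⟨Nat.prime_two⟩
  obtain ⟨T, hTK, hVT, hT2, hTI, hTc⟩ := exists_inv_sylow_ge h hI hP 2 (inf_le_left : K ⊓ V ≤ K)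
    (isPGroup_of_le_V h inf_le_right) (inv_inf_V h hI)
  refine ⟨T, hTK, hT2, hTI, hTc, fun R hRK hR hRI => ?_⟩
  obtain ⟨T', hTK', hRT', -, hTI', hTc'⟩ := exists_inv_sylow_ge h hI hP 2 hRK hR hRI
  obtain ⟨c, hc, e⟩ := inv_sylow_conj h hI hP 2 hTK hTI hTc hTK' hTI' hTc'
  intro r hr
  have h1 := (e r).1 (hRT' hr)
  have hcT := hVT hc
  have h2 := mul_mem (mul_mem hcT h1) (inv_mem hcT)
  rwa [show c * (c⁻¹ * r * c) * c⁻¹ = r by group] at h2

/-- In a solvable subgroup containing `x` the core for the prime three has index three or six and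
contains every invariant subgroup of order prime to three. -/
theorem exists_solvable_core (h : Hyp x V) {H : Subgroup G} (hx : x ∈ H) [Group.IsSolvable H] :
    ∃ K : Subgroup G, K ≤ H ∧ P3 K ∧ H ≤ normalizer (K : Set G) ∧
      (Nat.card H = 3 * Nat.card K ∨ Nat.card H = 6 * Nat.card K) ∧
      ∀ R ≤ H, Inv x R → P3 R → R ≤ K := by
  haveI : Fact (Nat.Prime 3) := ⟨Nat.prime_three⟩
  set K₀ := Cfsg.pPrimeCore 3 H with hK₀
  haveI : Group.IsSolvable (H ⧸ K₀) := inferInstance
  have hP₀ : ¬ 3 ∣ Nat.card K₀ := fun h3 => by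
    have h1 : (Nat.card K₀).Coprime 3 := Cfsg.Lib.Components.coprime_card_pPrimeCore 3
    exact (Nat.prime_three.coprime_iff_not_dvd.1 h1.symm) h3
  set xH : H := ⟨x, hx⟩
  set f := QuotientGroup.mk' K₀
  have hxK : xH ∉ K₀ := fun hm => hP₀ (by
    have := Subgroup.orderOf_dvd_natCard K₀ hm
    rwa [Subgroup.orderOf_mk, h.ord] at this)
  have hfx : f xH ≠ 1 := fun e => hxK ((QuotientGroup.eq_one_iff xH).1 e)
  haveI : Nontrivial (H ⧸ K₀) := ⟨⟨f xH, 1, hfx⟩⟩
  set C := Cfsg.pCore 3 (H ⧸ K₀)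
  have hC : centralizer (C : Set (H ⧸ K₀)) ≤ C :=
    Cfsg.Lib.Coprime.centralizer_pCore_le 3 Cfsg.Lib.Coprime.pPrimeCore_quotient_eq_bot
  have hC1 : Nat.card C = 3 := by
    obtain ⟨n, hn⟩ := IsPGroup.iff_card.1 (Cfsg.Lib.Components.isPGroup_pCore (G := H ⧸ K₀) 3)
    have hd : Nat.card C ∣ Nat.card G :=
      ((card_subgroup_dvd_card C).trans (card_quotient_dvd_card K₀)).trans (card_subgroup_dvd_card H)
    have hn1 : n ≠ 0 := by
      rintro rfl
      have hb : C = ⊥ := eq_bot_of_card_eq C (by rw [hn, pow_zero])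
      have htop : centralizer (C : Set (H ⧸ K₀)) = ⊤ := eq_top_iff.2 fun y _ =>
        mem_centralizer_iff.2 fun z hz => by
          rw [hb, SetLike.mem_coe, mem_bot] at hz
          simp [hz]
      have := hC (htop ▸ mem_top (f xH))
      rw [hb, mem_bot] at this
      exact hfx this
    have hn2 : n < 2 := by
      by_contra hc
      exact h.not_nine ((pow_dvd_pow 3 (not_lt.1 hc)).trans (hn ▸ hd))
    rw [hn, show n = 1 by omega, pow_one]
  have hxC : f xH ∈ C := by
    have hy : orderOf (f xH) = 3 := orderOf_eq_prime (by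
      rw [← map_pow, show xH ^ 3 = 1 from Subtype.ext h.pow3, map_one]) hfx
    by_contra hm
    have hdis : zpowers (f xH) ⊓ C = ⊥ := by
      refine eq_bot_iff.2 fun z hz => mem_bot.2 ?_
      by_contra hz1
      apply hm
      have hle : zpowers (f xH) ⊓ C ≤ zpowers (f xH) := inf_le_left
      have hdv := Subgroup.card_dvd_of_le hle
      rw [Nat.card_zpowers, hy] at hdv
      have hne : Nat.card ↥(zpowers (f xH) ⊓ C) ≠ 1 := fun e => hz1 (by
        have := eq_bot_of_card_eq _ e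
        exact mem_bot.1 (this ▸ hz))
      have heq := Subgroup.eq_of_le_of_card_ge hle (by
        rw [Nat.card_zpowers, hy, ((Nat.dvd_prime Nat.prime_three).1 hdv).resolve_left hne])
      exact (le_of_eq heq.symm (mem_zpowers (f xH))).2
    have hcard : Nat.card ↥(C ⊔ zpowers (f xH)) = 9 := by
      have := Cfsg.Lib.Coprime.card_sup_mul_card_inf (N := C) (H := zpowers (f xH))
        (by rw [normalizer_eq_top]; exact le_top)
      rw [inf_comm] at this
      rw [hdis, card_bot, mul_one, hC1, Nat.card_zpowers, hy] at this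
      simpa using this
    exact h.not_nine ((hcard ▸ card_subgroup_dvd_card _).trans
      ((card_quotient_dvd_card K₀).trans (card_subgroup_dvd_card H)))
  have hidx : Nat.card (H ⧸ K₀) = 3 ∨ Nat.card (H ⧸ K₀) = 6 := by
    haveI : IsCyclic C := isCyclic_of_prime_card hC1
    set φ : (H ⧸ K₀) →* MulAut C := MulAut.conjNormal
    have hker : φ.ker ≤ C := fun y hy => hC (mem_centralizer_iff.2 fun z hz => by
      have : φ y ⟨z, hz⟩ = ⟨z, hz⟩ := by rw [MonoidHom.mem_ker.1 hy]; rfl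
      have h1 : y * z * y⁻¹ = z := by simpa [φ] using congrArg Subtype.val this
      exact (mul_inv_eq_iff_eq_mul.1 h1).symm)
    have h1 : Nat.card φ.ker ∣ 3 := (Subgroup.card_dvd_of_le hker).trans hC1.dvd
    have h2 : φ.ker.index ∣ 2 := by
      rw [index_ker]
      refine (card_subgroup_dvd_card _).trans ?_
      rw [IsCyclic.card_mulAut, hC1]
      decide
    have h3 := φ.ker.card_mul_index
    have h4 : 3 ∣ Nat.card (H ⧸ K₀) := hC1.symm.dvd.trans (card_subgroup_dvd_card C)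
    rcases (Nat.dvd_prime Nat.prime_three).1 h1 with e | e <;>
      rcases (Nat.dvd_prime Nat.prime_two).1 h2 with e' | e' <;> rw [e, e'] at h3 <;> omega
  refine ⟨K₀.map H.subtype, map_subtype_le _, ?_, ?_, ?_, fun R hRH hRI hR3 => ?_⟩
  · rw [P3, Subgroup.card_map_of_injective H.subtype_injective]; exact hP₀
  · intro g hg
    rw [mem_set_normalizer_iff]
    intro a
    constructor
    · rintro ⟨b, hb, rfl⟩
      exact ⟨⟨g, hg⟩ * b * ⟨g, hg⟩⁻¹, Normal.conj_mem inferInstance b hb _, by simp⟩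
    · rintro ⟨b, hb, e⟩
      refine ⟨⟨g, hg⟩⁻¹ * b * ⟨g, hg⟩, Normal.conj_mem' inferInstance b hb _, ?_⟩
      simp only [map_mul, map_inv, coe_subtype] at e ⊢
      rw [e]; group
  · rw [Subgroup.card_map_of_injective H.subtype_injective]
    have := Subgroup.card_eq_card_quotient_mul_card_subgroup K₀
    rcases hidx with e | e <;> rw [e] at this <;> omega
  · intro r hr
    set rH : H := ⟨r, hRH hr⟩
    set R' := (R.subgroupOf H).map f
    have hR' : ¬ 3 ∣ Nat.card R' := fun h3 => hR3 (h3.trans ((card_map_dvd _ _).trans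
      (Nat.card_congr (subgroupOfEquivOfLe hRH).toEquiv).dvd))
    have hdis : R' ⊓ C = ⊥ := by
      refine inf_eq_bot_of_coprime ?_
      rw [hC1]
      exact (Nat.prime_three.coprime_iff_not_dvd.2 hR').symm
    have hcm : f xH * f rH * (f xH)⁻¹ * (f rH)⁻¹ ∈ R' ⊓ C := by
      refine ⟨?_, ?_⟩
      · refine ⟨xH * rH * xH⁻¹ * rH⁻¹, mem_subgroupOf.2 (mul_mem (hRI r hr) (inv_mem hr)), by simp⟩
      · rw [show f xH * f rH * (f xH)⁻¹ * (f rH)⁻¹ = f xH * (f rH * (f xH)⁻¹ * (f rH)⁻¹) by group]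
        exact mul_mem hxC (Normal.conj_mem inferInstance _ (inv_mem hxC) _)
    rw [hdis, mem_bot] at hcm
    have hrC : f rH ∈ C := by
      refine hC (mem_centralizer_iff.2 fun z hz => ?_)
      have hz' : z ∈ zpowers (f xH) := by
        have hle : zpowers (f xH) ≤ C := zpowers_le.2 hxC
        have heq := Subgroup.eq_of_le_of_card_ge hle (by
          rw [hC1, Nat.card_zpowers, orderOf_eq_prime (p := 3) (by
            rw [← map_pow, show xH ^ 3 = 1 from Subtype.ext h.pow3, map_one]) hfx])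
        exact heq ▸ hz
      obtain ⟨k, rfl⟩ := mem_zpowers_iff.1 hz'
      have hcc : Commute (f xH) (f rH) := mul_inv_eq_iff_eq_mul.1 (mul_inv_eq_one.1 hcm)
      exact (hcc.zpow_left k).eq
    have h1 : f rH ∈ R' ⊓ C := ⟨⟨rH, mem_subgroupOf.2 hr, rfl⟩, hrC⟩
    rw [hdis, mem_bot] at h1
    exact ⟨rH, (QuotientGroup.eq_one_iff rH).1 h1, rfl⟩

end Cfsg.Lib.ThreeFour
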