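import Cfsg.Agent.ThreeFour.Local.SimpleTop
import Cfsg.Agent.ThreeFour.Local.Invariant
import Cfsg.Agent.ThreeFour.Solvable

/-!
The structure of a nonsolvable subgroup containing `x`.
-/

set_option autoImplicit false
set_option linter.unusedSectionVars false
set_option linter.style.haveILetI false

namespace Cfsg.Lib.ThreeFour

open Subgroup
open Cfsg.Lib.SelfCentThree (Inv P3)

universe u

variable {G : Type u} [Group G] {x : G} {V : Subgroup G}

/-- `L / K` is the simple top of `H`, of order 168 or 1092. -/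
structure Top (x : G) (V H K L : Subgroup G) : Prop where
  leK : K ≤ L
  leL : L ≤ H
  three : P3 K
  mem : x ∈ L
  normK : H ≤ normalizer (K : Set G)
  normL : H ≤ normalizer (L : Set G)
  index : Nat.card L = 168 * Nat.card K ∧ V ⊓ L ≤ K ∨ Nat.card L = 1092 * Nat.card K ∧ ¬ V ⊓ L ≤ K
  cover : ∀ h ∈ H, ∃ l ∈ L, ∃ u ∈ V ⊓ H, h = l * u
  core : ∀ R ≤ H, H ≤ normalizer (R : Set G) → x ∉ R → R ≤ K
  simple : ∀ R ≤ L, K ≤ R → L ≤ normalizer (R : Set G) → R = K ∨ R = L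
  inverter : ∃ g ∈ L, g * x * g⁻¹ = x⁻¹

theorem Top.x_not_mem {H K L : Subgroup G} (h : Hyp x V) (T : Top x V H K L) : x ∉ K := fun hx =>
  T.three (h.ord ▸ Subgroup.orderOf_dvd_natCard K hx)

variable [Finite G]

theorem le_normalizer_map_subtype {H : Subgroup G} {R : Subgroup H} [R.Normal] :
    H ≤ normalizer (R.map H.subtype : Set G) := fun g hg => by
  rw [mem_set_normalizer_iff]
  refine fun a => ⟨?_, ?_⟩
  · rintro ⟨b, hb, rfl⟩
    exact ⟨⟨g, hg⟩ * b * ⟨g, hg⟩⁻¹, Normal.conj_mem inferInstance b hb _, by simp⟩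
  · rintro ⟨b, hb, e⟩
    refine ⟨⟨g, hg⟩⁻¹ * b * ⟨g, hg⟩, Normal.conj_mem' inferInstance b hb _, ?_⟩
    simp only [map_mul, map_inv, coe_subtype] at e ⊢
    rw [e]; group

/-- An element inverting `x` modulo `K` can be corrected to invert `x`. -/
theorem exists_conj_inv (h : Hyp x V) {K : Subgroup G} (hK : P3 K) (hxK : x ∈ normalizer (K : Set G))
    {g : G} (hg : g * x * g⁻¹ * x ∈ K) : ∃ k ∈ K, (k * g) * x * (k * g)⁻¹ = x⁻¹ := by
  haveI : Fact (Nat.Prime 3) := ⟨Nat.prime_three⟩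
  have hle : zpowers x ≤ normalizer (K : Set G) := zpowers_le.2 hxK
  set M := zpowers x ⊔ K with hM
  have hMc : Nat.card M = 3 * Nat.card K := by
    have h1 := Cfsg.Lib.Coprime.card_sup_mul_card_inf hle
    rw [inf_eq_bot_of_coprime (by
      rw [Nat.card_zpowers, h.ord]; exact (Nat.prime_three.coprime_iff_not_dvd.2 hK).symm),
      card_bot, mul_one, Nat.card_zpowers, h.ord, sup_comm] at h1
    rw [hM, h1, mul_comm]
  have h1 : g * x * g⁻¹ ∈ M := by
    rw [show g * x * g⁻¹ = (g * x * g⁻¹ * x) * x⁻¹ by group]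
    exact mul_mem (mem_sup_right hg) (mem_sup_left (inv_mem (mem_zpowers x)))
  have hfac : (Nat.card M).factorization 3 = 1 := by
    rw [hMc, Nat.factorization_mul (by norm_num) Nat.card_pos.ne', Finsupp.add_apply,
      Nat.Prime.factorization_self Nat.prime_three, Nat.factorization_eq_zero_of_not_dvd hK]
  have hS : ∀ z : M, orderOf z = 3 → ∃ P : Sylow 3 M, (P : Subgroup M) = zpowers z := fun z hz =>
    ⟨Sylow.ofCard (zpowers z) (by rw [Nat.card_zpowers, hz, hfac, pow_one]), rfl⟩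
  obtain ⟨P, hP⟩ := hS ⟨x, mem_sup_left (mem_zpowers x)⟩ (by rw [Subgroup.orderOf_mk, h.ord])
  obtain ⟨P', hP'⟩ := hS ⟨g * x * g⁻¹, h1⟩ (by
    rw [Subgroup.orderOf_mk, show g * x * g⁻¹ = MulAut.conj g x from rfl, MulEquiv.orderOf_eq, h.ord])
  obtain ⟨m, hm⟩ := MulAction.exists_smul_eq M P' P
  have hm' : (m : G) ∈ ((zpowers x ⊔ K : Subgroup G) : Set G) := m.2
  rw [Subgroup.coe_mul_of_left_le_normalizer_right _ _ hle] at hm'
  obtain ⟨i, hi, k, hk, hik : i * k = (m : G)⟩ := hm'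
  refine ⟨k, hk, ?_⟩
  have h2 : (m : G) * (g * x * g⁻¹) * (m : G)⁻¹ ∈ zpowers x := by
    have : m * ⟨g * x * g⁻¹, h1⟩ * m⁻¹ ∈ zpowers (⟨x, mem_sup_left (mem_zpowers x)⟩ : M) := by
      rw [← hP, ← hm, Sylow.coe_subgroup_smul]
      exact ⟨_, hP'.symm ▸ mem_zpowers _, rfl⟩
    obtain ⟨j, hj⟩ := mem_zpowers_iff.1 this
    exact mem_zpowers_iff.2 ⟨j, by simpa using congrArg Subtype.val hj⟩
  have h3 : (k * g) * x * (k * g)⁻¹ ∈ zpowers x := by
    have h4 := mul_mem (mul_mem (inv_mem hi) h2) hi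
    rwa [← hik, show i⁻¹ * (i * k * (g * x * g⁻¹) * (i * k)⁻¹) * i = (k * g) * x * (k * g)⁻¹ by group] at h4
  rcases h.mem_three h3 with e | e | e
  · exact absurd (conj_eq_one_iff.1 e) h.ne_one
  · exfalso
    have h5 : g * x * g⁻¹ * x = k⁻¹ * (x * k * x⁻¹) * (x * x) := by
      calc g * x * g⁻¹ * x = k⁻¹ * ((k * g) * x * (k * g)⁻¹) * k * x := by group
        _ = k⁻¹ * x * k * x := by rw [e]
        _ = k⁻¹ * (x * k * x⁻¹) * (x * x) := by group
    rw [h5, mul_mem_cancel_left (mul_mem (inv_mem hk) (((mem_set_normalizer_iff.1 hxK) k).1 hk)),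
      h.mul_self, inv_mem_iff] at hg
    exact hK (h.ord ▸ Subgroup.orderOf_dvd_natCard K hg)
  · exact e

/-- A nonsolvable subgroup containing `x` has a simple top. -/
theorem exists_top (h : Hyp x V) (h5 : ¬ 5 ∣ Nat.card G) {n : ℕ} (IH : Small.{u} n) {H : Subgroup G}
    (hn : Nat.card H < n) (hx : x ∈ H) (hns : ¬ Group.IsSolvable H) :
    ∃ K L : Subgroup G, Top x V H K L := by
  haveI : Fact (Nat.Prime 3) := ⟨Nat.prime_three⟩
  set K₀ := Cfsg.pPrimeCore 3 H with hK₀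
  have hP₀ : ¬ 3 ∣ Nat.card K₀ :=
    Nat.prime_three.coprime_iff_not_dvd.1 (Cfsg.Lib.Components.coprime_card_pPrimeCore 3).symm
  set xH : H := ⟨x, hx⟩
  set f := QuotientGroup.mk' K₀ with hf
  set W := ((V ⊓ H).subgroupOf H).map f with hW
  have hdH : Nat.card H ∣ Nat.card G := card_subgroup_dvd_card H
  have hdQ : Nat.card (H ⧸ K₀) ∣ Nat.card G := (card_quotient_dvd_card K₀).trans hdH
  have hy : orderOf (f xH) = 3 := orderOf_eq_prime (by
    rw [← map_pow, show xH ^ 3 = 1 from Subtype.ext h.pow3, map_one]) fun e => hP₀ (by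
      have := Subgroup.orderOf_dvd_natCard K₀ ((QuotientGroup.eq_one_iff xH).1 e)
      rwa [Subgroup.orderOf_mk, h.ord] at this)
  have hO : ∀ R : Subgroup (H ⧸ K₀), R.Normal → ¬ 3 ∣ Nat.card R → R = ⊥ := fun R hR h3 => by
    haveI := hR
    refine le_bot_iff.1 ?_
    rw [← Cfsg.Lib.Coprime.pPrimeCore_quotient_eq_bot (G := H) (p := 3)]
    exact Cfsg.Lib.Components.le_pPrimeCore (Nat.prime_three.coprime_iff_not_dvd.2 h3).symm
  have hcent : ∀ q, Commute q (f xH) → ∃ i ∈ zpowers (f xH), ∃ w ∈ W, q = i * w := by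
    intro q hq
    obtain ⟨a, rfl⟩ : ∃ a, f a = q := QuotientGroup.mk'_surjective K₀ q
    have hc : xH * a * xH⁻¹ * a⁻¹ ∈ K₀ := by
      rw [← QuotientGroup.eq_one_iff]
      show f (xH * a * xH⁻¹ * a⁻¹) = 1
      simp only [map_mul, map_inv]
      rw [← hq.eq]; group
    obtain ⟨k, hk, hck⟩ := Cfsg.Lib.Coprime.exists_fixed_of_commutator_mem (A := zpowers xH) (N := K₀)
      (by rw [normalizer_eq_top]; exact le_top) (by
        rw [Nat.card_zpowers, Subgroup.orderOf_mk, h.ord]; exact Nat.prime_three.coprime_iff_not_dvd.2 hP₀)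
      (Or.inl (solvable_zpowers xH)) (by rw [normalizer_eq_top]; exact mem_top a) (fun b hb => by
        obtain ⟨j, rfl⟩ := mem_zpowers_iff.1 hb
        rw [← QuotientGroup.eq_one_iff]
        show f (xH ^ j * a * (xH ^ j)⁻¹ * a⁻¹) = 1
        simp only [map_mul, map_inv, map_zpow]
        rw [(hq.zpow_right j).symm.eq]; group)
    have hc' : Commute ((a * k : H) : G) x := congrArg Subtype.val (mem_centralizer_zpowers_iff.1 hck).eq
    obtain ⟨i, hi, u, hu, e⟩ := h.cent _ hc'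
    obtain ⟨j, rfl⟩ := mem_zpowers_iff.1 hi
    have huH : u ∈ H := by
      rw [show u = (x ^ j)⁻¹ * ((a * k : H) : G) by rw [e, inv_mul_cancel_left]]
      exact mul_mem (inv_mem (zpow_mem hx j)) (a * k).2
    refine ⟨f xH ^ j, zpow_mem (mem_zpowers _) j, f ⟨u, huH⟩, ⟨_, mem_subgroupOf.2 ⟨hu, huH⟩, rfl⟩, ?_⟩
    rw [← map_zpow, ← map_mul, show xH ^ j * ⟨u, huH⟩ = a * k from Subtype.ext (by simpa using e.symm),
      map_mul, show f k = 1 from (QuotientGroup.eq_one_iff k).2 hk, mul_one]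
  have hns' : ¬ Group.IsSolvable (H ⧸ K₀) := fun hs => hns (by
    haveI := hs
    haveI : Group.IsSolvable K₀ := solvable_of_prime_to_fifteen hP₀ fun h5' =>
      h5 ((h5'.trans (card_subgroup_dvd_card K₀)).trans hdH)
    exact Group.isSolvable_of_ker_le_range K₀.subtype f (by simp [hf]))
  obtain ⟨N, hNn, hNs, hyN, hNc, ⟨g, hgN, hg⟩, hsup, hmin⟩ := exists_simple_top IH
    (lt_of_le_of_lt (Nat.le_of_dvd Nat.card_pos (card_quotient_dvd_card K₀)) hn) (W := W) hy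
    (fun h9 => h.not_nine (h9.trans hdQ)) (fun h5' => h5 (h5'.trans hdQ)) hO hcent
    (by
      rintro _ ⟨w, hw, rfl⟩
      exact (show Commute w xH from Subtype.ext (h.comm _ (mem_subgroupOf.1 hw).1).eq).map f)
    (by
      rintro _ ⟨w, hw, rfl⟩
      rw [← map_mul, show w * w = 1 from Subtype.ext (h.sq _ (mem_subgroupOf.1 hw).1), map_one])
    ((card_map_dvd _ _).trans ((Nat.card_congr (subgroupOfEquivOfLe (inf_le_right : V ⊓ H ≤ H)).toEquiv).dvd.trans
      ((card_dvd_of_le inf_le_left).trans (by rcases h.card with e | e <;> rw [e]; norm_num)))) hns'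
  haveI := hNn
  set K := K₀.map H.subtype with hK
  set L₀ := N.comap f with hL₀
  set L := L₀.map H.subtype with hL
  have hmemK : ∀ a : H, (a : G) ∈ K ↔ f a = 1 := fun a =>
    ⟨fun ⟨b, hb, e⟩ => (QuotientGroup.eq_one_iff a).2 (H.subtype_injective e ▸ hb),
      fun e => ⟨a, (QuotientGroup.eq_one_iff a).1 e, rfl⟩⟩
  have hmemL : ∀ a : H, (a : G) ∈ L ↔ f a ∈ N := fun a =>
    ⟨fun ⟨b, hb, e⟩ => H.subtype_injective e ▸ hb, fun e => ⟨a, e, rfl⟩⟩
  have hWN : W ⊓ N = ⊥ ↔ V ⊓ L ≤ K := by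
    refine ⟨fun e u hu => ?_, fun e => eq_bot_iff.2 ?_⟩
    · have huH : u ∈ H := map_subtype_le _ hu.2
      refine (hmemK ⟨u, huH⟩).2 (mem_bot.1 (e ▸ ⟨⟨_, mem_subgroupOf.2 ⟨hu.1, huH⟩, rfl⟩,
        (hmemL ⟨u, huH⟩).1 hu.2⟩ : f ⟨u, huH⟩ ∈ (⊥ : Subgroup _)))
    · rintro _ ⟨⟨w, hw, rfl⟩, hwN⟩
      exact mem_bot.2 ((hmemK w).1 (e ⟨(mem_subgroupOf.1 hw).1, (hmemL w).2 hwN⟩))
  have hLc : Nat.card L = Nat.card N * Nat.card K := by
    rw [hL, hK, card_map_of_injective H.subtype_injective, card_map_of_injective H.subtype_injective, hL₀,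
      hf, Cfsg.Lib.Coprime.card_comap_mk', mul_comm]
  have hxL : x ∈ L := (hmemL xH).2 hyN
  refine ⟨K, L, map_mono (fun a ha => by
      show f a ∈ N
      rw [show f a = 1 from (QuotientGroup.eq_one_iff a).2 ha]; exact N.one_mem),
    map_subtype_le _, ?_, hxL, le_normalizer_map_subtype, le_normalizer_map_subtype, ?_, ?_, ?_, ?_, ?_⟩
  · rw [P3, hK, card_map_of_injective H.subtype_injective]; exact hP₀
  · rcases hNc with ⟨e, e'⟩ | ⟨e, e'⟩
    · exact Or.inl ⟨by rw [hLc, e], hWN.1 e'⟩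
    · refine Or.inr ⟨by rw [hLc, e], fun hle => ?_⟩
      rw [hWN.2 hle, card_bot] at e'
      omega
  · intro a ha
    have hm : f ⟨a, ha⟩ ∈ ((N ⊔ W : Subgroup (H ⧸ K₀)) : Set (H ⧸ K₀)) := by rw [hsup]; trivial
    rw [Subgroup.normal_mul] at hm
    obtain ⟨b, hb, w, ⟨u, hu, rfl⟩, e : b * f u = f ⟨a, ha⟩⟩ := hm
    refine ⟨a * (u : G)⁻¹, (hmemL (⟨a, ha⟩ * u⁻¹)).2 ?_, u, ?_, by rw [inv_mul_cancel_right]⟩
    · rw [map_mul, map_inv, ← e, mul_inv_cancel_right]; exact hb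
    · exact mem_subgroupOf.1 hu
  · intro R hRH hRn hxR a ha
    haveI hRn' : (R.subgroupOf H).Normal := (normal_subgroupOf_iff_le_normalizer hRH).2 hRn
    haveI hmn : ((R.subgroupOf H).map f).Normal := hRn'.map f (QuotientGroup.mk'_surjective K₀)
    refine (hmemK ⟨a, hRH ha⟩).2 ?_
    by_contra hne
    have hne' : (R.subgroupOf H).map f ≠ ⊥ := fun e => hne (mem_bot.1
      (e ▸ ⟨⟨a, hRH ha⟩, mem_subgroupOf.2 ha, rfl⟩ : f ⟨a, hRH ha⟩ ∈ (⊥ : Subgroup _)))
    obtain ⟨r, hr, hrx⟩ := hmin _ hmn hne' hyN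
    have h1 : r⁻¹ * xH ∈ K₀ := (QuotientGroup.eq_one_iff _).1 (by
      show f (r⁻¹ * xH) = 1
      rw [map_mul, map_inv, hrx, inv_mul_cancel])
    set M := R.subgroupOf H with hM
    have hxM : QuotientGroup.mk' M xH ∈ K₀.map (QuotientGroup.mk' M) := ⟨r⁻¹ * xH, h1, by
      rw [map_mul, map_inv, show QuotientGroup.mk' M r = 1 from (QuotientGroup.eq_one_iff r).2 hr]; group⟩
    have h3 : QuotientGroup.mk' M xH = 1 := by
      have hd := (Subgroup.orderOf_dvd_natCard _ hxM).trans (card_map_dvd _ _)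
      have hd3 : orderOf (QuotientGroup.mk' M xH) ∣ 3 := orderOf_dvd_of_pow_eq_one (by
        rw [← map_pow, show xH ^ 3 = 1 from Subtype.ext h.pow3, map_one])
      rcases (Nat.dvd_prime Nat.prime_three).1 hd3 with e | e
      · exact orderOf_eq_one_iff.1 e
      · exact absurd (e ▸ hd) hP₀
    exact hxR (mem_subgroupOf.1 ((QuotientGroup.eq_one_iff xH).1 h3))
  · intro R hRL hKR hRn
    haveI := hNs
    set R' := ((R.subgroupOf H).map f).subgroupOf N with hR'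
    have hRH : R ≤ H := hRL.trans (map_subtype_le _)
    have hmemR : ∀ a : H, f a ∈ (R.subgroupOf H).map f → (a : G) ∈ R := by
      rintro a ⟨b, hb, e⟩
      have h1 : (b⁻¹ * a : H) ∈ K₀ := (QuotientGroup.eq_one_iff _).1 (by
        show f (b⁻¹ * a) = 1
        rw [map_mul, map_inv, e, inv_mul_cancel])
      have h2 := mul_mem (mem_subgroupOf.1 hb) (hKR ((hmemK (b⁻¹ * a)).2 ((QuotientGroup.eq_one_iff _).2 h1)))
      rwa [← Subgroup.coe_mul, mul_inv_cancel_left] at h2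
    have hn' : R'.Normal := by
      refine ⟨fun r hr g => ?_⟩
      obtain ⟨b, hb, e⟩ := mem_subgroupOf.1 hr
      obtain ⟨c, hc⟩ : ∃ c, f c = (g : H ⧸ K₀) := QuotientGroup.mk'_surjective K₀ _
      have hcL : (c : G) ∈ L := (hmemL c).2 (by rw [hc]; exact g.2)
      exact mem_subgroupOf.2 ⟨c * b * c⁻¹,
        mem_subgroupOf.2 (((mem_set_normalizer_iff.1 (hRn hcL)) (b : G)).1 (mem_subgroupOf.1 hb)),
        by rw [map_mul, map_mul, map_inv, hc, e]; rfl⟩
    rcases hn'.eq_bot_or_eq_top with e | e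
    · refine Or.inl (le_antisymm (fun a ha => (hmemK ⟨a, hRH ha⟩).2 ?_) hKR)
      have h1 : (⟨f ⟨a, hRH ha⟩, (hmemL ⟨a, hRH ha⟩).1 (hRL ha)⟩ : N) ∈ R' :=
        mem_subgroupOf.2 ⟨⟨a, hRH ha⟩, mem_subgroupOf.2 ha, rfl⟩
      rw [e, mem_bot] at h1
      exact congrArg Subtype.val h1
    · refine Or.inr (le_antisymm hRL fun a ha => hmemR ⟨a, map_subtype_le _ ha⟩ ?_)
      have h1 : (⟨f ⟨a, map_subtype_le _ ha⟩, (hmemL ⟨a, map_subtype_le _ ha⟩).1 ha⟩ : N) ∈ R' := by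
        rw [e]; exact mem_top _
      exact mem_subgroupOf.1 h1
  · obtain ⟨a, rfl⟩ : ∃ a, f a = g := QuotientGroup.mk'_surjective K₀ g
    have h1 : (a : G) * x * (a : G)⁻¹ * x ∈ K := (hmemK (a * xH * a⁻¹ * xH)).2 (by
      rw [map_mul, map_mul, map_mul, map_inv, hg, inv_mul_cancel])
    obtain ⟨k, hk, e⟩ := exists_conj_inv h (by rw [P3, card_map_of_injective H.subtype_injective]; exact hP₀)
      (le_normalizer_map_subtype hx) h1
    refine ⟨k * a, mul_mem ?_ ((hmemL a).2 hgN), e⟩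
    obtain ⟨b, hb, rfl⟩ := hk
    exact (hmemL b).2 (by rw [show f b = 1 from (QuotientGroup.eq_one_iff b).2 hb]; exact N.one_mem)

end Cfsg.Lib.ThreeFour
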