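import Cfsg.Agent.ThreeFour.Local.Core
import Cfsg.Agent.ThreeFour.Local.Top

/-!
The standing hypotheses of the local analysis.
-/

set_option autoImplicit false
set_option linter.unusedSectionVars false
set_option linter.style.haveILetI false

namespace Cfsg.Lib.ThreeFour

open Subgroup
open Cfsg.Lib.SelfCentThree (Inv P3)

universe u

variable {G : Type u} [Group G] [Finite G] {x τ : G} {V : Subgroup G}

/-- The hypotheses of the local analysis of a minimal counterexample. -/
structure Ctx (x : G) (V : Subgroup G) (τ : G) : Prop where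
  set : Setting x V
  tau : Tau x V τ
  meet : ∀ t : G, orderOf t = 2 → ∃ w ∈ V, IsConj t (τ * w)
  small : Small.{u} (Nat.card G)

theorem Ctx.of_principal {F : ℕ} {h : G → ℤ} (S : Setting x V) (ht : Tau x V τ) (P : Principal x V τ F h)
    (IH : Small.{u} (Nat.card G)) : Ctx x V τ := by
  refine ⟨S, ht, fun t ho => ?_, IH⟩
  have h1 := P.meet t ho
  rw [mu, Nat.card_pos_iff] at h1
  obtain ⟨⟨w, hw⟩⟩ := h1.1
  exact ⟨w, w.2, hw⟩

/-- No two elements of `V` are conjugate, so an element of `V` meets one of the cosets. -/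
theorem Ctx.meet_V (c : Ctx x V τ) {u : G} (hu : u ∈ V) (hu1 : u ≠ 1) : ∃ w ∈ V, IsConj u (τ * w) :=
  c.meet u (haveI : Fact (Nat.Prime 2) := ⟨Nat.prime_two⟩
    orderOf_eq_prime (by rw [pow_two]; exact c.set.hyp.sq u hu) hu1)

theorem Ctx.center_eq_bot (c : Ctx x V τ) : center G = ⊥ := by
  haveI := c.set.simple
  refine (inferInstance : (center G).Normal).eq_bot_or_eq_top.resolve_right fun e => ?_
  have h1 := c.tau.not_commute c.set.hyp
  exact h1 (mem_center_iff.1 (e.symm ▸ mem_top x : x ∈ center G) τ)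

theorem Ctx.centralizer_lt (c : Ctx x V τ) {t : G} (ht : t ≠ 1) :
    Nat.card (centralizer ({t} : Set G)) < Nat.card G := by
  refine lt_of_le_of_ne (Nat.le_of_dvd Nat.card_pos (card_subgroup_dvd_card _)) fun e => ht ?_
  have htop := Subgroup.eq_top_of_card_eq _ e
  have hc : t ∈ center G := mem_center_iff.2 fun g =>
    mem_centralizer_singleton_iff.1 (htop.symm ▸ mem_top g : g ∈ centralizer ({t} : Set G))
  rwa [c.center_eq_bot, mem_bot] at hc

theorem Ctx.x_mem_cent (c : Ctx x V τ) {u : G} (hu : u ∈ V) : x ∈ centralizer ({u} : Set G) :=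
  mem_centralizer_singleton_iff.2 (c.set.hyp.comm u hu).symm.eq

theorem Ctx.tau_mem_cent (c : Ctx x V τ) {u : G} (hu : u ∈ V) : τ ∈ centralizer ({u} : Set G) :=
  mem_centralizer_singleton_iff.2 (c.tau.fix u hu).eq

theorem Ctx.V_le_cent (c : Ctx x V τ) {u : G} (hu : u ∈ V) : V ≤ centralizer ({u} : Set G) := fun _ hw =>
  mem_centralizer_singleton_iff.2 (c.set.hyp.comm_V hw hu).eq

/-- A nonsolvable centraliser of an element of `V` has a top. -/
theorem Ctx.exists_top_cent (c : Ctx x V τ) {u : G} (hu : u ∈ V) (hu1 : u ≠ 1)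
    (hns : ¬ Group.IsSolvable (centralizer ({u} : Set G))) :
    ∃ K L : Subgroup G, Top x V (centralizer ({u} : Set G)) K L :=
  exists_top c.set.hyp c.set.five c.small (c.centralizer_lt hu1) (c.x_mem_cent hu) hns

end Cfsg.Lib.ThreeFour
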