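import Cfsg.Agent.ThreeFour.Local.Factor
import Cfsg.Agent.S0498
import Cfsg.Agent.Known.PSLThirteenNC

/-!
Involutions and four-groups in the simple top.
-/

set_option autoImplicit false
set_option linter.unusedSectionVars false
set_option linter.style.haveILetI false

namespace Cfsg.Lib.ThreeFour

open Subgroup
open Cfsg.Lib.SelfCentThree (Inv P3)

universe u

variable {G : Type u} [Group G] [Finite G] {x : G} {V H K L : Subgroup G}

theorem Top.card_quot (T : Top x V H K L) [(K.subgroupOf L).Normal] :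
    Nat.card (L ⧸ K.subgroupOf L) * Nat.card K = Nat.card L := by
  rw [← Nat.card_congr (subgroupOfEquivOfLe T.leK).toEquiv]
  exact (Subgroup.card_eq_card_quotient_mul_card_subgroup _).symm

/-- The involutions of the top are conjugate. -/
theorem Top.conj_involution (h : Hyp x V) (T : Top x V H K L) {a b : G} (haL : a ∈ L) (haK : a ∉ K)
    (ha2 : a * a ∈ K) (hbL : b ∈ L) (hbK : b ∉ K) (hb2 : b * b ∈ K) :
    ∃ g ∈ L, g * a * g⁻¹ * b⁻¹ ∈ K := by
  haveI := T.normal_subgroupOf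
  haveI := T.isSimple_quot h
  set N := L ⧸ K.subgroupOf L
  have hone : ∀ (z : G) (hz : z ∈ L), QuotientGroup.mk' (K.subgroupOf L) ⟨z, hz⟩ = 1 ↔ z ∈ K := fun z hz =>
    (QuotientGroup.eq_one_iff _).trans mem_subgroupOf
  have hinv : ∀ (z : G) (hz : z ∈ L), z ∉ K → z * z ∈ K →
      orderOf (QuotientGroup.mk' (K.subgroupOf L) ⟨z, hz⟩) = 2 := fun z hz hzK hz2 => by
    haveI : Fact (Nat.Prime 2) := ⟨Nat.prime_two⟩
    refine orderOf_eq_prime ?_ fun e => hzK ((hone z hz).1 e)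
    rw [pow_two, ← map_mul]
    exact (hone _ (mul_mem hz hz)).2 hz2
  have key : ∀ p q : N, orderOf p = 2 → orderOf q = 2 → IsConj p q := by
    intro p q hp hq
    have hc := T.card_quot
    rcases T.index with ⟨e, -⟩ | ⟨e, -⟩ <;> rw [e] at hc <;>
      have hN := Nat.eq_of_mul_eq_mul_right Nat.card_pos hc
    · exact Cfsg.Lib.Small.Order168.conj_two hN hp hq
    · haveI : Fact (Nat.Prime 13) := ⟨by norm_num⟩
      obtain ⟨φ⟩ := Cfsg.Agent.S0498.result (G := N) 13 (Or.inr rfl) (by rw [hN]; norm_num)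
        (F := ZMod 13) (ZMod.card 13)
      have h1 := Cfsg.Lib.Known.PSLThirteen.data_psl.involutions_conj (x := φ p) (y := φ q)
        (by rw [MulEquiv.orderOf_eq]; exact hp) (by rw [MulEquiv.orderOf_eq]; exact hq)
      simpa using φ.symm.toMonoidHom.map_isConj h1
  obtain ⟨c, hc⟩ := isConj_iff.1 (key _ _ (hinv a haL haK ha2) (hinv b hbL hbK hb2))
  obtain ⟨⟨g, hg⟩, rfl⟩ := QuotientGroup.mk'_surjective _ c
  refine ⟨g, hg, (hone _ (mul_mem (mul_mem (mul_mem hg haL) (inv_mem hg)) (inv_mem hbL))).1 ?_⟩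
  rw [show (⟨g * a * g⁻¹ * b⁻¹, _⟩ : L) = ⟨g, hg⟩ * ⟨a, haL⟩ * ⟨g, hg⟩⁻¹ * ⟨b, hbL⟩⁻¹ from rfl]
  rw [map_mul, map_mul, map_mul, map_inv, map_inv, hc, mul_inv_cancel]

/-- An invariant subgroup four times as large as the core in a top of order 168. -/
theorem Top.exists_four (h : Hyp x V) (T : Top x V H K L) (h168 : Nat.card L = 168 * Nat.card K) :
    ∃ M : Subgroup G, K ≤ M ∧ M ≤ L ∧ Inv x M ∧ Nat.card M = 4 * Nat.card K := by
  haveI := T.normal_subgroupOf
  haveI := T.isSimple_quot h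
  set f := QuotientGroup.mk' (K.subgroupOf L) with hf
  have hN : Nat.card (L ⧸ K.subgroupOf L) = 168 := by
    have hc := T.card_quot
    rw [h168] at hc
    exact Nat.eq_of_mul_eq_mul_right Nat.card_pos hc
  have hy : orderOf (f ⟨x, T.mem⟩) = 3 := orderOf_eq_prime (hp := ⟨Nat.prime_three⟩)
    (by rw [← map_pow, show (⟨x, T.mem⟩ : L) ^ 3 = 1 from Subtype.ext h.pow3, map_one])
    fun e => T.x_not_mem h (mem_subgroupOf.1 ((QuotientGroup.eq_one_iff _).1 e) : x ∈ K)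
  have hY : Cfsg.Lib.SelfCentThree.Hyp (f ⟨x, T.mem⟩) := ⟨hy, fun g hg => by
    rw [← Cfsg.Lib.Small.Order168.card_centralizer_three hN hy]
    exact mem_centralizer_singleton_iff.2 hg.eq⟩
  obtain ⟨U, hU, hUI⟩ := Cfsg.Lib.SelfCentThree.exists_four_oneSixtyEight hY hN
  have hI : Inv (⟨x, T.mem⟩ : L) (U.comap f) := Cfsg.Lib.SelfCentThree.Inv.comap f hUI
  refine ⟨(U.comap f).map L.subtype, fun k hk => ⟨⟨k, T.leK hk⟩, ?_, rfl⟩, map_subtype_le _, ?_, ?_⟩
  · show f ⟨k, T.leK hk⟩ ∈ U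
    rw [show f ⟨k, T.leK hk⟩ = 1 from (QuotientGroup.eq_one_iff _).2 (mem_subgroupOf.2 hk)]
    exact U.one_mem
  · rintro _ ⟨r, hr, rfl⟩
    exact ⟨_, hI r hr, rfl⟩
  · rw [card_map_of_injective L.subtype_injective, hf, Cfsg.Lib.Coprime.card_comap_mk', hU,
      Nat.card_congr (subgroupOfEquivOfLe T.leK).toEquiv, mul_comm]

end Cfsg.Lib.ThreeFour
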