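import Cfsg.Agent.ThreeFour.Local.ChiefFactor
import Cfsg.Agent.ThreeFour.Local.Quot
import Cfsg.Agent.ThreeFour.Local.Ctx

/-!
The two-core of a nonsolvable subgroup centralising an element of `V`, and the order of the top.
-/

set_option autoImplicit false
set_option linter.unusedSectionVars false
set_option linter.style.haveILetI false

namespace Cfsg.Lib.ThreeFour

open Subgroup
open Cfsg.Lib.SelfCentThree (Inv P3)

universe u

variable {G : Type u} [Group G] [Finite G] {x τ : G} {V H K L S D₀ D₁ : Subgroup G} {u : G}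

theorem Step.sq_mem (hs : Step H D₀ D₁) {d : G} (hd : d ∈ D₁) : d * d ∈ D₀ := by
  haveI := hs.normal
  have h1 := hs.sq (QuotientGroup.mk (⟨d, hd⟩ : D₁))
  rw [← QuotientGroup.mk_mul, QuotientGroup.eq_one_iff] at h1
  exact mem_subgroupOf.1 h1

theorem Hyp.card_zpowers_V (h : Hyp x V) (hu : u ∈ V) (hu1 : u ≠ 1) : Nat.card (zpowers u) = 2 := by
  haveI : Fact (Nat.Prime 2) := ⟨Nat.prime_two⟩
  rw [Nat.card_zpowers]
  exact orderOf_eq_prime (by rw [pow_two]; exact h.sq u hu) hu1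

/-- Two independent elements generate a `V` of order four. -/
theorem Hyp.V_le_of (h : Hyp x V) (h4 : Nat.card V = 4) {u u' : G} (hu : u ∈ V) (hu1 : u ≠ 1) (hu' : u' ∈ V)
    (hne : u' ∉ zpowers u) {A : Subgroup G} (huA : u ∈ A) (hu'A : u' ∈ A) : V ≤ A := by
  have h2 := h.card_zpowers_V hu hu1
  have hle : zpowers u ≤ A ⊓ V := zpowers_le.2 ⟨huA, hu⟩
  have hd : Nat.card (A ⊓ V : Subgroup G) ∣ 4 := h4 ▸ card_dvd_of_le inf_le_right
  have hlt : 2 < Nat.card (A ⊓ V : Subgroup G) := by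
    refine lt_of_le_of_ne (h2 ▸ Nat.le_of_dvd Nat.card_pos (card_dvd_of_le hle)) fun e => hne ?_
    have := Subgroup.eq_of_le_of_card_ge hle (by rw [h2, ← e])
    exact this.symm ▸ (⟨hu'A, hu'⟩ : u' ∈ A ⊓ V)
  have h4' : Nat.card (A ⊓ V : Subgroup G) = 4 := by
    have := Nat.le_of_dvd (by norm_num) hd
    generalize Nat.card (A ⊓ V : Subgroup G) = n at *
    interval_cases n <;> omega
  have := Subgroup.eq_of_le_of_card_ge (inf_le_right : A ⊓ V ≤ V) (by rw [h4, h4'])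
  exact this ▸ inf_le_left

theorem le_normalizer_zpowers_of_commute (hHu : H ≤ centralizer ({u} : Set G)) :
    H ≤ normalizer (zpowers u : Set G) := fun g hg => Cfsg.Lib.Coprime.mem_normalizer_of_conj_mem
  (fun a ha => by
    obtain ⟨i, rfl⟩ := mem_zpowers_iff.1 ha
    have hc : Commute g u := mem_centralizer_singleton_iff.1 (hHu hg)
    rw [(hc.zpow_right i).eq, mul_inv_cancel_right]
    exact ⟨i, rfl⟩)
  (fun a ha => by
    obtain ⟨i, rfl⟩ := mem_zpowers_iff.1 ha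
    have hc : Commute g u := mem_centralizer_singleton_iff.1 (hHu hg)
    rw [show g⁻¹ * u ^ i * g = u ^ i by rw [mul_assoc, ← (hc.zpow_right i).eq, inv_mul_cancel_left]]
    exact ⟨i, rfl⟩)

theorem Top.center_mem_core (h : Hyp x V) (T : Top x V H K L) (hu : u ∈ V) (huH : u ∈ H)
    (hHu : H ≤ centralizer ({u} : Set G)) : u ∈ K := by
  by_cases hu1 : u = 1
  · rw [hu1]; exact K.one_mem
  refine T.core (zpowers u) (zpowers_le.2 huH) (le_normalizer_zpowers_of_commute hHu) (fun hx => ?_) (mem_zpowers u)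
  have hle : zpowers u ≤ V := zpowers_le.2 hu
  exact h.ne_one (h.inf_bot (mem_zpowers x) (hle hx))

/-- A normal two-subgroup of a nonsolvable subgroup centralising `u`. -/
theorem Top.central_shape (h : Hyp x V) (h5 : ¬ 5 ∣ Nat.card G) (ht : Tau x V τ) (T : Top x V H K L)
    (hu : u ∈ V) (hu1 : u ≠ 1) (huH : u ∈ H) (hHu : H ≤ centralizer ({u} : Set G)) (hS2 : IsPGroup 2 S)
    (hSK : S ≤ K) (hSn : H ≤ normalizer (S : Set G)) (hSV : K ⊓ V ≤ S) :
    (S = zpowers u ∧ K ⊓ V = zpowers u) ∨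
      Nat.card V = 4 ∧ V ≤ S ∧ ((S = V ∧ H ≤ centralizer (V : Set G)) ∨
        (Nat.card S = 16 ∧ Nat.card L = 168 * Nat.card K ∧ H = L ∧ Step H (zpowers u) S)) := by
  have huK := T.center_mem_core h hu huH hHu
  have huS : u ∈ S := hSV ⟨huK, hu⟩
  have hle : zpowers u ≤ S := zpowers_le.2 huS
  have huV : zpowers u ⊓ V = zpowers u := inf_eq_left.2 (zpowers_le.2 hu)
  have hSH : S ≤ H := hSK.trans T.leH
  have hV4 : Nat.card V ≤ 4 := by rcases h.card with e | e <;> omega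
  have hSVle : ∀ D : Subgroup G, Nat.card (D ⊓ V : Subgroup G) ≤ Nat.card V := fun D =>
    Nat.le_of_dvd Nat.card_pos (card_dvd_of_le inf_le_right)
  by_cases hS : zpowers u = S
  · refine Or.inl ⟨hS.symm, le_antisymm (hS ▸ hSV) (zpowers_le.2 ⟨huK, hu⟩)⟩
  right
  obtain ⟨D₁, hD₁, hs⟩ := exists_step (le_normalizer_zpowers_of_commute hHu) hSn hle hS hSH hS2
  have h2 : Nat.card (zpowers u ⊓ V : Subgroup G) = 2 := by rw [huV, h.card_zpowers_V hu hu1]
  obtain ⟨hD, hcases⟩ := hs.cases h h5 T (by have := hSVle D₁; omega)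
  rw [h2] at hD
  have h4 : Nat.card V = 4 := by have := hSVle D₁; omega
  have hVD : V ≤ D₁ := by
    have := Subgroup.eq_of_le_of_card_ge (inf_le_right : D₁ ⊓ V ≤ V) (by omega)
    exact this ▸ inf_le_left
  have hSD : D₁ = S := by
    by_contra hne
    obtain ⟨D₂, -, hs₂⟩ := exists_step hs.norm₁ hSn hD₁ hne hSH hS2
    have := (hs₂.cases h h5 T (by have := hSVle D₂; omega)).1
    have := hSVle D₂
    omega
  subst hSD
  refine ⟨h4, hVD, ?_⟩
  rw [h.card_zpowers_V hu hu1] at hcases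
  rcases hcases with e | ⟨e, e1, e2, -⟩
  · have hDV : D₁ = V := (Subgroup.eq_of_le_of_card_ge hVD (by omega)).symm
    refine Or.inl ⟨hDV, fun g hg => mem_centralizer_iff.2 fun w hw => ?_⟩
    have h1 : g * w * g⁻¹ ∈ V := by
      rw [← hDV]; exact ((mem_set_normalizer_iff.1 (hSn hg)) w).1 (hDV.symm ▸ hw)
    have h3 := h.eq_of_isConj ht hw h1 (isConj_iff.2 ⟨g, rfl⟩)
    exact (mul_inv_eq_iff_eq_mul.1 h3.symm).symm
  · exact Or.inr ⟨by omega, e1, e2, hs⟩

/-- An involution inverting `x` is not in the core. -/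
theorem Top.tau_not_mem (h : Hyp x V) (T : Top x V H K L) (ht : Tau x V τ) : τ ∉ K := fun hτ => by
  have h1 : τ * (x * τ⁻¹ * x⁻¹) ∈ K :=
    mul_mem hτ (((mem_set_normalizer_iff.1 T.mem_normK) _).1 (inv_mem hτ))
  rw [show τ * (x * τ⁻¹ * x⁻¹) = (τ * x * τ⁻¹) * x⁻¹ by group, ht.conj, ← mul_inv_rev, h.mul_self, inv_inv] at h1
  exact T.x_not_mem h h1

theorem Top.exists_tau (h : Hyp x V) (T : Top x V H K L) (ht : Tau x V τ) (hτ : τ ∈ H) :
    ∃ σ, Tau x V σ ∧ σ ∈ L ∧ σ ∉ K ∧ σ * σ ∈ K := by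
  obtain ⟨l, hl, v, hv, e⟩ := T.cover τ hτ
  have hσ := ht.mul_V h hv.1
  refine ⟨τ * v, hσ, ?_, T.tau_not_mem h hσ, by rw [hσ.sq]; exact K.one_mem⟩
  rw [e, mul_assoc, h.sq v hv.1, mul_one]
  exact hl

/-- In the centraliser of an element of `V` the top has order 168. -/
theorem Top.central_168 (c : Ctx x V τ) (T : Top x V H K L) (hu : u ∈ V) (hu1 : u ≠ 1) (hVH : V ≤ H)
    (hτH : τ ∈ H) (hHu : H ≤ centralizer ({u} : Set G)) (hS2 : IsPGroup 2 S)
    (hSK : S ≤ K) (hSn : H ≤ normalizer (S : Set G)) (hSV : K ⊓ V ≤ S)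
    (hSc : Nat.card S = 2 ^ (Nat.card K).factorization 2) :
    Nat.card L = 168 * Nat.card K ∧ V ⊓ L ≤ K := by
  have h := c.set.hyp
  rcases T.index with e | ⟨e, hne⟩
  · exact e
  exfalso
  obtain ⟨u', ⟨hu'V, hu'L⟩, hu'K⟩ := SetLike.not_le_iff_exists.1 hne
  rcases T.central_shape h c.set.five c.tau hu hu1 (hVH hu) hHu hS2 hSK hSn hSV with ⟨hS, hKV⟩ | ⟨-, hVS, -⟩
  swap
  · exact hu'K (hSK (hVS hu'V))
  have hV4 : Nat.card V = 4 := by
    rcases h.card with e2 | e2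
    · exfalso
      have h1 : zpowers u = V := Subgroup.eq_of_le_of_card_ge (zpowers_le.2 hu)
        (by rw [e2, h.card_zpowers_V hu hu1])
      exact hu'K (hSK (hS ▸ h1.symm ▸ hu'V))
    · exact e2
  have hu'1 : u' ≠ 1 := fun e' => hu'K (e'.symm ▸ K.one_mem)
  have huK : u ∈ K := T.center_mem_core h hu (hVH hu) hHu
  have hu'u : u' ∉ zpowers u := fun hm => hu'K (zpowers_le.2 huK hm)
  have hVL : V ≤ L := h.V_le_of hV4 hu hu1 hu'V hu'u (T.leK huK) hu'L
  -- the involutions of the coset of `u'` lie in a conjugate of `V`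
  set M := zpowers u' ⊔ K with hM
  have hMn : zpowers u' ≤ normalizer (K : Set G) := zpowers_le.2 (T.normK (T.leL hu'L))
  have hMc : Nat.card M = 2 * Nat.card K := by
    have hdis : K ⊓ zpowers u' = ⊥ := eq_bot_iff.2 fun a ha => mem_bot.2 (by
      by_contra ha1
      have hae : zpowers a = zpowers u' := Subgroup.eq_of_le_of_card_ge (zpowers_le.2 ha.2) (by
        rw [h.card_zpowers_V hu'V hu'1, h.card_zpowers_V ((zpowers_le.2 hu'V) ha.2) ha1])
      exact hu'K (zpowers_le.2 ha.1 (hae.symm ▸ mem_zpowers u')))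
    have h1 := Cfsg.Lib.Coprime.card_sup_mul_card_inf hMn
    rw [hdis, card_bot, mul_one, h.card_zpowers_V hu'V hu'1, sup_comm] at h1
    rw [hM, h1, mul_comm]
  have hVM : V ≤ M := h.V_le_of hV4 hu hu1 hu'V hu'u (mem_sup_right huK) (mem_sup_left (mem_zpowers _))
  haveI : Fact (Nat.Prime 2) := ⟨Nat.prime_two⟩
  let P : Sylow 2 M := Sylow.ofCard (V.subgroupOf M) (by
    rw [Nat.card_congr (subgroupOfEquivOfLe hVM).toEquiv, hMc,
      Nat.factorization_mul (by norm_num) Nat.card_pos.ne', Finsupp.add_apply,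
      Nat.Prime.factorization_self Nat.prime_two, pow_add, ← hSc, hS, h.card_zpowers_V hu hu1, hV4, pow_one]; norm_num)
  -- every `τ w` is conjugate to an element of `V` outside `⟨u⟩`
  obtain ⟨w, hw, hconj⟩ := c.meet_V hu hu1
  have hσ := c.tau.mul_V h hw
  have hσL : τ * w ∈ L := by
    obtain ⟨l, hl, v, hv, e'⟩ := T.cover τ hτH
    rw [e']
    exact mul_mem (mul_mem hl (hVL hv.1)) (hVL hw)
  obtain ⟨g, hgL, hg⟩ := T.conj_involution h hσL (T.tau_not_mem h hσ) (by rw [hσ.sq]; exact K.one_mem)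
    hu'L hu'K (by rw [h.sq u' hu'V]; exact K.one_mem)
  set i := g * (τ * w) * g⁻¹ with hi
  have hiM : i ∈ M := by
    rw [show i = (i * u'⁻¹) * u' by group]
    exact mul_mem (mem_sup_right hg) (mem_sup_left (mem_zpowers _))
  have hiK : i ∉ K := fun hiK => T.tau_not_mem h hσ (((mem_set_normalizer_iff.1 (T.normK (T.leL hgL))) _).2 hiK)
  have ho : orderOf (⟨i, hiM⟩ : M) = 2 := orderOf_eq_prime (by
    refine Subtype.ext ?_
    show i ^ 2 = 1
    rw [hi, conj_pow, pow_two, hσ.sq, mul_one, mul_inv_cancel]) fun e' => hiK (by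
      rw [show i = ((⟨i, hiM⟩ : M) : G) from rfl, e']; exact K.one_mem)
  obtain ⟨Q, hQ⟩ := (IsPGroup.of_card (p := 2) (n := 1) (show Nat.card (zpowers (⟨i, hiM⟩ : M)) = 2 ^ 1 by
    rw [Nat.card_zpowers, ho, pow_one])).exists_le_sylow
  obtain ⟨m, hm⟩ := MulAction.exists_smul_eq M Q P
  have hiV : (m : G) * i * (m : G)⁻¹ ∈ V := by
    have : m * ⟨i, hiM⟩ * m⁻¹ ∈ (P : Subgroup M) := by
      rw [← hm]; exact ⟨_, hQ (mem_zpowers _), rfl⟩
    exact mem_subgroupOf.1 this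
  have hnot : (m : G) * i * (m : G)⁻¹ ∉ K := fun hK' => by
    have hmn : (m : G) ∈ normalizer (K : Set G) := (sup_le hMn le_normalizer) m.2
    exact hiK (((mem_set_normalizer_iff.1 hmn) i).2 hK')
  refine hnot ?_
  have heq : u = (m : G) * i * (m : G)⁻¹ := h.eq_of_isConj c.tau hu hiV (hconj.trans (isConj_iff.2 ⟨(m : G) * g, by
    rw [hi]; group⟩))
  exact heq ▸ huK

end Cfsg.Lib.ThreeFour
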