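import Cfsg.Agent.ThreeFour.Local.SolvCentral
import Cfsg.Agent.S1296

/-!
With 2-rank at least three the group is of characteristic 2 type.
-/

set_option autoImplicit false
set_option linter.unusedSectionVars false
set_option linter.style.haveILetI false

namespace Cfsg.Lib.ThreeFour

open Subgroup
open Cfsg.Lib.SelfCentThree (Inv P3)

universe u

variable {G : Type u} [Group G] [Finite G] {x τ : G} {V : Subgroup G} {F s k : ℕ} {h : G → ℤ}

/-- The centralisers of all involutions are solvable. -/
theorem Full.solvable_involution (f : Full x V τ F h s k) {t : G} (ht : orderOf t = 2) :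
    Group.IsSolvable (centralizer ({t} : Set G)) := by
  have H := f.setting.hyp
  by_cases h3 : 3 ∣ cen t
  · obtain ⟨u, hu, hu1, hc⟩ := H.exists_conj_of_three ht h3
    obtain ⟨g, rfl⟩ := isConj_iff.1 hc
    haveI := f.central hu hu1
    refine Group.isSolvable_of_isSolvable_injective
      (f := ((MulAut.conj g).toMonoidHom.comp (centralizer ({t} : Set G)).subtype).codRestrict
        (centralizer ({g * t * g⁻¹} : Set G)) fun a => mem_centralizer_singleton_iff.2 ?_) fun a b e => ?_
    · show g * (a : G) * g⁻¹ * (g * t * g⁻¹) = g * t * g⁻¹ * (g * a * g⁻¹)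
      rw [show g * (a : G) * g⁻¹ * (g * t * g⁻¹) = g * ((a : G) * t) * g⁻¹ by group,
        mem_centralizer_singleton_iff.1 a.2]
      group
    · exact Subtype.ext ((MulAut.conj g).injective (congrArg Subtype.val e))
  · exact solvable_of_prime_to_fifteen h3 fun h5 => f.setting.five (h5.trans (card_subgroup_dvd_card _))

theorem Full.not_component (f : Full x V τ F h s k) : ¬ Cfsg.IsComponentType G := by
  rintro ⟨t, ht, K, -, hperf, hsimple⟩
  haveI := f.solvable_involution ht
  haveI := hperf
  haveI : Group.IsSolvable ↥K := inferInstance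
  haveI := hsimple
  haveI : Nontrivial (↥K ⧸ Subgroup.center ↥K) := hsimple.toNontrivial
  haveI : Nontrivial ↥K := (QuotientGroup.mk'_surjective (Subgroup.center ↥K)).nontrivial
  exact Group.IsPerfect.not_isSolvable ↥K inferInstance

/-- With an elementary abelian subgroup of order eight the group is of characteristic 2 type. -/
theorem Full.charTwoType (f : Full x V τ F h s k) (hr : ¬ Cfsg.PRankLE 2 2 G) : Cfsg.IsCharacteristicTwoType G := by
  have H := f.setting.hyp
  haveI := f.setting.simple
  have h2 : 2 ∣ Nat.card G := f.toCtx.tau.orderOf_eq H ▸ orderOf_dvd_natCard τ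
  have hN : ∀ N : Subgroup G, N.Normal → N.index ≠ 2 := fun N hN e => by
    rcases hN.eq_bot_or_eq_top with rfl | rfl
    · rw [index_bot] at e
      have := Nat.le_of_dvd (by omega) (e ▸ H.three_dvd : 3 ∣ 2)
      omega
    · rw [index_top] at e
      omega
  have hO : Cfsg.oddCore G = ⊥ := by
    haveI : (Cfsg.pPrimeCore 2 G).Characteristic := Cfsg.Lib.Components.pPrimeCore_characteristic
    rcases (inferInstance : (Cfsg.pPrimeCore 2 G).Normal).eq_bot_or_eq_top with e | e
    · exact e
    · exfalso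
      have h1 : (Nat.card (Cfsg.pPrimeCore 2 G)).Coprime 2 := Cfsg.Lib.Components.coprime_card_pPrimeCore 2
      rw [e, Subgroup.card_top] at h1
      exact Nat.prime_two.coprime_iff_not_dvd.1 h1.symm h2
  rcases Cfsg.Agent.S1296.result (even_iff_two_dvd.2 h2) hN hO with e | e | e
  · exact absurd e hr
  · exact absurd e f.not_component
  · exact e

/-- In a group of characteristic 2 type two-locals have no odd core. -/
theorem odd_trivial_of_charTwo (hct : Cfsg.IsCharacteristicTwoType G) {T R : Subgroup G} (hT : IsPGroup 2 T)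
    (hT1 : T ≠ ⊥) (hR : R ≤ normalizer (T : Set G)) (hRn : normalizer (T : Set G) ≤ normalizer (R : Set G))
    (hR2 : Odd (Nat.card R)) : R = ⊥ := by
  haveI : Fact (Nat.Prime 2) := ⟨Nat.prime_two⟩
  set X := normalizer (T : Set G) with hX
  haveI : (R.subgroupOf X).Normal := (normal_subgroupOf_iff_le_normalizer hR).2 hRn
  have hch : centralizer (Cfsg.pCore 2 X : Set X) ≤ Cfsg.pCore 2 X := hct.2 T hT hT1
  obtain ⟨n, hn⟩ := IsPGroup.iff_card.1 (Cfsg.Lib.Components.isPGroup_pCore (G := X) 2)
  have hodd : ¬ 2 ∣ Nat.card (R.subgroupOf X) := by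
    rw [Nat.card_congr (subgroupOfEquivOfLe hR).toEquiv, Nat.two_dvd_ne_zero, ← Nat.odd_iff]; exact hR2
  have hbot : R.subgroupOf X ⊓ Cfsg.pCore 2 X = ⊥ := inf_eq_bot_of_coprime (by
    rw [hn]
    exact Nat.Coprime.pow_right n (Nat.prime_two.coprime_iff_not_dvd.2 hodd).symm)
  have hle : R.subgroupOf X ≤ centralizer (Cfsg.pCore 2 X : Set X) := fun a ha => mem_centralizer_iff.2 fun b hb => by
    haveI : (Cfsg.pCore 2 X).Normal := (Cfsg.Lib.Components.pCore_normal_and_isPGroup 2).1
    exact ((Subgroup.commute_of_normal_of_disjoint _ _ inferInstance inferInstance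
      (disjoint_iff.2 hbot) a b ha hb).eq).symm
  have h1 : R.subgroupOf X = ⊥ := le_bot_iff.1 ((le_inf le_rfl (hle.trans hch)).trans hbot.le)
  rw [← map_subgroupOf_eq_of_le hR, h1, Subgroup.map_bot]

/-- In a group of characteristic 2 type the core of the centraliser of an element of `V` is a two-group. -/
theorem Core.isPGroup_two {u : G} {K : Subgroup G} (C : Core x V τ u K) (H : Hyp x V) (h5 : ¬ 5 ∣ Nat.card G)
    (ht : Tau x V τ) (hct : Cfsg.IsCharacteristicTwoType G) : IsPGroup 2 K := by
  haveI : Fact (Nat.Prime 2) := ⟨Nat.prime_two⟩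
  refine core_isPGroup_two H h5 ht C.three C.inv C.tau fun R hR hRn hodd => ?_
  refine odd_trivial_of_charTwo hct (T := zpowers u) (isPGroup_of_le_V H (zpowers_le.2 C.mem))
    (fun e => C.ne (zpowers_eq_bot.1 e)) ?_ ?_ hodd
  · exact hR.trans (C.sub.trans (fun g hg => mem_set_normalizer_iff.2 fun a => by
      have hgu : g * u * g⁻¹ = u := by rw [mem_centralizer_singleton_iff.1 hg, mul_inv_cancel_right]
      constructor
      · intro ha
        obtain ⟨i, rfl⟩ := mem_zpowers_iff.1 ha
        exact mem_zpowers_iff.2 ⟨i, by rw [← conj_zpow, hgu]⟩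
      · intro ha
        obtain ⟨i, hi⟩ := mem_zpowers_iff.1 ha
        refine mem_zpowers_iff.2 ⟨i, mul_left_cancel (a := g) (mul_right_cancel (b := g⁻¹) ?_)⟩
        rw [← conj_zpow, hgu, hi]))
  · intro g hg
    refine hRn (C.norm (mem_centralizer_singleton_iff.2 ?_))
    obtain ⟨i, hi⟩ := mem_zpowers_iff.1 (((mem_set_normalizer_iff.1 hg) u).1 (mem_zpowers u))
    rcases Int.even_or_odd i with ⟨m, rfl⟩ | ⟨m, rfl⟩
    · exfalso
      have hu2 : u ^ (2 : ℤ) = 1 := by rw [show (2 : ℤ) = ((2 : ℕ) : ℤ) from rfl, zpow_natCast, pow_two]; exact H.sq u C.mem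
      rw [← two_mul, zpow_mul, hu2, one_zpow, eq_comm, conj_eq_one_iff] at hi
      exact C.ne hi
    · have hu2 : u ^ (2 : ℤ) = 1 := by rw [show (2 : ℤ) = ((2 : ℕ) : ℤ) from rfl, zpow_natCast, pow_two]; exact H.sq u C.mem
      rw [zpow_add, zpow_mul, hu2, one_zpow, one_mul, zpow_one] at hi
      exact (mul_inv_eq_iff_eq_mul.1 hi.symm)

end Cfsg.Lib.ThreeFour
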