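import Cfsg.Agent.ThreeFour.Local.Bridge
import Cfsg.Agent.ThreeFour.Local.Invariant
import Cfsg.Agent.ThreeFour.Solvable
import Cfsg.Agent.Components.PComponents

/-!
A subgroup of order prime to three without odd core, normalised by `x` and by an involution inverting `x`,
is a two-group.
-/

set_option autoImplicit false
set_option linter.unusedSectionVars false
set_option linter.style.haveILetI false

namespace Cfsg.Lib.ThreeFour

open Subgroup
open Cfsg.Lib.SelfCentThree (Inv P3)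

universe u

variable {G : Type u} [Group G] {x τ : G} {V K : Subgroup G}

theorem Tau.mul_V (h : Hyp x V) (ht : Tau x V τ) {u : G} (hu : u ∈ V) : Tau x V (τ * u) := by
  refine ⟨?_, ?_, fun w hw => (ht.fix w hw).mul_left (h.comm_V hu hw)⟩
  · rw [show τ * u * (τ * u) = τ * (u * τ) * u by group, (ht.fix u hu).symm.eq,
      show τ * (τ * u) * u = (τ * τ) * (u * u) by group, ht.sq, h.sq u hu, mul_one]
  · rw [show τ * u * x * (τ * u)⁻¹ = τ * (u * x * u⁻¹) * τ⁻¹ by group, (h.comm u hu).eq,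
      mul_inv_cancel_right, ht.conj]

theorem normalizer_le_char (C : Subgroup K) [C.Characteristic] :
    normalizer (K : Set G) ≤ normalizer (C.map K.subtype : Set G) := fun g hg => by
  have hh : ∀ g ∈ normalizer (K : Set G), ∀ y ∈ C.map K.subtype, g * y * g⁻¹ ∈ C.map K.subtype := by
    rintro g hg - ⟨y, hy, rfl⟩
    exact ⟨K.normalizerMonoidHom ⟨g, hg⟩ y, (characteristic_iff_map_eq.mp (inferInstance : C.Characteristic)
      (K.normalizerMonoidHom ⟨g, hg⟩)).le ⟨y, hy, rfl⟩, rfl⟩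
  exact Cfsg.Lib.Coprime.mem_normalizer_of_conj_mem (hh g hg) fun y hy => by
    simpa using hh _ (inv_mem hg) y hy

theorem inv_conj (ht : Tau x V τ) {R : Subgroup G} (hI : Inv x R) (h : Hyp x V) :
    Inv x (R.map (MulAut.conj τ).toMonoidHom) := by
  rintro _ ⟨r, hr, rfl⟩
  refine ⟨x⁻¹ * r * x, inv_back h hI hr, ?_⟩
  simp only [MulEquiv.coe_toMonoidHom, MulAut.conj_apply]
  calc τ * (x⁻¹ * r * x) * τ⁻¹ = (τ * x⁻¹ * τ⁻¹) * (τ * r * τ⁻¹) * (τ * x * τ⁻¹) := by group
    _ = x * (τ * r * τ⁻¹) * x⁻¹ := by rw [ht.conj_inv_x, ht.conj]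

variable [Finite G]

/-- An involution inverting `x` and normalising `K` can be chosen to normalise an invariant Sylow subgroup. -/
theorem exists_tau_normalizing (h : Hyp x V) (ht : Tau x V τ) (hK : P3 K) (hI : Inv x K)
    (hτK : τ ∈ normalizer (K : Set G)) {p : ℕ} [Fact p.Prime] {P : Subgroup G} (hPK : P ≤ K)
    (hPI : Inv x P) (hPc : Nat.card P = p ^ (Nat.card K).factorization p) :
    ∃ σ, Tau x V σ ∧ σ ∈ normalizer (K : Set G) ∧ σ ∈ normalizer (P : Set G) := by
  set P' := P.map (MulAut.conj τ).toMonoidHom with hP'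
  have hP'K : P' ≤ K := by
    rintro _ ⟨r, hr, rfl⟩
    exact ((mem_set_normalizer_iff.1 hτK) r).1 (hPK hr)
  have hP'c : Nat.card P' = p ^ (Nat.card K).factorization p := by
    rw [hP', card_map_of_injective (MulAut.conj τ).injective, hPc]
  obtain ⟨c, hc, e⟩ := inv_sylow_conj h hI hK p hPK hPI hPc hP'K (inv_conj ht hPI h) hP'c
  refine ⟨τ * c, ht.mul_V h hc.2, mul_mem hτK (le_normalizer hc.1), ?_⟩
  have hcc : c⁻¹ = c := h.inv_eq hc.2
  have hτc : τ * c = c * τ := (ht.fix c hc.2).eq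
  have key : ∀ a ∈ P, (τ * c) * a * (τ * c)⁻¹ ∈ P := fun a ha => by
    have h1 := (e (τ * a * τ⁻¹)).1 ⟨a, ha, by simp⟩
    rw [hcc] at h1
    rw [hτc, show c * τ * a * (c * τ)⁻¹ = c * (τ * a * τ⁻¹) * c⁻¹ by group, hcc]
    exact h1
  have hinv : (τ * c)⁻¹ = τ * c := (ht.mul_V h hc.2).inv_eq
  exact Cfsg.Lib.Coprime.mem_normalizer_of_conj_mem key fun a ha => by rw [hinv]; simpa [hinv] using key a ha

/-- Without odd core the subgroup is a two-group. -/
theorem core_isPGroup_two (h : Hyp x V) (h5 : ¬ 5 ∣ Nat.card G) (ht : Tau x V τ) (hK : P3 K) (hI : Inv x K)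
    (hτK : τ ∈ normalizer (K : Set G))
    (hodd : ∀ R ≤ K, normalizer (K : Set G) ≤ normalizer (R : Set G) → Odd (Nat.card R) → R = ⊥) :
    IsPGroup 2 K := by
  haveI : Fact (Nat.Prime 2) := ⟨Nat.prime_two⟩
  haveI hsol : Group.IsSolvable K := solvable_of_prime_to_fifteen hK fun h5' =>
    h5 (h5'.trans (card_subgroup_dvd_card K))
  have hO : Cfsg.pPrimeCore 2 K = ⊥ := by
    haveI : (Cfsg.pPrimeCore 2 K).Characteristic := Cfsg.Lib.Components.pPrimeCore_characteristic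
    refine (Subgroup.map_eq_bot_iff_of_injective _ K.subtype_injective).1
      (hodd _ (map_subtype_le _) (normalizer_le_char _) ?_)
    rw [card_map_of_injective K.subtype_injective, Nat.odd_iff, ← Nat.two_dvd_ne_zero]
    exact Nat.prime_two.coprime_iff_not_dvd.1 (Cfsg.Lib.Components.coprime_card_pPrimeCore 2).symm
  haveI : (Cfsg.pCore 2 K).Characteristic := Cfsg.Lib.Components.pCore_characteristic
  set D := (Cfsg.pCore 2 K).map K.subtype with hD
  have hDn : normalizer (K : Set G) ≤ normalizer (D : Set G) := normalizer_le_char _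
  have hD2 : IsPGroup 2 D := (Cfsg.Lib.Components.isPGroup_pCore 2).map _
  have hDK : D ≤ K := map_subtype_le _
  refine IsPGroup.of_card (n := (Nat.card K).primeFactorsList.length)
    (Nat.eq_prime_pow_of_unique_prime_dvd Nat.card_pos.ne' fun {p} hp hpd => ?_)
  by_contra hp2
  haveI : Fact p.Prime := ⟨hp⟩
  obtain ⟨P, hPK, -, hPp, hPI, hPc⟩ := exists_inv_sylow_ge h hI hK p (bot_le : (⊥ : Subgroup G) ≤ K)
    IsPGroup.of_bot (fun r hr => by rw [mem_bot.1 hr]; simp)
  obtain ⟨σ, hσ, hσK, hσP⟩ := exists_tau_normalizing h ht hK hI hτK hPK hPI hPc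
  have hP2 : ¬ 2 ∣ Nat.card P := by
    rw [hPc]
    exact fun h2 => hp2 ((Nat.prime_dvd_prime_iff_eq Nat.prime_two hp).1 (Nat.prime_two.dvd_of_dvd_pow h2)).symm
  haveI : Nontrivial P := by
    rw [← Finite.one_lt_card_iff_nontrivial, hPc]
    exact Nat.one_lt_pow (hp.factorization_pos_of_dvd Nat.card_pos.ne' hpd).ne' hp.one_lt
  have hZ := hPp.center_nontrivial
  set A := (center P).map P.subtype with hA
  have hAP : A ≤ P := map_subtype_le _
  have hPn : normalizer (P : Set G) ≤ normalizer (A : Set G) := normalizer_le_char _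
  have hxP : x ∈ normalizer (P : Set G) := inv_mem_normalizer h hPI
  have hAI : Inv x A := SelfCentThree.inv_of_mem_normalizer (hPn hxP)
  have hA2 : ¬ 2 ∣ Nat.card A := fun h2 => hP2 (h2.trans (card_dvd_of_le hAP))
  have hAf : Fpf x A := fpf_of h hAI (hK.anti (hAP.trans hPK)) (eq_bot_iff.2 fun a ha => mem_bot.2 (by
    by_contra ha1
    have h2 : orderOf a = 2 := orderOf_eq_prime (by rw [pow_two]; exact h.sq a ha.2) ha1
    exact hA2 (h2 ▸ Subgroup.orderOf_dvd_natCard A ha.1)))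
  have hAc : ∀ a ∈ A, ∀ b ∈ A, Commute a b := by
    rintro _ ⟨a, ha, rfl⟩ _ ⟨b, hb, rfl⟩
    exact congrArg Subtype.val (mem_center_iff.1 hb a)
  have hAC := centralizes_of_inverted h hD2 (hDn (inv_mem_normalizer h hI)) hAf hAc hA2
    ((hAP.trans hPK).trans (le_normalizer.trans hDn)) hσ (hDn hσK) (hPn hσP)
  obtain ⟨a, ha1⟩ := exists_ne (1 : center P)
  have haA : ((a : P) : G) ∈ A := ⟨a, a.2, rfl⟩
  have hmem : (⟨((a : P) : G), hPK (a : P).2⟩ : K) ∈ Cfsg.pCore 2 K :=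
    Cfsg.Lib.Coprime.centralizer_pCore_le 2 hO (mem_centralizer_iff.2 fun d hd =>
      Subtype.ext ((mem_centralizer_iff.1 (hAC haA)) d ⟨d, hd, rfl⟩))
  have hd : orderOf ((a : P) : G) ∣ Nat.card D := Subgroup.orderOf_dvd_natCard D ⟨_, hmem, rfl⟩
  obtain ⟨j, hj⟩ := IsPGroup.iff_card.1 hD2
  obtain ⟨i, hi⟩ := IsPGroup.iff_orderOf.1 hPp (a : P)
  rw [← Subgroup.orderOf_coe] at hi
  have h1 : orderOf ((a : P) : G) ∣ Nat.gcd (p ^ i) (2 ^ j) := Nat.dvd_gcd (hi ▸ dvd_rfl) (hj ▸ hd)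
  rw [Nat.Coprime.gcd_eq_one (Nat.Coprime.pow _ _ ((Nat.coprime_primes hp Nat.prime_two).2 hp2))] at h1
  exact ha1 (Subtype.ext (Subtype.ext (orderOf_eq_one_iff.1 (Nat.dvd_one.1 h1))))

end Cfsg.Lib.ThreeFour
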