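import Cfsg.Agent.ThreeFour.Local.Natural2
import Cfsg.Agent.ThreeFour.Local.Core

/-!
The factors of a series of normal two-subgroups of a nonsolvable subgroup containing `x`: the action of the
subgroup on a factor with nothing normal in between.
-/

set_option autoImplicit false
set_option linter.unusedSectionVars false
set_option linter.style.haveILetI false

namespace Cfsg.Lib.ThreeFour

open Subgroup
open Cfsg.Lib.SelfCentThree (Inv P3)
open scoped IsMulCommutative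

universe u

variable {G : Type u} [Group G] {x : G} {V H K L D₀ D₁ : Subgroup G}

/-- Normal two-subgroups `D₀ < D₁` of `H` with no normal subgroup of `H` strictly in between. -/
structure Step (H D₀ D₁ : Subgroup G) : Prop where
  le : D₀ ≤ D₁
  ne : D₀ ≠ D₁
  leH : D₁ ≤ H
  two : IsPGroup 2 D₁
  norm₀ : H ≤ normalizer (D₀ : Set G)
  norm₁ : H ≤ normalizer (D₁ : Set G)
  minimal : ∀ D, D₀ ≤ D → D ≤ D₁ → H ≤ normalizer (D : Set G) → D = D₀ ∨ D = D₁

/-- The quotient of `D₁` by `D₀`. -/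
abbrev Factor (D₀ D₁ : Subgroup G) [(D₀.subgroupOf D₁).Normal] : Type u := D₁ ⧸ D₀.subgroupOf D₁

/-- The action on the quotient of two subgroups which `H` normalises. -/
noncomputable def factorAct (h₀ : H ≤ normalizer (D₀ : Set G)) (h₁ : H ≤ normalizer (D₁ : Set G))
    [(D₀.subgroupOf D₁).Normal] : H →* MulAut (Factor D₀ D₁) where
  toFun g := QuotientGroup.congr (D₀.subgroupOf D₁) (D₀.subgroupOf D₁) (D₁.normalizerMonoidHom ⟨g, h₁ g.2⟩) (by
    ext d
    rw [Subgroup.mem_map]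
    constructor
    · rintro ⟨e, he, rfl⟩
      exact mem_subgroupOf.2 (((mem_set_normalizer_iff.1 (h₀ g.2)) (e : G)).1 (mem_subgroupOf.1 he))
    · intro hd
      refine ⟨(D₁.normalizerMonoidHom ⟨g, h₁ g.2⟩).symm d, mem_subgroupOf.2 ?_, by simp⟩
      have := ((mem_set_normalizer_iff.1 (h₀ (H.inv_mem g.2))) (d : G)).1 (mem_subgroupOf.1 hd)
      simpa [normalizerMonoidHom_coe] using this)
  map_one' := by
    ext y
    obtain ⟨y, rfl⟩ := QuotientGroup.mk'_surjective _ y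
    show QuotientGroup.mk' _ (D₁.normalizerMonoidHom ⟨1, h₁ H.one_mem⟩ y) = QuotientGroup.mk' _ y
    exact congrArg _ (Subtype.ext (by simp [normalizerMonoidHom_coe]))
  map_mul' a b := by
    ext y
    obtain ⟨y, rfl⟩ := QuotientGroup.mk'_surjective _ y
    show QuotientGroup.mk' _ (D₁.normalizerMonoidHom ⟨(a * b : H), h₁ (a * b).2⟩ y) =
      QuotientGroup.mk' _ (D₁.normalizerMonoidHom ⟨a, h₁ a.2⟩ (D₁.normalizerMonoidHom ⟨b, h₁ b.2⟩ y))
    refine congrArg _ (Subtype.ext ?_)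
    simp only [normalizerMonoidHom_coe, Subgroup.coe_mul]
    group

variable [Finite G]

theorem exists_step {D : Subgroup G} (h₀ : H ≤ normalizer (D₀ : Set G)) (hD : H ≤ normalizer (D : Set G))
    (hle : D₀ ≤ D) (hne : D₀ ≠ D) (hDH : D ≤ H) (h2 : IsPGroup 2 D) :
    ∃ D₁ ≤ D, Step H D₀ D₁ := by
  set S := {E : Subgroup G | D₀ ≤ E ∧ D₀ ≠ E ∧ E ≤ D ∧ H ≤ normalizer (E : Set G)}
  obtain ⟨E, hE, hmin⟩ := (Set.toFinite S).exists_minimal ⟨D, hle, hne, le_rfl, hD⟩
  refine ⟨E, hE.2.2.1, hE.1, hE.2.1, hE.2.2.1.trans hDH, h2.to_le hE.2.2.1, h₀, hE.2.2.2,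
    fun E' h1 h2' h3 => ?_⟩
  by_cases he : D₀ = E'
  · exact Or.inl he.symm
  · exact Or.inr (le_antisymm h2' (hmin (show E' ∈ S from ⟨h1, he, h2'.trans hE.2.2.1, h3⟩) h2'))

theorem Step.normal (hs : Step H D₀ D₁) : (D₀.subgroupOf D₁).Normal :=
  (normal_subgroupOf_iff_le_normalizer hs.le).2 (hs.leH.trans hs.norm₀)

theorem Step.card_factor (hs : Step H D₀ D₁) [(D₀.subgroupOf D₁).Normal] :
    Nat.card (Factor D₀ D₁) * Nat.card D₀ = Nat.card D₁ := by
  rw [← Nat.card_congr (subgroupOfEquivOfLe hs.le).toEquiv]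
  exact (Subgroup.card_eq_card_quotient_mul_card_subgroup _).symm

/-- A factor is elementary abelian. -/
theorem Step.frattini (hs : Step H D₀ D₁) :
    ((frattini D₁).map D₁.subtype) ≤ D₀ := by
  set Φ := (_root_.frattini D₁).map D₁.subtype with hΦ
  have hΦn : H ≤ normalizer (Φ : Set G) := hs.norm₁.trans (normalizer_le_char _)
  have hΦle : Φ ≤ D₁ := map_subtype_le _
  rcases hs.minimal (D₀ ⊔ Φ) le_sup_left (sup_le hs.le hΦle)
    (Cfsg.Lib.Coprime.le_normalizer_sup hs.norm₀ hΦn) with e | e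
  · exact e ▸ le_sup_right
  · exfalso
    haveI : Finite (Subgroup D₁) := inferInstance
    have h1 : D₀.subgroupOf D₁ ⊔ _root_.frattini D₁ = ⊤ := by
      apply Subgroup.map_injective D₁.subtype_injective
      rw [Subgroup.map_sup, map_subgroupOf_eq_of_le hs.le, ← hΦ, e, ← MonoidHom.range_eq_map, range_subtype]
    have h2 := subgroupOf_eq_top.1 (frattini_nongenerating h1)
    exact hs.ne (le_antisymm hs.le h2)

theorem Step.comm (hs : Step H D₀ D₁) [(D₀.subgroupOf D₁).Normal] : IsMulCommutative (Factor D₀ D₁) := by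
  haveI : Fact (Nat.Prime 2) := ⟨Nat.prime_two⟩
  refine ⟨⟨fun a b => ?_⟩⟩
  obtain ⟨a, rfl⟩ := QuotientGroup.mk_surjective a
  obtain ⟨b, rfl⟩ := QuotientGroup.mk_surjective b
  haveI := Cfsg.Lib.PGroups.isMulCommutative_quotient_frattini (hp := ⟨Nat.prime_two⟩) hs.two
  have h1 : (QuotientGroup.mk a : D₁ ⧸ _root_.frattini D₁) * QuotientGroup.mk b =
      QuotientGroup.mk b * QuotientGroup.mk a := mul_comm' _ _
  rw [← QuotientGroup.mk_mul, ← QuotientGroup.mk_mul, QuotientGroup.eq] at h1 ⊢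
  exact mem_subgroupOf.2 (hs.frattini ⟨_, h1, rfl⟩)

theorem Step.sq (hs : Step H D₀ D₁) [(D₀.subgroupOf D₁).Normal] (a : Factor D₀ D₁) : a * a = 1 := by
  haveI : Fact (Nat.Prime 2) := ⟨Nat.prime_two⟩
  obtain ⟨a, rfl⟩ := QuotientGroup.mk_surjective a
  rw [← QuotientGroup.mk_mul, QuotientGroup.eq_one_iff]
  have h1 := Cfsg.Lib.PGroups.pow_prime_quotient_frattini hs.two (QuotientGroup.mk a)
  rw [pow_two, ← QuotientGroup.mk_mul, QuotientGroup.eq_one_iff] at h1
  exact mem_subgroupOf.2 (hs.frattini ⟨_, h1, rfl⟩)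

/-- Multiplication by a subgroup fixed under `x` gives the fixed points of a factor. -/
theorem Step.fixed_lift (h : Hyp x V) (hs : Step H D₀ D₁) (hxH : x ∈ H) {d : G} (hd : d ∈ D₁)
    (hc : x * d * x⁻¹ * d⁻¹ ∈ D₀) : ∃ n ∈ D₀, d * n ∈ V := by
  have hD3 : P3 D₁ := fun h3 => by
    obtain ⟨n, hn⟩ := IsPGroup.iff_card.1 hs.two
    rw [hn] at h3
    have := Nat.prime_three.dvd_of_dvd_pow h3
    omega
  obtain ⟨n, hn, hcn⟩ := Cfsg.Lib.Coprime.exists_fixed_of_commutator_mem (A := zpowers x) (N := D₀)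
    (zpowers_le.2 (hs.norm₀ hxH)) (coprime_zpowers h (hD3.anti hs.le)) (Or.inl (solvable_zpowers x))
    (hs.norm₀ (hs.leH hd)) (fun a ha => by
      rcases h.mem_three ha with rfl | rfl | rfl
      · simp
      · exact hc
      · have h1 := ((mem_set_normalizer_iff.1 (inv_mem (hs.norm₀ hxH))) _).1 (inv_mem hc)
        simpa [mul_assoc] using h1)
  exact ⟨n, hn, mem_V_of_fixed h hD3 (mul_mem hd (hs.le hn)) (mem_centralizer_zpowers_iff.1 hcn)⟩

section act

variable (hs : Step H D₀ D₁) [(D₀.subgroupOf D₁).Normal] [IsMulCommutative (Factor D₀ D₁)]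

/-- The action by endomorphisms. -/
noncomputable def Step.act : H →* AddMonoid.End (Additive (Factor D₀ D₁)) :=
  (toEnd (Factor D₀ D₁)).comp (factorAct hs.norm₀ hs.norm₁)

theorem Step.act_mk (g : H) (d : D₁) :
    hs.act g (Additive.ofMul (QuotientGroup.mk d)) =
      Additive.ofMul (QuotientGroup.mk (D₁.normalizerMonoidHom ⟨g, hs.norm₁ g.2⟩ d)) := rfl

theorem Step.act_fix (g : H) (d : D₁) :
    hs.act g (Additive.ofMul (QuotientGroup.mk d)) = Additive.ofMul (QuotientGroup.mk d) ↔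
      (g : G) * d * (g : G)⁻¹ * (d : G)⁻¹ ∈ D₀ := by
  rw [hs.act_mk, Equiv.apply_eq_iff_eq, eq_comm, QuotientGroup.eq,
    Subgroup.Normal.mem_comm_iff (H := D₀.subgroupOf D₁) inferInstance, mem_subgroupOf, Subgroup.coe_mul,
    InvMemClass.coe_inv, normalizerMonoidHom_coe]

theorem Step.act_eq_one (g : H) :
    hs.act g = 1 ↔ ∀ d ∈ D₁, (g : G) * d * (g : G)⁻¹ * d⁻¹ ∈ D₀ := by
  refine ⟨fun e d hd => (hs.act_fix g ⟨d, hd⟩).1 (by rw [e]; rfl), fun e => AddMonoidHom.ext fun w => ?_⟩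
  obtain ⟨d, hd⟩ := QuotientGroup.mk_surjective w.toMul
  rw [show w = Additive.ofMul (QuotientGroup.mk d) by rw [hd]; rfl]
  exact (hs.act_fix g d).2 (e d d.2)

theorem Step.irr (S : AddSubgroup (Additive (Factor D₀ D₁))) (hS : ∀ g : H, ∀ w ∈ S, hs.act g w ∈ S) :
    S = ⊥ ∨ S = ⊤ := by
  set D := ((AddSubgroup.toSubgroup' S).comap (QuotientGroup.mk' (D₀.subgroupOf D₁))).map D₁.subtype with hD
  have hmem : ∀ d : D₁, (d : G) ∈ D ↔ Additive.ofMul (QuotientGroup.mk d : Factor D₀ D₁) ∈ S := fun d =>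
    ⟨fun ⟨e, he, hed⟩ => D₁.subtype_injective hed ▸ he, fun hd => ⟨d, hd, rfl⟩⟩
  have hconj : ∀ g ∈ H, ∀ d ∈ D, g * d * g⁻¹ ∈ D := by
    intro g hg d hd
    have hd1 : d ∈ D₁ := map_subtype_le _ hd
    have h1 := hS ⟨g, hg⟩ _ ((hmem ⟨d, hd1⟩).1 hd)
    rw [hs.act_mk] at h1
    exact (hmem _).2 h1
  rcases hs.minimal D (fun d hd => (hmem ⟨d, hs.le hd⟩).2 (by
      rw [show (QuotientGroup.mk ⟨d, hs.le hd⟩ : Factor D₀ D₁) = 1 from
        (QuotientGroup.eq_one_iff _).2 (mem_subgroupOf.2 hd)]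
      exact S.zero_mem)) (map_subtype_le _)
      (fun g hg => Cfsg.Lib.Coprime.mem_normalizer_of_conj_mem (hconj g hg) fun d hd => by
        simpa using hconj g⁻¹ (H.inv_mem hg) d hd) with e | e
  · refine Or.inl (eq_bot_iff.2 fun w hw => AddSubgroup.mem_bot.2 ?_)
    obtain ⟨d, hd⟩ := QuotientGroup.mk_surjective w.toMul
    have hwd : w = Additive.ofMul (QuotientGroup.mk d) := by rw [hd]; rfl
    have h1 : (d : G) ∈ D := (hmem d).2 (hwd ▸ hw)
    rw [e] at h1
    rw [hwd, (QuotientGroup.eq_one_iff d).2 (mem_subgroupOf.2 h1)]; rfl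
  · refine Or.inr (eq_top_iff.2 fun w _ => ?_)
    obtain ⟨d, hd⟩ := QuotientGroup.mk_surjective w.toMul
    have hwd : w = Additive.ofMul (QuotientGroup.mk d) := by rw [hd]; rfl
    rw [hwd]
    exact (hmem d).1 (e.symm ▸ d.2)

/-- The fixed points of `x` come from `V`. -/
theorem Step.card_fix (h : Hyp x V) (hxH : x ∈ H) :
    Nat.card {w // hs.act ⟨x, hxH⟩ w = w} * Nat.card (D₀ ⊓ V : Subgroup G) =
      Nat.card (D₁ ⊓ V : Subgroup G) := by
  let ψ : (D₁ ⊓ V : Subgroup G) →* Factor D₀ D₁ :=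
    (QuotientGroup.mk' (D₀.subgroupOf D₁)).comp (inclusion inf_le_left)
  have hker : Nat.card ψ.ker = Nat.card (D₀ ⊓ V : Subgroup G) := by
    refine Nat.card_congr
      { toFun := fun d => ⟨d.1, mem_subgroupOf.1 ((QuotientGroup.eq_one_iff
            (⟨d.1, d.1.2.1⟩ : D₁)).1 d.2), d.1.2.2⟩
        invFun := fun d => ⟨⟨d.1, hs.le d.2.1, d.2.2⟩,
          (QuotientGroup.eq_one_iff (⟨d.1, hs.le d.2.1⟩ : D₁)).2 (mem_subgroupOf.2 d.2.1)⟩
        left_inv := fun _ => rfl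
        right_inv := fun _ => rfl }
  have hrange : Nat.card {w // hs.act ⟨x, hxH⟩ w = w} = Nat.card ψ.range := by
    refine Nat.card_congr ((Additive.toMul.subtypeEquiv fun w => ?_))
    obtain ⟨d, hd⟩ := QuotientGroup.mk_surjective w.toMul
    have hwd : w = Additive.ofMul (QuotientGroup.mk d) := by rw [hd]; rfl
    rw [hwd, toMul_ofMul, hs.act_fix]
    constructor
    · intro hc
      obtain ⟨n, hn, hnV⟩ := hs.fixed_lift h hxH d.2 hc
      refine ⟨⟨(d : G) * n, mul_mem d.2 (hs.le hn), hnV⟩, ?_⟩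
      show QuotientGroup.mk _ = QuotientGroup.mk d
      rw [eq_comm, QuotientGroup.eq]
      exact mem_subgroupOf.2 (by simpa using hn)
    · rintro ⟨⟨v, hv1, hv2⟩, hv⟩
      refine (hs.act_fix _ d).1 ?_
      have hv' : (QuotientGroup.mk ⟨v, hv1⟩ : Factor D₀ D₁) = QuotientGroup.mk d := hv
      rw [← hv']
      refine (hs.act_fix _ _).2 ?_
      show x * v * x⁻¹ * v⁻¹ ∈ D₀
      rw [(h.comm v hv2).symm.eq, mul_inv_cancel_right, mul_inv_cancel]; exact D₀.one_mem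
  rw [hrange, ← hker, ← Subgroup.index_ker, mul_comm, ψ.ker.card_mul_index]

variable (T : Top x V H K L)

/-- If `x` is not central on the factor the kernel lies in `K`. -/
theorem Step.rep (h : Hyp x V) (hx : hs.act ⟨x, T.leL T.mem⟩ ≠ 1)
    (hsmall : Nat.card {w // hs.act ⟨x, T.leL T.mem⟩ w = w} ≤ 4) : Rep x K hs.act := by
  refine ⟨T.leL T.mem, fun w => hs.sq w.toMul, fun g hg => ?_, hs.irr, hsmall⟩
  haveI : hs.act.ker.Normal := MonoidHom.normal_ker _
  refine T.core (hs.act.ker.map H.subtype) (map_subtype_le _) le_normalizer_map_subtype ?_ ⟨g, hg, rfl⟩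
  rintro ⟨y, hy, e⟩
  exact hx (by rw [← show y = ⟨x, T.leL T.mem⟩ from Subtype.ext e]; exact hy)

include T in
/-- If `x` is central on the factor the factor has order two. -/
theorem Step.central (h : Hyp x V) (hx : hs.act ⟨x, T.leL T.mem⟩ = 1) : Nat.card (Factor D₀ D₁) = 2 := by
  classical
  set W := Additive (Factor D₀ D₁)
  have hfix : ∀ w : W, hs.act ⟨x, T.leL T.mem⟩ w = w := fun w => by rw [hx]; rfl
  haveI : hs.act.ker.Normal := MonoidHom.normal_ker _
  set C := hs.act.ker.map H.subtype with hC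
  set R := C ⊓ L ⊔ K with hR
  have hCn : H ≤ normalizer (C : Set G) := le_normalizer_map_subtype
  have hLCL : L ≤ normalizer ((C ⊓ L : Subgroup G) : Set G) := fun (g : G) hg => by
    have hgC := mem_set_normalizer_iff.1 (hCn (T.leL hg))
    exact mem_set_normalizer_iff.2 fun a => ⟨fun ha => ⟨(hgC a).1 ha.1, L.mul_mem (L.mul_mem hg ha.2) (L.inv_mem hg)⟩,
      fun ha => ⟨(hgC a).2 ha.1, by
        have := L.mul_mem (L.mul_mem (L.inv_mem hg) ha.2) hg
        rwa [show g⁻¹ * (g * a * g⁻¹) * g = a by group] at this⟩⟩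
  have hRL : R = L := by
    rcases T.simple R (sup_le inf_le_right T.leK) le_sup_right
      (Cfsg.Lib.Coprime.le_normalizer_sup hLCL (T.leL.trans T.normK)) with e | e
    · exact absurd (e ▸ mem_sup_left (show x ∈ C ⊓ L from ⟨⟨_, hx, rfl⟩, T.mem⟩)) (T.x_not_mem h)
    · exact e
  have hW4 : Nat.card W ≤ 4 := by
    have h1 := hs.card_fix h (T.leL T.mem)
    rw [Nat.card_congr (Equiv.subtypeUnivEquiv hfix)] at h1
    have h2 : Nat.card (D₁ ⊓ V : Subgroup G) ≤ Nat.card V := Nat.le_of_dvd Nat.card_pos (card_dvd_of_le inf_le_right)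
    have h3 := Nat.le_mul_of_pos_right (Nat.card W) (Nat.card_pos (α := (D₀ ⊓ V : Subgroup G)))
    rcases h.card with e | e <;> omega
  -- every element acts like an element of `K`
  have hKact : ∀ g : H, ∃ k : K.subgroupOf H, hs.act g = hs.act k := by
    intro g
    obtain ⟨l, hl, v, hv, e⟩ := T.cover g g.2
    have hvact : hs.act ⟨v, hv.2⟩ = 1 := by
      refine (hs.act_eq_one _).2 fun d hd => ?_
      obtain ⟨n, hn, hnV⟩ := hs.fixed_lift h (T.leL T.mem) hd ((hs.act_eq_one _).1 hx d hd)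
      have h2 : (d * n) * (v * n⁻¹ * v⁻¹) * d⁻¹ ∈ D₀ := by
        have hvn : v * n⁻¹ * v⁻¹ ∈ D₀ := ((mem_set_normalizer_iff.1 (hs.norm₀ hv.2)) _).1 (inv_mem hn)
        have h3 := ((mem_set_normalizer_iff.1 (hs.norm₀ (hs.leH hd))) _).1 (mul_mem hn hvn)
        rwa [show d * (n * (v * n⁻¹ * v⁻¹)) * d⁻¹ = (d * n) * (v * n⁻¹ * v⁻¹) * d⁻¹ by group] at h3
      show v * d * v⁻¹ * d⁻¹ ∈ D₀
      rwa [show v * d * v⁻¹ * d⁻¹ = (v * (d * n) * v⁻¹) * (v * n⁻¹ * v⁻¹) * d⁻¹ by group,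
        (h.comm_V hv.1 hnV).eq, mul_inv_cancel_right]
    have hl' : l ∈ ((C ⊓ L ⊔ K : Subgroup G) : Set G) := by rw [← hR, hRL]; exact hl
    rw [Subgroup.coe_mul_of_left_le_normalizer_right _ _ (inf_le_right.trans (T.leL.trans T.normK))] at hl'
    obtain ⟨_, ⟨⟨c, hc, rfl⟩, -⟩, k, hk, rfl⟩ := hl'
    refine ⟨⟨⟨k, T.leH hk⟩, mem_subgroupOf.2 hk⟩, ?_⟩
    rw [show g = c * ⟨k, T.leH hk⟩ * ⟨v, hv.2⟩ from Subtype.ext (by simpa [mul_assoc] using e),
      map_mul, map_mul, MonoidHom.mem_ker.1 hc, hvact, one_mul, mul_one]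
  letI : MulAction (K.subgroupOf H) W := MulAction.compHom W (hs.act.comp (K.subgroupOf H).subtype)
  have hK3 : ¬ 3 ∣ Nat.card (K.subgroupOf H) := by
    rw [Nat.card_congr (subgroupOfEquivOfLe T.leH).toEquiv]; exact T.three
  haveI : Nontrivial W := by
    refine Finite.one_lt_card_iff_nontrivial.1 ?_
    by_contra hle
    have h1 := hs.card_factor
    rw [show Nat.card (Factor D₀ D₁) = 1 by
      have := Nat.card_pos (α := W); exact le_antisymm (not_lt.1 hle) this, one_mul] at h1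
    exact hs.ne (Subgroup.eq_of_le_of_card_ge hs.le h1.ge)
  have hsmul : ∀ (k : K.subgroupOf H) (w : W), k • w = hs.act k w := fun _ _ => rfl
  -- a fixed point
  obtain ⟨w, hw0, hw⟩ : ∃ w : W, w ≠ 0 ∧ ∀ k : K.subgroupOf H, k • w = w := by
    have horb : ∀ w : W, w ≠ 0 → ∀ w' ∈ MulAction.orbit (K.subgroupOf H) w, w' ≠ 0 := by
      rintro w hw _ ⟨k, rfl⟩ e
      apply hw
      rw [← inv_smul_smul k w, show k • w = 0 from e, hsmul, map_zero]
    have hsub : ∀ w : W, w ≠ 0 → MulAction.orbit (K.subgroupOf H) w ⊆ ({0} : Set W)ᶜ := fun w hw w' hw' =>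
      horb w hw w' hw'
    have hc3 : ({0} : Set W)ᶜ.ncard ≤ 3 := by
      rw [Set.ncard_compl, Set.ncard_singleton]; omega
    have hne3 : ∀ w : W, (MulAction.orbit (K.subgroupOf H) w).ncard ≠ 3 := fun w e => hK3 (by
      rw [← e, ← MulAction.index_stabilizer]; exact index_dvd_card _)
    have hfixed : ∀ w : W, (MulAction.orbit (K.subgroupOf H) w).ncard ≤ 1 → ∀ k : K.subgroupOf H, k • w = w :=
      fun w hw k => (Set.ncard_le_one (Set.toFinite _)).1 hw _ (MulAction.mem_orbit w k) _ (MulAction.mem_orbit_self w)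
    obtain ⟨w, hw⟩ := exists_ne (0 : W)
    by_cases h1 : (MulAction.orbit (K.subgroupOf H) w).ncard ≤ 1
    · exact ⟨w, hw, hfixed w h1⟩
    have hle := Set.ncard_le_ncard (hsub w hw) (Set.toFinite _)
    have h2 : (MulAction.orbit (K.subgroupOf H) w).ncard = 2 := by have := hne3 w; omega
    have hne : ¬ ({0} : Set W)ᶜ ⊆ MulAction.orbit (K.subgroupOf H) w := fun hss => by
      have h4 := Set.ncard_le_ncard hss (Set.toFinite _)
      rw [Set.ncard_compl, Set.ncard_singleton] at h4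
      rw [Set.ncard_compl, Set.ncard_singleton] at hle
      have hW2 : ¬ 3 ∣ Nat.card W := fun h3 => by
        obtain ⟨n, hn⟩ := IsPGroup.iff_card.1 hs.two
        have h5 : 3 ∣ 2 ^ n := hn ▸ (h3.trans (Dvd.intro _ hs.card_factor))
        have := Nat.prime_three.dvd_of_dvd_pow h5
        omega
      have hW0 : 2 ≤ Nat.card W := Finite.one_lt_card
      omega
    obtain ⟨w', hw', hw'o⟩ := Set.not_subset.1 hne
    refine ⟨w', hw', hfixed w' ?_⟩
    have hdis : Disjoint (MulAction.orbit (K.subgroupOf H) w') (MulAction.orbit (K.subgroupOf H) w) := by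
      refine Set.disjoint_left.2 fun a ha ha' => hw'o ?_
      rw [← MulAction.orbit_eq_iff.2 ha', MulAction.orbit_eq_iff.2 ha]
      exact MulAction.mem_orbit_self w'
    have h4 := Set.ncard_le_ncard (Set.union_subset (hsub w' hw') (hsub w hw)) (Set.toFinite _)
    rw [Set.ncard_union_eq hdis (Set.toFinite _) (Set.toFinite _), h2] at h4
    omega
  have hww : w + w = 0 := hs.sq w.toMul
  rcases hs.irr (AddSubgroup.zmultiples w) (fun g v hv => by
    obtain ⟨n, rfl⟩ := AddSubgroup.mem_zmultiples_iff.1 hv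
    obtain ⟨k, hk⟩ := hKact g
    rw [hk, map_zsmul, ← hsmul, hw k]
    exact ⟨n, rfl⟩) with e | e
  · exact absurd (AddSubgroup.mem_bot.1 (e ▸ AddSubgroup.mem_zmultiples w)) hw0
  · have h1 : Nat.card W = addOrderOf w := by
      rw [← Nat.card_zmultiples, e, AddSubgroup.card_top]
    have h2 : addOrderOf w = 2 := by
      haveI : Fact (Nat.Prime 2) := ⟨Nat.prime_two⟩
      exact addOrderOf_eq_prime (by rw [two_nsmul]; exact hww) hw0
    rw [← h2, ← h1]; rfl

end act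

/-- A step with at most twice as many fixed points is central or the natural module. -/
theorem Step.cases (h : Hyp x V) (h5 : ¬ 5 ∣ Nat.card G) (T : Top x V H K L) (hs : Step H D₀ D₁)
    (hV : Nat.card (D₁ ⊓ V : Subgroup G) ≤ 2 * Nat.card (D₀ ⊓ V : Subgroup G)) :
    Nat.card (D₁ ⊓ V : Subgroup G) = 2 * Nat.card (D₀ ⊓ V : Subgroup G) ∧
      (Nat.card D₁ = 2 * Nat.card D₀ ∨ Nat.card D₁ = 8 * Nat.card D₀ ∧
        Nat.card L = 168 * Nat.card K ∧ H = L ∧ ∀ k ∈ K, ∀ d ∈ D₁, k * d * k⁻¹ * d⁻¹ ∈ D₀) := by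
  haveI := hs.normal
  haveI := hs.comm
  have hx : x ∈ H := T.leL T.mem
  have hfix := hs.card_fix h hx
  set n := Nat.card {w // hs.act ⟨x, hx⟩ w = w}
  have hpos := Nat.card_pos (α := (D₀ ⊓ V : Subgroup G))
  have hn2 : n ≤ 2 := Nat.le_of_mul_le_mul_right (hfix.symm ▸ hV) hpos
  have hn0 : 0 < n := Nat.card_pos_iff.2 ⟨⟨⟨0, map_zero _⟩⟩, inferInstance⟩
  have hn1 : n ≠ 1 := fun e => hs.ne (T.no_fpf_factor h hs.le hs.leH hs.two hs.norm₀ hs.norm₁ (by
    have e' := Subgroup.eq_of_le_of_card_ge (inf_le_inf_right V hs.le) (by rw [← hfix, e, one_mul])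
    rw [← e']; exact inf_le_left)).symm
  refine ⟨by rw [← hfix, show n = 2 by omega], ?_⟩
  by_cases hc : hs.act ⟨x, hx⟩ = 1
  · left
    rw [← hs.card_factor, hs.central T h hc]
  · right
    obtain ⟨e1, e2, -, e4, e5⟩ := (hs.rep T h hc (by omega : n ≤ 4)).natural h h5 T (show n ≤ 2 from hn2)
    refine ⟨by rw [← hs.card_factor]; exact congrArg (· * _) e2, e1, e4, fun k hk d hd => ?_⟩
    exact (hs.act_eq_one ⟨k, T.leH hk⟩).1 (e5 _ hk) d hd

/-- A step with four times as many fixed points, on which `K` is trivial. -/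
theorem Step.four (h : Hyp x V) (T : Top x V H K L) (hs : Step H D₀ D₁)
    (h168 : Nat.card L = 168 * Nat.card K)
    (hV : Nat.card (D₁ ⊓ V : Subgroup G) = 4 * Nat.card (D₀ ⊓ V : Subgroup G))
    (hK : ∀ k ∈ K, ∀ d ∈ D₁, k * d * k⁻¹ * d⁻¹ ∈ D₀)
    (hfree : ∀ a ∈ L, a ∉ K → a ^ 7 ∈ K → ∀ v ∈ D₁ ⊓ V, a * v * a⁻¹ * v⁻¹ ∈ D₀ → v ∈ D₀) :
    ∃ N, Nat.card D₁ = N * Nat.card D₀ ∧ (N = 64 ∨ N = 256 ∨ N = 1024) := by
  haveI := hs.normal
  haveI := hs.comm
  have hx : x ∈ H := T.leL T.mem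
  have hfix := hs.card_fix h hx
  set n := Nat.card {w // hs.act ⟨x, hx⟩ w = w}
  have hn : n = 4 := Nat.eq_of_mul_eq_mul_right Nat.card_pos (hfix.trans hV)
  refine ⟨Nat.card (Additive (Factor D₀ D₁)), hs.card_factor.symm, ?_⟩
  have hc : hs.act ⟨x, hx⟩ ≠ 1 := fun hc => by
    have h1 : n = Nat.card (Factor D₀ D₁) :=
      Nat.card_congr (Equiv.subtypeUnivEquiv fun w => by rw [hc]; rfl)
    rw [hs.central T h hc] at h1
    omega
  refine (hs.rep T h hc (by omega : n ≤ 4)).four h T h168 hn (fun g hg => (hs.act_eq_one g).2 fun d hd => hK g hg d hd)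
    fun a haL haK ha7 w hw haw => ?_
  obtain ⟨d, hd⟩ := QuotientGroup.mk_surjective w.toMul
  have hwd : w = Additive.ofMul (QuotientGroup.mk d) := by rw [hd]; rfl
  rw [hwd] at hw haw ⊢
  obtain ⟨m, hm, hmV⟩ := hs.fixed_lift h hx d.2 ((hs.act_fix _ d).1 hw)
  have e : (QuotientGroup.mk d : Factor D₀ D₁) = QuotientGroup.mk ⟨(d : G) * m, mul_mem d.2 (hs.le hm)⟩ := by
    rw [QuotientGroup.eq]; exact mem_subgroupOf.2 (by simpa using hm)
  rw [e] at haw ⊢
  have := hfree a haL haK ha7 _ ⟨mul_mem d.2 (hs.le hm), hmV⟩ ((hs.act_fix _ _).1 haw)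
  rw [(QuotientGroup.eq_one_iff _).2 (mem_subgroupOf.2 this)]; rfl

end Cfsg.Lib.ThreeFour
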