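import Cfsg.Agent.ThreeFour.Local.Ctx
import Cfsg.Agent.ThreeFour.Arith.LocalDefs
import Cfsg.Agent.ThreeFour.Arith.Crit
import Cfsg.Agent.ThreeFour.Arith.Norm

/-!
The numerical data of the classes of involutions, in the form the finite searches take.
-/

set_option autoImplicit false
set_option linter.unusedSectionVars false
set_option linter.style.haveILetI false

namespace Cfsg.Lib.ThreeFour

open Subgroup

universe u

variable {G : Type u} [Group G] [Finite G] {x τ : G} {V : Subgroup G} {F s k : ℕ} {h : G → ℤ}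

/-- Everything known before the local analysis. -/
structure Full (x : G) (V : Subgroup G) (τ : G) (F : ℕ) (h : G → ℤ) (s k : ℕ) : Prop extends Ctx x V τ where
  prin : Principal x V τ F h
  norm : Norm x V τ F h s k

theorem cen_eq_of_isConj {a b : G} (hab : IsConj a b) : cen a = cen b := by
  obtain ⟨g, rfl⟩ := isConj_iff.1 hab
  refine Nat.card_congr ((MulAut.conj g).toEquiv.subtypeEquiv fun c => ?_)
  show c ∈ centralizer ({a} : Set G) ↔ g * c * g⁻¹ ∈ centralizer ({g * a * g⁻¹} : Set G)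
  rw [mem_centralizer_singleton_iff, mem_centralizer_singleton_iff]
  exact ⟨fun e => by rw [show g * c * g⁻¹ * (g * a * g⁻¹) = g * (c * a) * g⁻¹ by group, e]; group,
    fun e => mul_left_cancel (a := g) (mul_right_cancel (b := g⁻¹)
      (by calc g * (c * a) * g⁻¹ = g * c * g⁻¹ * (g * a * g⁻¹) := by group
            _ = g * a * g⁻¹ * (g * c * g⁻¹) := e
            _ = g * (a * c) * g⁻¹ := by group))⟩

theorem orderOf_eq_two {a : G} (h2 : a * a = 1) (h1 : a ≠ 1) : orderOf a = 2 :=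
  haveI : Fact (Nat.Prime 2) := ⟨Nat.prime_two⟩
  orderOf_eq_prime (by rw [pow_two]; exact h2) h1

theorem Hyp.orderOf_V (H : Hyp x V) {u : G} (hu : u ∈ V) (hu1 : u ≠ 1) : orderOf u = 2 :=
  orderOf_eq_two (H.sq u hu) hu1

/-- An involution whose centraliser has order divisible by three is conjugate to an element of `V`. -/
theorem Hyp.exists_conj_of_three (H : Hyp x V) {z : G} (hz : orderOf z = 2) (h3 : 3 ∣ cen z) :
    ∃ u ∈ V, u ≠ 1 ∧ IsConj z u := by
  haveI : Fact (Nat.Prime 3) := ⟨Nat.prime_three⟩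
  obtain ⟨⟨y, hy⟩, ho⟩ := exists_prime_orderOf_dvd_card' (G := centralizer ({z} : Set G)) 3 h3
  rw [Subgroup.orderOf_mk] at ho
  have hyz : Commute z y := ((mem_centralizer_singleton_iff.1 hy) : y * z = z * y).symm
  obtain ⟨g, hg⟩ := H.exists_conj_mem ho
  have hz2 : (g⁻¹ * z * g) * (g⁻¹ * z * g) = 1 := by
    rw [show g⁻¹ * z * g * (g⁻¹ * z * g) = g⁻¹ * (z * z) * g by group, ← pow_two z, ← hz, pow_orderOf_eq_one]; group
  have hc : Commute (g⁻¹ * z * g) x := by
    have h1 : Commute (g⁻¹ * z * g) (g⁻¹ * y * g) := by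
      show g⁻¹ * z * g * (g⁻¹ * y * g) = g⁻¹ * y * g * (g⁻¹ * z * g)
      rw [show g⁻¹ * z * g * (g⁻¹ * y * g) = g⁻¹ * (z * y) * g by group, hyz.eq]; group
    rcases hg with e | e <;> rw [e] at h1
    · exact h1
    · exact inv_inv x ▸ h1.inv_right
  obtain ⟨i, hi, u, hu, e⟩ := H.cent _ hc
  have h3' := H.cube hi hu
  rw [← e, pow_succ, pow_two, hz2, one_mul] at h3'
  refine ⟨u, hu, fun e1 => ?_, isConj_iff.2 ⟨g⁻¹, by rw [inv_inv]; exact h3'⟩⟩
  rw [e1, show g⁻¹ * z * g = g⁻¹ * z * g⁻¹⁻¹ by group, conj_eq_one_iff] at h3'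
  rw [h3', orderOf_one] at hz; omega

theorem Full.setting (f : Full x V τ F h s k) : Setting x V := f.toCtx.set

theorem Full.cls (f : Full x V τ F h s k) {t : G} (ho : orderOf t = 2) :
    Cls (Nat.card G) (Nat.card V) k s F (mu V τ t) (cen t) := by
  have hlt := abs_lt.1 (f.prin.abs_lt t ho)
  refine ⟨f.prin.meet t ho, ((F : ℤ) - h t).toNat, ?_⟩
  have hL : ((((F : ℤ) - h t).toNat : ℕ) : ℤ) = (F : ℤ) - h t := Int.toNat_of_nonneg (by omega)
  refine ⟨?_, by omega, by omega, ?_, card_subgroup_dvd_card _, ?_, ?_, ?_⟩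
  · exact Int.natCast_dvd_natCast.1 (by rw [hL]; exact f.prin.mod_four t ho)
  · have := f.norm.cen_eq t ho
    rw [← hL] at this
    exact_mod_cast this
  · rw [hL, sub_sub_cancel]; exact f.prin.sq_le t ho
  · rw [hL, sub_sub_cancel]; exact (f.prin.class_dvd t ho).1
  · rw [hL, sub_sub_cancel]; exact (f.prin.class_dvd t ho).2

theorem Full.row (f : Full x V τ F h s k) (h7 : 7 ∣ Nat.card G) : Row (Nat.card G) (Nat.card V) k s F :=
  ⟨f.prin.ge_seven, f.prin.mod_three, f.prin.mod_five, f.norm.three, f.norm.card_eq, f.prin.sq_lt, f.setting.five,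
    h7⟩

/-- A list containing all centraliser orders of involutions passes the checks. -/
theorem Full.checks (f : Full x V τ F h s k) {cs : List ℕ} (hcs : ∀ t : G, orderOf t = 2 → cen t ∈ cs) :
    Checks (Nat.card G) F cs := by
  haveI : Fact (Nat.Prime 2) := ⟨Nat.prime_two⟩
  refine ⟨?_, fun p hp h7 hd hsq => ?_⟩
  · obtain ⟨S⟩ : Nonempty (Sylow 2 G) := inferInstance
    have h2 : 2 ∣ Nat.card G := f.toCtx.tau.orderOf_eq f.setting.hyp ▸ orderOf_dvd_natCard τ
    haveI : Nontrivial S := by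
      rw [← Finite.one_lt_card_iff_nontrivial, S.card_eq_multiplicity]
      exact Nat.one_lt_pow (Nat.prime_two.factorization_pos_of_dvd Nat.card_pos.ne' h2).ne' one_lt_two
    haveI := S.2.center_nontrivial
    obtain ⟨⟨z, hzc⟩, hz⟩ := exists_prime_orderOf_dvd_card' (G := center (S : Subgroup G)) 2 (by
      obtain ⟨n, hn⟩ := IsPGroup.iff_card.1 (S.2.to_subgroup (center (S : Subgroup G)))
      have := Finite.one_lt_card (α := center (S : Subgroup G))
      rw [hn] at this ⊢
      exact dvd_pow_self 2 (by rintro rfl; norm_num at this))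
    rw [Subgroup.orderOf_mk, ← Subgroup.orderOf_coe] at hz
    refine ⟨cen (z : G), hcs _ hz, ?_⟩
    rw [← S.card_eq_multiplicity]
    exact card_dvd_of_le fun a ha => mem_centralizer_singleton_iff.2
      (congrArg Subtype.val (mem_center_iff.1 hzc ⟨a, ha⟩))
  · obtain ⟨kk, D, e1, e2, e3, e4, e5, e6, hev, e8⟩ :=
      critStmt G x V τ F h f.setting f.toCtx.tau f.prin p hp h7 hd hsq
    refine ⟨kk, D, e1, e2, e3, e4, e5, e6, fun h' => ?_, e8⟩
    obtain ⟨t, ht, htd⟩ := hev h'
    exact ⟨cen t, hcs t ht, htd⟩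

theorem Full.k_eq_one_of_four (f : Full x V τ F h s k) (h4 : Nat.card V = 4) : k = 1 := by
  rcases f.norm.kk with e | ⟨-, e⟩
  · exact e
  · omega

/-- The lists of centraliser orders for four elements in `V`. -/
theorem Full.four_lists (f : Full x V τ F h s k) (h4 : Nat.card V = 4) {u₁ u₂ u₃ : G} (h1 : u₁ ∈ V) (h2 : u₂ ∈ V)
    (h3 : u₃ ∈ V) (n1 : u₁ ≠ 1) (n2 : u₂ ≠ 1) (n3 : u₃ ≠ 1) (d12 : u₁ ≠ u₂) (d13 : u₁ ≠ u₃) (d23 : u₂ ≠ u₃) :
    FourLists (Nat.card G) s F (cen u₁) (cen u₂) (cen u₃) := by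
  classical
  have H := f.setting.hyp
  haveI := Fintype.ofFinite V
  have hk := f.k_eq_one_of_four h4
  set W : G → Finset V := fun t => Finset.univ.filter fun w : V => IsConj t (τ * w) with hWdef
  have hmu : ∀ t, mu V τ t = (W t).card := fun t => by
    rw [mu, Nat.card_eq_fintype_card, Fintype.card_subtype]
  have hcls : ∀ {u : G}, u ∈ V → u ≠ 1 → Cls (Nat.card G) 4 1 s F (mu V τ u) (cen u) := fun hu hu1 => by
    have := f.cls (H.orderOf_V hu hu1)
    rwa [h4, hk] at this
  have hdis : ∀ {u u' : G}, u ∈ V → u' ∈ V → u ≠ u' → Disjoint (W u) (W u') := fun hu hu' hne =>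
    Finset.disjoint_filter.2 fun w _ e e' => hne (H.eq_of_isConj f.toCtx.tau hu hu' (e.trans e'.symm))
  set U := W u₁ ∪ (W u₂ ∪ W u₃) with hU
  have hUc : U.card = mu V τ u₁ + (mu V τ u₂ + mu V τ u₃) := by
    rw [hU, Finset.card_union_of_disjoint (Finset.disjoint_union_right.2 ⟨hdis h1 h2 d12, hdis h1 h3 d13⟩),
      Finset.card_union_of_disjoint (hdis h2 h3 d23), hmu, hmu, hmu]
  have hV4 : Fintype.card V = 4 := by rw [← Nat.card_eq_fintype_card, h4]
  have hle : U.card ≤ 4 := hV4 ▸ Finset.card_le_univ U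
  have hmem : ∀ w ∈ U, ∀ t, IsConj t (τ * ((w : V) : G)) → cen t ∈ [cen u₁, cen u₂, cen u₃] := by
    intro w hw t ht
    simp only [hU, hWdef, Finset.mem_union, Finset.mem_filter, Finset.mem_univ, true_and] at hw
    simp only [List.mem_cons, List.mem_nil_iff, or_false]
    rcases hw with e | e | e
    · exact Or.inl (cen_eq_of_isConj (ht.trans e.symm))
    · exact Or.inr (Or.inl (cen_eq_of_isConj (ht.trans e.symm)))
    · exact Or.inr (Or.inr (cen_eq_of_isConj (ht.trans e.symm)))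
  obtain ⟨p1, -⟩ := hcls h1 n1
  obtain ⟨p2, -⟩ := hcls h2 n2
  obtain ⟨p3, -⟩ := hcls h3 n3
  refine ⟨_, _, _, hcls h1 n1, hcls h2 n2, hcls h3 n3, ?_⟩
  by_cases hfull : U.card = 4
  · refine Or.inl ⟨by omega, f.checks fun t ht => ?_⟩
    obtain ⟨w, hw, hc⟩ := f.toCtx.meet t ht
    exact hmem ⟨w, hw⟩ (by rw [Finset.eq_univ_of_card U (hfull.trans hV4.symm)]; exact Finset.mem_univ _) t hc
  refine Or.inr ⟨by omega, by omega, by omega, ?_⟩
  obtain ⟨w₀, -, hw₀⟩ := Finset.exists_mem_notMem_of_card_lt_card (s := U) (t := Finset.univ)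
    (by rw [Finset.card_univ, hV4]; omega)
  have huniq : ∀ w : V, w ∉ U → w = w₀ := fun w hw => by
    by_contra hne
    have := Finset.card_le_card (Finset.subset_univ (insert w (insert w₀ U)))
    rw [Finset.card_insert_of_notMem (by simp only [Finset.mem_insert, Finset.mem_filter, Finset.mem_univ, true_and, not_or]; exact ⟨hne, hw⟩), Finset.card_insert_of_notMem hw₀, Finset.card_univ,
      hV4] at this
    omega
  have hz : orderOf (τ * (w₀ : G)) = 2 := Arith.orderOf_tau_mul H f.toCtx.tau w₀.2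
  have hznot : ∀ u ∈ V, u ≠ 1 → ¬ IsConj (τ * (w₀ : G)) u := by
    intro u hu hu1 hc
    apply hw₀
    have hcase : u = u₁ ∨ u = u₂ ∨ u = u₃ := by
      by_contra hno
      push Not at hno
      have h5 : ({1, ⟨u, hu⟩, ⟨u₁, h1⟩, ⟨u₂, h2⟩, ⟨u₃, h3⟩} : Finset V).card = 5 := by
        repeat' rw [Finset.card_insert_of_notMem]
        · rfl
        all_goals simp [Subtype.ext_iff, *, Ne.symm n1, Ne.symm n2, Ne.symm n3, Ne.symm hu1]
      have := Finset.card_le_univ ({1, ⟨u, hu⟩, ⟨u₁, h1⟩, ⟨u₂, h2⟩, ⟨u₃, h3⟩} : Finset V)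
      omega
    simp only [hU, hWdef, Finset.mem_union, Finset.mem_filter, Finset.mem_univ, true_and]
    rcases hcase with rfl | rfl | rfl
    · exact Or.inl hc.symm
    · exact Or.inr (Or.inl hc.symm)
    · exact Or.inr (Or.inr hc.symm)
  refine ⟨cen (τ * (w₀ : G)), fun h3' => ?_, ?_, f.checks fun t ht => ?_⟩
  · obtain ⟨u, hu, hu1, hc⟩ := H.exists_conj_of_three hz h3'
    exact hznot u hu hu1 hc
  · have hμ : mu V τ (τ * (w₀ : G)) = 1 := by
      rw [hmu, Finset.card_eq_one]
      refine ⟨w₀, Finset.eq_singleton_iff_unique_mem.2 ⟨Finset.mem_filter.2 ⟨Finset.mem_univ _, IsConj.refl _⟩, fun w hw => huniq w fun hwU => ?_⟩⟩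
      simp only [hWdef, Finset.mem_filter, Finset.mem_univ, true_and] at hw
      simp only [hU, hWdef, Finset.mem_union, Finset.mem_filter, Finset.mem_univ, true_and] at hwU
      rcases hwU with e | e | e
      · exact hznot _ h1 n1 (hw.trans e.symm)
      · exact hznot _ h2 n2 (hw.trans e.symm)
      · exact hznot _ h3 n3 (hw.trans e.symm)
    have := f.cls hz
    rwa [hμ, h4, hk] at this
  · obtain ⟨w, hw, hc⟩ := f.toCtx.meet t ht
    by_cases hwU : (⟨w, hw⟩ : V) ∈ U
    · have := hmem ⟨w, hw⟩ hwU t hc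
      simp only [List.mem_cons, List.mem_nil_iff, or_false] at this ⊢
      tauto
    · have e : w = (w₀ : G) := congrArg Subtype.val (huniq ⟨w, hw⟩ hwU)
      rw [cen_eq_of_isConj (show IsConj t (τ * (w₀ : G)) from e ▸ hc)]
      simp

/-- The lists of centraliser orders for two elements in `V`. -/
theorem Full.two_lists (f : Full x V τ F h s k) (h2 : Nat.card V = 2) {u : G} (hu : u ∈ V) (hu1 : u ≠ 1) :
    (k = 2 ∧ (∀ t : G, orderOf t = 2 → IsConj t u) ∧ Cls (Nat.card G) 2 2 s F 2 (cen u) ∧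
        Checks (Nat.card G) F [cen u]) ∨
      k = 1 ∧ Cls (Nat.card G) 2 1 s F 1 (cen u) ∧
        ∃ z : ℕ, ¬ 3 ∣ z ∧ Cls (Nat.card G) 2 1 s F 1 z ∧ Checks (Nat.card G) F [cen u, z] := by
  classical
  have H := f.setting.hyp
  haveI := Fintype.ofFinite V
  have hV : Fintype.card V = 2 := by rw [← Nat.card_eq_fintype_card, h2]
  have hone : ∀ v ∈ V, v = 1 ∨ v = u := fun v hv => by
    by_contra hno
    push Not at hno
    have h3 : ({1, ⟨u, hu⟩, ⟨v, hv⟩} : Finset V).card = 3 := by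
      repeat' rw [Finset.card_insert_of_notMem]
      · rfl
      all_goals simp [Subtype.ext_iff, *, Ne.symm hu1, Ne.symm hno.1, Ne.symm hno.2]
    have := Finset.card_le_univ ({1, ⟨u, hu⟩, ⟨v, hv⟩} : Finset V)
    omega
  have hmu : ∀ t, mu V τ t = (Finset.univ.filter fun w : V => IsConj t (τ * w)).card := fun t => by
    rw [mu, Nat.card_eq_fintype_card, Fintype.card_subtype]
  have hle : ∀ t, mu V τ t ≤ 2 := fun t => (hmu t).trans_le (hV ▸ Finset.card_le_univ _)
  have hc := f.cls (H.orderOf_V hu hu1)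
  have hpos := hc.1
  have hall : mu V τ u = 2 → ∀ t : G, orderOf t = 2 → IsConj t u := fun hm t ht => by
    obtain ⟨w, hw, hcw⟩ := f.toCtx.meet t ht
    rw [hmu] at hm
    have := Finset.eq_univ_of_card _ (hm.trans hV.symm)
    have hw' : (⟨w, hw⟩ : V) ∈ Finset.univ.filter fun w : V => IsConj u (τ * w) := this.symm ▸ Finset.mem_univ _
    exact hcw.trans (Finset.mem_filter.1 hw').2.symm
  rcases f.norm.kk with rfl | ⟨rfl, -⟩
  · right
    have hm : mu V τ u = 1 := by
      by_contra hm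
      have hm2 : mu V τ u = 2 := by have := hle u; omega
      obtain ⟨t, ht, hodd⟩ := f.norm.mu_one rfl
      have : mu V τ t = 2 := by
        rw [← hm2, hmu, hmu]
        exact congrArg Finset.card (Finset.filter_congr fun w _ =>
          ⟨fun e => (hall hm2 t ht).symm.trans e, fun e => (hall hm2 t ht).trans e⟩)
      omega
    rw [h2, hm] at hc
    refine ⟨rfl, hc, ?_⟩
    rw [hmu] at hm
    obtain ⟨w₀, -, hw₀⟩ := Finset.exists_mem_notMem_of_card_lt_card
      (s := Finset.univ.filter fun w : V => IsConj u (τ * w)) (t := Finset.univ)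
      (by rw [Finset.card_univ, hV, hm]; norm_num)
    have hno : ¬ IsConj u (τ * (w₀ : G)) := fun e => hw₀ (Finset.mem_filter.2 ⟨Finset.mem_univ _, e⟩)
    have hz : orderOf (τ * (w₀ : G)) = 2 := Arith.orderOf_tau_mul H f.toCtx.tau w₀.2
    have huniq : ∀ w : V, ¬ IsConj u (τ * (w : G)) → w = w₀ := fun w hw => by
      by_contra hne
      have := Finset.card_le_card (Finset.subset_univ (insert w (insert w₀
        (Finset.univ.filter fun w : V => IsConj u (τ * w)))))
      rw [Finset.card_insert_of_notMem (by simp only [Finset.mem_insert, Finset.mem_filter, Finset.mem_univ, true_and, not_or]; exact ⟨hne, hw⟩), Finset.card_insert_of_notMem hw₀, Finset.card_univ,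
        hV, hm] at this
      omega
    refine ⟨cen (τ * (w₀ : G)), fun h3 => ?_, ?_, f.checks fun t ht => ?_⟩
    · obtain ⟨v, hv, hv1, hcv⟩ := H.exists_conj_of_three hz h3
      rcases hone v hv with e | e
      · exact hv1 e
      · exact hno (e ▸ hcv.symm)
    · have hμ : mu V τ (τ * (w₀ : G)) = 1 := by
        rw [hmu, Finset.card_eq_one]
        refine ⟨w₀, Finset.eq_singleton_iff_unique_mem.2 ⟨Finset.mem_filter.2 ⟨Finset.mem_univ _, IsConj.refl _⟩, fun w hw =>
          huniq w fun e => hno (e.trans (Finset.mem_filter.1 hw).2.symm)⟩⟩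
      have := f.cls hz
      rwa [hμ, h2] at this
    · obtain ⟨w, hw, hcw⟩ := f.toCtx.meet t ht
      by_cases hwu : IsConj u (τ * w)
      · rw [cen_eq_of_isConj (hcw.trans hwu.symm)]; simp
      · have e : w = (w₀ : G) := congrArg Subtype.val (huniq ⟨w, hw⟩ hwu)
        rw [cen_eq_of_isConj (show IsConj t (τ * (w₀ : G)) from e ▸ hcw)]; simp
  · left
    have hm : mu V τ u = 2 := by
      have h1 := f.norm.mu_dvd u (H.orderOf_V hu hu1)
      have := hle u
      omega
    rw [h2, hm] at hc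
    refine ⟨rfl, hall hm, hc, f.checks fun t ht => ?_⟩
    rw [cen_eq_of_isConj (hall hm t ht)]; simp

end Cfsg.Lib.ThreeFour
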