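import Cfsg.Agent.ThreeFour.Local.CentralOdd

/-!
Small general facts for the local analysis: orders of invariant two-groups, minimal abelian invariant
subgroups, involutory four-groups.
-/

set_option autoImplicit false
set_option linter.unusedSectionVars false
set_option linter.style.haveILetI false

namespace Cfsg.Lib.ThreeFour

open Subgroup
open Cfsg.Lib.SelfCentThree (Inv P3)
open scoped IsMulCommutative commutatorElement

universe u

variable {G : Type u} [Group G] {x : G} {V H W R S : Subgroup G}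

/-- Congruence for the fixed points of a conjugation of prime order on an invariant set. -/
theorem ncard_fixed_conj {p : ℕ} [Fact p.Prime] {b : G} (hb : b ^ p = 1) {O : Set G} (hO : O.Finite)
    (hbO : ∀ m ∈ O, b * m * b⁻¹ ∈ O) : O.ncard % p = {m ∈ O | b * m * b⁻¹ = m}.ncard % p := by
  classical
  haveI := hO.fintype
  let f : Function.End O := fun s => ⟨b * s * b⁻¹, hbO s s.2⟩
  have hit : ∀ n : ℕ, ∀ s : O, ((f^[n]) s : G) = b ^ n * s * (b ^ n)⁻¹ := fun n => by
    induction n with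
    | zero => intro s; show (s : G) = b ^ 0 * s * (b ^ 0)⁻¹; simp
    | succ n ih =>
      intro s
      rw [Function.iterate_succ_apply']
      show b * ((f^[n]) s : G) * b⁻¹ = _
      rw [ih, pow_succ']; group
  have hf : f ^ p ^ 1 = 1 := by
    rw [pow_one]
    have e : ∀ n, (f ^ n : Function.End O) = f^[n] := fun n => by
      induction n with
      | zero => rfl
      | succ n ih => rw [pow_succ, ih, Function.iterate_succ]; rfl
    rw [e]
    funext s
    refine Subtype.ext ?_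
    rw [hit, hb]
    show (1 : G) * s * 1⁻¹ = (s : G)
    simp
  have h1 := Equiv.Perm.card_fixedPoints_modEq (p := p) (n := 1) hf
  rw [← Nat.card_eq_fintype_card, ← Nat.card_eq_fintype_card] at h1
  rw [← Nat.card_coe_set_eq, ← Nat.card_coe_set_eq, h1]
  exact congrArg (· % p) (Nat.card_congr
    { toFun := fun s => ⟨s.1.1, s.1.2, congrArg Subtype.val (s.2 : f s.1 = s.1)⟩
      invFun := fun w => ⟨⟨w.1, w.2.1⟩, Subtype.ext w.2.2⟩
      left_inv := fun _ => rfl
      right_inv := fun _ => rfl })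

variable [Finite G]

/-- The order of an invariant two-group is that of its fixed points times a power of four. -/
theorem card_two_pow_four (h : Hyp x V) (hS2 : IsPGroup 2 S) (hSI : Inv x S) :
    ∃ j : ℕ, Nat.card S = Nat.card (S ⊓ V : Subgroup G) * 4 ^ j := by
  classical
  haveI : Fact (Nat.Prime 3) := ⟨Nat.prime_three⟩
  have hS3 : P3 S := fun h3 => by
    obtain ⟨n, hn⟩ := IsPGroup.iff_card.1 hS2
    rw [hn] at h3
    have := Nat.prime_three.dvd_of_dvd_pow h3
    omega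
  set A := (S ⊓ V).subgroupOf S with hA
  obtain ⟨f, hfm⟩ : ∃ f : Function.End (S ⧸ A), ∀ s : S, f (QuotientGroup.mk s) =
      QuotientGroup.mk ⟨x * s * x⁻¹, hSI s s.2⟩ := ⟨Quotient.lift (fun s : S => QuotientGroup.mk ⟨x * s * x⁻¹, hSI s s.2⟩)
    (fun a b hab => by
      have h1 : a⁻¹ * b ∈ A := QuotientGroup.leftRel_apply.1 hab
      refine QuotientGroup.eq.2 ?_
      have h2 := mem_subgroupOf.1 h1
      refine mem_subgroupOf.2 ?_
      show (x * (a : G) * x⁻¹)⁻¹ * (x * b * x⁻¹) ∈ S ⊓ V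
      rw [show (x * (a : G) * x⁻¹)⁻¹ * (x * b * x⁻¹) = x * ((a : G)⁻¹ * b) * x⁻¹ by group,
        (show Commute x ((a : G)⁻¹ * b) from (h.comm _ h2.2).symm).eq, mul_inv_cancel_right]
      exact h2), fun _ => rfl⟩
  have hf : f ^ 3 ^ 1 = 1 := by
    rw [pow_one, show (3 : ℕ) = 2 + 1 from rfl, pow_succ, pow_two]
    funext q
    obtain ⟨s, rfl⟩ := QuotientGroup.mk_surjective q
    show f (f (f (QuotientGroup.mk s))) = QuotientGroup.mk s
    rw [hfm, hfm, hfm]
    refine congrArg QuotientGroup.mk (Subtype.ext ?_)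
    show x * (x * (x * (s : G) * x⁻¹) * x⁻¹) * x⁻¹ = s
    rw [h.conj_conj]; group
  haveI := Fintype.ofFinite (S ⧸ A)
  have h1 := Equiv.Perm.card_fixedPoints_modEq (p := 3) (n := 1) hf
  have h2 : Nat.card (Function.fixedPoints f) = 1 := by
    refine Nat.card_eq_one_iff_exists.2 ⟨⟨QuotientGroup.mk 1, (hfm 1).trans (congrArg QuotientGroup.mk (Subtype.ext (by simp)))⟩, ?_⟩
    rintro ⟨q, hq⟩
    refine Subtype.ext ?_
    obtain ⟨s, rfl⟩ := QuotientGroup.mk_surjective q
    refine QuotientGroup.eq.2 ?_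
    rw [mul_one, inv_mem_iff]
    have h3 : (⟨x * s * x⁻¹, hSI s s.2⟩ : S)⁻¹ * s ∈ A := QuotientGroup.eq.1 ((hfm s).symm.trans hq)
    have h4 : (x * (s : G) * x⁻¹)⁻¹ * s ∈ S ⊓ V := mem_subgroupOf.1 h3
    set v := (x * (s : G) * x⁻¹)⁻¹ * s with hv
    have hxv := (h.comm v h4.2).symm.eq
    have e1 : x * (s : G) * x⁻¹ = s * v := by
      have : v⁻¹ = v := h.inv_eq h4.2
      calc x * (s : G) * x⁻¹ = s * v⁻¹ := by rw [hv]; group
        _ = s * v := by rw [this]
    have e2 : x * (s * v) * x⁻¹ = s := by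
      rw [show x * ((s : G) * v) * x⁻¹ = (x * s * x⁻¹) * (x * v * x⁻¹) by group, e1, hxv, mul_inv_cancel_right,
        mul_assoc, h.sq v h4.2, mul_one]
    have e3 : (s : G) * v = s := by
      calc (s : G) * v = x * s * x⁻¹ := e1.symm
        _ = x * (x * (s * v) * x⁻¹) * x⁻¹ := by rw [e2]
        _ = x * (x * (x * s * x⁻¹) * x⁻¹) * x⁻¹ := by rw [e1]
        _ = s := by rw [h.conj_conj]; group
    have e4 : x * (s : G) * x⁻¹ = s := e1.trans e3
    exact mem_subgroupOf.2 ⟨s.2, mem_V_of_fixed h hS3 s.2 (mul_inv_eq_iff_eq_mul.1 e4).symm⟩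
  replace h1 : Nat.card (S ⧸ A) % 3 = 1 := by
    have e := Nat.card_eq_fintype_card (α := S ⧸ A)
    rw [e]
    refine Eq.trans (h1 : _ % 3 = _ % 3) ?_
    rw [Fintype.card_eq_nat_card, h2]
  have hc : Nat.card (S ⧸ A) * Nat.card (S ⊓ V : Subgroup G) = Nat.card S := by
    rw [← Nat.card_congr (subgroupOfEquivOfLe (inf_le_left : S ⊓ V ≤ S)).toEquiv]
    exact (Subgroup.card_eq_card_quotient_mul_card_subgroup A).symm
  obtain ⟨n, hn⟩ := IsPGroup.iff_card.1 hS2
  obtain ⟨m, -, hm⟩ := (Nat.dvd_prime_pow Nat.prime_two).1 (Dvd.intro _ (hc.trans hn))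
  have hm2 : Even m := by
    rcases Nat.even_or_odd m with e | ⟨j, rfl⟩
    · exact e
    · exfalso
      have h5 : 2 ^ (2 * j + 1) % 3 = 2 := by rw [pow_succ, pow_mul, Nat.mul_mod, Nat.pow_mod]; norm_num
      rw [hm] at h1
      have : 2 ^ (2 * j + 1) % 3 = 1 := h1
      omega
  obtain ⟨j, rfl⟩ := hm2
  exact ⟨j, by rw [← hc, hm, show (4 : ℕ) = 2 ^ 2 by norm_num, ← pow_mul, two_mul, mul_comm]⟩

/-- An invariant subgroup of odd order not containing `x` is fixed-point-free. -/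
theorem fpf_of_odd (h : Hyp x V) (hI : Inv x R) (h2 : ¬ 2 ∣ Nat.card R) (hx : x ∉ R) : Fpf x R := by
  refine ⟨hI, fun r hr hc => ?_⟩
  obtain ⟨i, hi, v, hv, e⟩ := h.cent r hc
  have h3 : v ∈ R := h.cube hi hv ▸ e ▸ pow_mem hr 3
  have hv1 : v = 1 := by
    by_contra hv1
    haveI : Fact (Nat.Prime 2) := ⟨Nat.prime_two⟩
    exact h2 ((orderOf_eq_prime (by rw [pow_two]; exact h.sq v hv) hv1) ▸ Subgroup.orderOf_dvd_natCard R h3)
  rw [hv1, mul_one] at e
  rcases h.mem_three hi with e' | e' | e'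
  · exact e.trans e'
  · exact absurd (e' ▸ e ▸ hr) hx
  · exact absurd (by simpa using inv_mem (e' ▸ e ▸ hr : x⁻¹ ∈ R)) hx

/-- A nontrivial solvable subgroup contains a minimal invariant one, which is abelian. -/
theorem exists_minimal_abelian (hR1 : R ≠ ⊥) [Group.IsSolvable R] (hRn : H ≤ normalizer (R : Set G)) :
    ∃ W ≤ R, W ≠ ⊥ ∧ H ≤ normalizer (W : Set G) ∧ IsMulCommutative W ∧
      ∀ W' ≤ W, H ≤ normalizer (W' : Set G) → W' = ⊥ ∨ W' = W := by
  set 𝒮 := {W : Subgroup G | W ≤ R ∧ W ≠ ⊥ ∧ H ≤ normalizer (W : Set G)}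
  obtain ⟨W, ⟨hWR, hW1, hWn⟩, hWmin⟩ := (Set.toFinite 𝒮).exists_minimal ⟨R, le_rfl, hR1, hRn⟩
  have hmin : ∀ W' ≤ W, H ≤ normalizer (W' : Set G) → W' = ⊥ ∨ W' = W := fun W' hle hn => by
    by_cases hb : W' = ⊥
    · exact Or.inl hb
    · exact Or.inr (le_antisymm hle (hWmin (show W' ∈ 𝒮 from ⟨hle.trans hWR, hb, hn⟩) hle))
  haveI : Nontrivial W := (Subgroup.nontrivial_iff_ne_bot W).2 hW1
  haveI : Group.IsSolvable W := Group.isSolvable_of_isSolvable_injective (f := inclusion hWR) (inclusion_injective hWR)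
  have hWc : (_root_.commutator W).map W.subtype = ⊥ := by
    haveI : (_root_.commutator W).Characteristic := inferInstance
    refine (hmin _ (map_subtype_le _) (hWn.trans (normalizer_le_char _))).resolve_right fun e => ?_
    have h1 : _root_.commutator W = ⊤ := by
      apply Subgroup.map_injective W.subtype_injective
      rw [e, ← MonoidHom.range_eq_map, range_subtype]
    exact (Group.IsSolvable.commutator_lt_top_of_nontrivial W).ne h1
  refine ⟨W, hWR, hW1, hWn, ⟨⟨fun a b => ?_⟩⟩, hmin⟩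
  have h1 : (⁅a, b⁆ : W) ∈ _root_.commutator W := Subgroup.commutator_mem_commutator (mem_top a) (mem_top b)
  rw [(Subgroup.map_eq_bot_iff_of_injective _ W.subtype_injective).1 hWc, mem_bot,
    commutatorElement_eq_one_iff_mul_comm] at h1
  exact h1

/-- An involution whose conjugates under `x` multiply to one centralises. -/
theorem centralizes_of_four (h : Hyp x V) [IsMulCommutative W] (hW : Fpf x W) (hW2 : ¬ 2 ∣ Nat.card W) {f : G}
    (hf : f ∈ normalizer (W : Set G)) (hf2 : ∀ w ∈ W, f * f * w * (f * f)⁻¹ = w)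
    (hprod : f * (x * f * x⁻¹) * (x⁻¹ * f * x) = 1) {w : G} (hw : w ∈ W) : f * w * f⁻¹ = w := by
  rcases pm_of_four h hW hW2 hf (Or.inl hf2) hf2 (by rw [hprod]; exact Or.inl fun w _ => by simp) with e | e
  · exact e w hw
  have hc : ∀ v ∈ W, (x * f * x⁻¹) * v * (x * f * x⁻¹)⁻¹ = v⁻¹ := fun v hv => by
    rw [show (x * f * x⁻¹) * v * (x * f * x⁻¹)⁻¹ = x * (f * (x⁻¹ * v * x) * f⁻¹) * x⁻¹ by group,
      e _ (inv_back h hW.inv hv)]
    group
  have hc' : ∀ v ∈ W, (x⁻¹ * f * x) * v * (x⁻¹ * f * x)⁻¹ = v⁻¹ := fun v hv => by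
    rw [show (x⁻¹ * f * x) * v * (x⁻¹ * f * x)⁻¹ = x⁻¹ * (f * (x * v * x⁻¹) * f⁻¹) * x by group,
      e _ (hW.inv v hv)]
    group
  have h8 : ∀ v ∈ W, v⁻¹ = v := fun v hv => by
    have h9 : ∀ a b c : G, a * b * c * v * (a * b * c)⁻¹ = a * (b * (c * v * c⁻¹) * b⁻¹) * a⁻¹ := fun a b c => by group
    have h7 := h9 f (x * f * x⁻¹) (x⁻¹ * f * x)
    rw [hprod, hc' v hv, hc _ (inv_mem hv), inv_inv, e v hv] at h7
    simpa using h7.symm
  exact (e w hw).trans (h8 w hw)

end Cfsg.Lib.ThreeFour
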