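import Cfsg.Agent.ThreeFour.Local.SevenLocal

/-!
The endgame: standing hypotheses and generalities on invariant subgroups.
-/

set_option autoImplicit false
set_option linter.unusedSectionVars false
set_option linter.style.haveILetI false

namespace Cfsg.Lib.ThreeFour

open Subgroup
open Cfsg.Lib.SelfCentThree (Inv P3)
open Cfsg.Lib.Coprime (conjMap mem_conjMap)

universe u

variable {G : Type u} [Group G] {x τ : G} {V A B M : Subgroup G}

/-- The hypotheses of the endgame. -/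
structure Endgame [Finite G] (x : G) (V : Subgroup G) (τ : G) (F : ℕ) (h : G → ℤ) (s k : ℕ) : Prop
    extends Full x V τ F h s k where
  ct : Cfsg.IsCharacteristicTwoType G
  rank : ¬ Cfsg.PRankLE 2 2 G

theorem Hyp.conj_back (H : Hyp x V) {n : G} (hn : n * x * n⁻¹ ∈ zpowers x) : n⁻¹ * x * n ∈ zpowers x := by
  rcases H.mem_three hn with e | e | e
  · exact absurd (conj_eq_one_iff.1 e) H.ne_one
  · have : n⁻¹ * x * n = x := by
      calc n⁻¹ * x * n = n⁻¹ * (n * x * n⁻¹) * n := by rw [e]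
        _ = x := by group
    rw [this]; exact mem_zpowers x
  · have : n⁻¹ * x * n = x⁻¹ := by
      calc n⁻¹ * x * n = n⁻¹ * (x⁻¹)⁻¹ * n := by rw [inv_inv]
        _ = n⁻¹ * (n * x * n⁻¹)⁻¹ * n := by rw [e]
        _ = x⁻¹ := by group
    rw [this]; exact inv_mem (mem_zpowers x)

/-- The conjugates of invariant subgroups under the normaliser of `⟨x⟩` are invariant. -/
theorem inv_conjMap (H : Hyp x V) {n : G} (hn : n * x * n⁻¹ ∈ zpowers x) (hI : Inv x M) : Inv x (conjMap n M) := by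
  intro r hr
  rw [mem_conjMap] at hr ⊢
  have h2 := ((mem_set_normalizer_iff.1 (inv_zpowers_le H hI (H.conj_back hn))) _).1 hr
  rwa [show n⁻¹ * x * n * (n⁻¹ * r * n) * (n⁻¹ * x * n)⁻¹ = n⁻¹ * (x * r * x⁻¹) * n by group] at h2

theorem Tau.conj_mem_zpowers (ht : Tau x V τ) : τ * x * τ⁻¹ ∈ zpowers x := by
  rw [ht.conj]; exact inv_mem (mem_zpowers x)

theorem isPGroup_conjMap {p : ℕ} (g : G) (hM : IsPGroup p M) : IsPGroup p (conjMap g M) := hM.map _

theorem ne_bot_conjMap (g : G) (hM : M ≠ ⊥) : conjMap g M ≠ ⊥ := fun e => hM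
  ((Subgroup.map_eq_bot_iff_of_injective M (MulAut.conj g).injective).1 e)

variable [Finite G]

/-- Elements of order three of a subgroup containing `x` are conjugate into `⟨x⟩` inside it. -/
theorem Hyp.exists_conj_three (H : Hyp x V) {N : Subgroup G} (hx : x ∈ N) {y : G} (hy : y ∈ N)
    (ho : orderOf y = 3) : ∃ b ∈ N, b * y * b⁻¹ ∈ zpowers x := by
  haveI : Fact (Nat.Prime 3) := ⟨Nat.prime_three⟩
  have hfac : (Nat.card N).factorization 3 = 1 := by
    refine le_antisymm ?_ (Nat.prime_three.factorization_pos_of_dvd Nat.card_pos.ne'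
      (H.ord ▸ Subgroup.orderOf_dvd_natCard N hx))
    by_contra hc
    exact H.not_nine (((pow_dvd_pow 3 (Nat.lt_of_not_le hc)).trans (Nat.ordProj_dvd _ 3)).trans
      (card_subgroup_dvd_card N))
  have hS : ∀ z : N, orderOf z = 3 → ∃ P : Sylow 3 N, (P : Subgroup N) = zpowers z := fun z hz =>
    ⟨Sylow.ofCard (zpowers z) (by rw [Nat.card_zpowers, hz, hfac, pow_one]), rfl⟩
  obtain ⟨P, hP⟩ := hS ⟨x, hx⟩ (by rw [Subgroup.orderOf_mk, H.ord])
  obtain ⟨Q, hQ⟩ := hS ⟨y, hy⟩ (by rw [Subgroup.orderOf_mk, ho])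
  obtain ⟨b, hb⟩ := MulAction.exists_smul_eq N Q P
  refine ⟨b, b.2, ?_⟩
  have h1 : b * ⟨y, hy⟩ * b⁻¹ ∈ zpowers (⟨x, hx⟩ : N) := by
    rw [← hP, ← hb, Sylow.coe_subgroup_smul]
    exact ⟨_, hQ.symm ▸ mem_zpowers _, rfl⟩
  obtain ⟨j, hj⟩ := mem_zpowers_iff.1 h1
  exact mem_zpowers_iff.2 ⟨j, by simpa using congrArg Subtype.val hj⟩

/-- Two subgroups without fixed points, one normalising the other, generate one. -/
theorem fpf_sup (hA : Fpf x A) (hB : Fpf x B) (hBA : B ≤ normalizer (A : Set G)) (hd : A ⊓ B = ⊥) :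
    Fpf x (A ⊔ B) := by
  refine ⟨hA.inv.sup hB.inv, fun r hr hc => ?_⟩
  rw [← SetLike.mem_coe, Subgroup.coe_mul_of_right_le_normalizer_left _ _ hBA] at hr
  obtain ⟨a, ha, b, hb, rfl⟩ := hr
  have e : x * a * x⁻¹ * (x * b * x⁻¹) = a * b := by
    rw [show x * a * x⁻¹ * (x * b * x⁻¹) = x * (a * b) * x⁻¹ by group, ← hc.eq, mul_inv_cancel_right]
  have h1 : a⁻¹ * (x * a * x⁻¹) ∈ A ⊓ B := by
    refine mem_inf.2 ⟨mul_mem (inv_mem ha) (hA.inv a ha), ?_⟩
    rw [show a⁻¹ * (x * a * x⁻¹) = b * (x * b * x⁻¹)⁻¹ by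
      rw [eq_mul_inv_iff_mul_eq, mul_assoc, e, inv_mul_cancel_left]]
    exact mul_mem hb (inv_mem (hB.inv b hb))
  rw [hd, mem_bot, inv_mul_eq_one] at h1
  have ha1 : a = 1 := hA.fix a ha (mul_inv_eq_iff_eq_mul.1 h1.symm).symm
  have hb1 : b = 1 := by
    refine hB.fix b hb ?_
    simpa [ha1] using hc
  simp [ha1, hb1]

/-- Elements of coprime prime power orders of a fixed-point-free subgroup commute. -/
theorem Fpf.commute_pq (hA : Fpf x A) (H : Hyp x V) {p q : ℕ} (hp : p.Prime) (hq : q.Prime) (hpq : p ≠ q)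
    {P Q : Subgroup G} (hP : IsPGroup p P) (hQ : IsPGroup q Q) (hPA : P ≤ A) (hQA : Q ≤ A) {a b : G}
    (ha : a ∈ P) (hb : b ∈ Q) : Commute a b := by
  haveI : Fact p.Prime := ⟨hp⟩
  haveI : Fact q.Prime := ⟨hq⟩
  haveI := hA.isNilpotent H
  have hpa := IsPGroup.iff_orderOf.1 hP ⟨a, ha⟩
  have hqb := IsPGroup.iff_orderOf.1 hQ ⟨b, hb⟩
  rw [Subgroup.orderOf_mk] at hpa hqb
  exact congrArg Subtype.val (Cfsg.Lib.SolvStruct.commute_of_coprime_of_nilpotent hpq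
    (x := (⟨a, hPA ha⟩ : A)) (y := (⟨b, hQA hb⟩ : A)) (by rw [Subgroup.orderOf_mk]; exact hpa)
    (by rw [Subgroup.orderOf_mk]; exact hqb)).eq

/-- A `p`-group for an odd prime `p` meets `V` trivially. -/
theorem inf_V_of_pGroup (H : Hyp x V) {p : ℕ} (hp : p.Prime) (hp2 : p ≠ 2) (hA : IsPGroup p A) : A ⊓ V = ⊥ :=
  haveI : Fact p.Prime := ⟨hp⟩
  disjoint_iff.1 (IsPGroup.disjoint_of_ne p 2 hp2 A V hA (isPGroup_of_le_V H le_rfl))

theorem not_three_of_pGroup {p : ℕ} (hp : p.Prime) (hp3 : p ≠ 3) (hA : IsPGroup p A) : P3 A := fun h3 => by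
  haveI : Fact p.Prime := ⟨hp⟩
  obtain ⟨n, hn⟩ := IsPGroup.iff_card.1 hA
  rw [hn] at h3
  exact hp3 ((Nat.prime_dvd_prime_iff_eq Nat.prime_three hp).1 (Nat.prime_three.dvd_of_dvd_pow h3)).symm

theorem fpf_of_pGroup (H : Hyp x V) {p : ℕ} (hp : p.Prime) (hp2 : p ≠ 2) (hp3 : p ≠ 3) (hA : IsPGroup p A)
    (hI : Inv x A) : Fpf x A := fpf_of H hI (not_three_of_pGroup hp hp3 hA) (inf_V_of_pGroup H hp hp2 hA)

end Cfsg.Lib.ThreeFour
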