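import Cfsg.Agent.ThreeFour.Local.EndOdd
import Cfsg.Agent.ThreeFour.Arith.Scan

/-!
The arithmetical data of a group of characteristic two type, and the order.
-/

set_option autoImplicit false
set_option linter.unusedSectionVars false
set_option linter.style.haveILetI false

namespace Cfsg.Lib.ThreeFour

open Subgroup
open Cfsg.Lib.SelfCentThree (Inv P3)

universe u

variable {G : Type u} [Group G] [Finite G] {x τ : G} {V : Subgroup G} {F s k : ℕ} {h : G → ℤ} {u : G}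

/-- The class of an element of `V`. -/
theorem Full.exists_u_class (f : Full x V τ F h s k) (hu : u ∈ V) (hu1 : u ≠ 1) :
    ∃ μ L : ℕ, k ∣ μ ∧ 0 < μ ∧ (μ = k ∨ Nat.card V = 4 ∧ μ = 2) ∧
      ClassData (Nat.card G) s (Nat.card V) k F μ (cen u) L := by
  have H := f.setting.hyp
  rcases H.card with h2 | h4
  · rw [h2]
    rcases f.two_lists h2 hu hu1 with ⟨rfl, -, ⟨-, L, hL⟩, -⟩ | ⟨rfl, ⟨-, L, hL⟩, -⟩
    · exact ⟨2, L, dvd_rfl, two_pos, Or.inl rfl, hL⟩
    · exact ⟨1, L, dvd_rfl, one_pos, Or.inl rfl, hL⟩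
  · have hk := f.k_eq_one_of_four h4
    obtain ⟨u', hu', n1, n2, n3, n4, -, -⟩ := H.exists_others h4 hu hu1
    obtain ⟨μ, μ₂, μ₃, c1, c2, c3, hor⟩ := f.four_lists h4 hu hu' (V.mul_mem hu hu') hu1 n1 n3
      (Ne.symm n2) (fun e => n1 (mul_left_cancel (a := u) (e.symm.trans (mul_one u).symm)))
      (fun e => hu1 (mul_right_cancel (b := u') (e.symm.trans (one_mul u').symm)))
    obtain ⟨hpos, L, hL⟩ := c1
    have := c2.1
    have := c3.1
    refine ⟨μ, L, by rw [hk]; exact one_dvd _, hpos, ?_, by rw [h4, hk]; exact hL⟩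
    rcases hor with ⟨e, -⟩ | ⟨e, -, -, -⟩ <;> omega

theorem Full.mu_one_of_not_three (f : Full x V τ F h s k) {z : G} (hz : orderOf z = 2) (h3 : ¬ 3 ∣ cen z) :
    mu V τ z = 1 ∧ k = 1 := by
  classical
  have H := f.setting.hyp
  haveI := Fintype.ofFinite V
  have hch : ∀ u : V, ∃ w : V, (u : G) ≠ 1 → IsConj (u : G) (τ * w) := fun u => by
    by_cases h1 : (u : G) = 1
    · exact ⟨1, fun e => absurd h1 e⟩
    · obtain ⟨w, hw, hc⟩ := f.toCtx.meet_V u.2 h1
      exact ⟨⟨w, hw⟩, fun _ => hc⟩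
  choose φ hφ using hch
  set U := (Finset.univ : Finset V).erase 1
  set W := Finset.univ.filter fun w : V => IsConj z (τ * w)
  have hne : ∀ u ∈ U, (u : G) ≠ 1 := fun u hu e => (Finset.mem_erase.1 hu).1 (Subtype.ext e)
  have hinj : Set.InjOn φ U := fun a ha b hb e => Subtype.ext (H.eq_of_isConj f.toCtx.tau a.2 b.2
    ((hφ a (hne a ha)).trans (e ▸ hφ b (hne b hb)).symm))
  have hdis : Disjoint W (U.image φ) := Finset.disjoint_left.2 fun w hw hw' => by
    obtain ⟨a, ha, rfl⟩ := Finset.mem_image.1 hw'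
    refine h3 ?_
    rw [cen_eq_of_isConj ((Finset.mem_filter.1 hw).2.trans (hφ a (hne a ha)).symm)]
    exact f.three_dvd_cen a.2
  have hle := Finset.card_le_univ (W ∪ U.image φ)
  rw [Finset.card_union_of_disjoint hdis, Finset.card_image_of_injOn hinj,
    Finset.card_erase_of_mem (Finset.mem_univ _), Finset.card_univ] at hle
  have hμ : mu V τ z = W.card := by rw [mu, Nat.card_eq_fintype_card, Fintype.card_subtype]
  have hpos := f.prin.meet z hz
  have hpV : 0 < Fintype.card V := Fintype.card_pos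
  have h1 : mu V τ z = 1 := by omega
  exact ⟨h1, Nat.dvd_one.1 (h1 ▸ f.norm.mu_dvd z hz)⟩

/-- In characteristic two type the scale is three times a power of two. -/
theorem Endgame.exists_scale (E : Endgame x V τ F h s k) : ∃ b : ℕ, s = 3 * 2 ^ b := by
  have H := E.setting.hyp
  obtain ⟨u, hu, hu1⟩ := H.exists_ne_one
  obtain ⟨μ, L, -, -, hμ, hcl⟩ := E.toFull.exists_u_class hu hu1
  obtain ⟨j, hj⟩ := E.toFull.solvU E.ct hu hu1
  obtain ⟨⟨t, rfl⟩, h9⟩ := E.toFull.norm.three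
  have ht3 : ¬ 3 ∣ t := fun e => h9 (Nat.mul_dvd_mul_left 3 e)
  have e := hcl.eqn
  rw [hj] at e
  have hkμ : k * μ ∣ 4 := by
    rcases E.toFull.norm.kk with e1 | ⟨e1, e2⟩ <;> rcases hμ with e' | ⟨e', e''⟩ <;> subst μ <;>
      rw [e1] <;> first | norm_num | omega
  obtain ⟨c, hc⟩ := hkμ
  have hd : t ∣ 2 ^ (2 * j + 3) * 3 := ⟨L * c, Nat.eq_of_mul_eq_mul_left
    (show 0 < 3 * Nat.card V from Nat.mul_pos (by norm_num) Nat.card_pos) (by
      calc 3 * Nat.card V * (2 ^ (2 * j + 3) * 3) = 18 * Nat.card V * 4 ^ j * 4 := by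
            rw [pow_add, pow_mul]; norm_num; ring
        _ = 18 * Nat.card V * 4 ^ j * (k * μ * c) := by rw [← hc]
        _ = 3 * k * μ * (6 * (Nat.card V * 4 ^ j)) * c := by ring
        _ = 3 * t * Nat.card V * L * c := by rw [e]
        _ = 3 * Nat.card V * (t * (L * c)) := by ring)⟩
  obtain ⟨b, -, rfl⟩ := (Nat.dvd_prime_pow Nat.prime_two).1
    ((Nat.prime_three.coprime_iff_not_dvd.2 ht3).symm.dvd_of_dvd_mul_right hd)
  exact ⟨b, rfl⟩

theorem not_seven_le_dvd_solvU {v c p : ℕ} (hv : v = 2 ∨ v = 4) (hc : SolvU v c) (hp : p.Prime) (h7 : 7 ≤ p) :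
    ¬ p ∣ c := by
  obtain ⟨j, rfl⟩ := hc
  intro e
  have e4 : p ∣ 2 ^ (3 + 2 * j) * 3 := by
    refine e.trans ?_
    rw [pow_add, pow_mul]
    rcases hv with rfl | rfl
    · exact ⟨2, by norm_num; ring⟩
    · exact ⟨1, by norm_num; ring⟩
  rcases hp.dvd_mul.1 e4 with e5 | e5
  · have := (Nat.prime_dvd_prime_iff_eq hp Nat.prime_two).1 (hp.dvd_of_dvd_pow e5)
    omega
  · have := (Nat.prime_dvd_prime_iff_eq hp Nat.prime_three).1 e5
    omega

/-- The hypotheses of the finite search. -/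
theorem Endgame.data (E : Endgame x V τ F h s k) : ∃ b : ℕ, Data (Nat.card G) (Nat.card V) k b F := by
  classical
  haveI : Fact (Nat.Prime 2) := ⟨Nat.prime_two⟩
  have H := E.setting.hyp
  obtain ⟨b, hb⟩ := E.exists_scale
  obtain ⟨u, hu, hu1⟩ := H.exists_ne_one
  have hv := H.card
  refine ⟨b, ?_, E.toFull.prin.ge_seven, E.toFull.prin.mod_three, E.toFull.prin.mod_five, ?_, E.setting.five, ?_,
    ?_, ?_, ?_, ?_⟩
  · rcases hv with e | e
    · exact Or.inl ⟨e, by rcases E.toFull.norm.kk with e' | ⟨e', -⟩ <;> omega⟩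
    · exact Or.inr ⟨e, E.toFull.k_eq_one_of_four e⟩
  · rw [← hb]; exact E.toFull.norm.card_eq
  · obtain ⟨j, hj⟩ := E.toFull.solvU E.ct hu hu1
    refine (?_ : 4 ∣ cen u).trans (card_subgroup_dvd_card _)
    rw [hj]
    rcases hv with e | e <;> rw [e]
    · exact ⟨3 * 4 ^ j, by ring⟩
    · exact ⟨6 * 4 ^ j, by ring⟩
  · exact E.toFull.prin.triangle_bound.trans (Nat.mul_le_mul_left _ (E.triangle_le hb))
  · obtain ⟨μ, L, h1, h2, h3, h4⟩ := E.toFull.exists_u_class hu hu1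
    obtain ⟨j, hj⟩ := E.toFull.solvU E.ct hu hu1
    exact ⟨μ, cen u, L, j, h1, h2, h3, hj, hb ▸ h4⟩
  · obtain ⟨S⟩ : Nonempty (Sylow 2 G) := inferInstance
    have hd : 2 ∣ Nat.card G := E.toFull.toCtx.tau.orderOf_eq H ▸ orderOf_dvd_natCard τ
    haveI : Nontrivial S := by
      rw [← Finite.one_lt_card_iff_nontrivial, S.card_eq_multiplicity]
      exact Nat.one_lt_pow (Nat.prime_two.factorization_pos_of_dvd Nat.card_pos.ne' hd).ne' one_lt_two
    haveI := S.2.center_nontrivial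
    obtain ⟨⟨z, hzc⟩, hz⟩ := exists_prime_orderOf_dvd_card' (G := center (S : Subgroup G)) 2 (by
      obtain ⟨n, hn⟩ := IsPGroup.iff_card.1 (S.2.to_subgroup (center (S : Subgroup G)))
      have := Finite.one_lt_card (α := center (S : Subgroup G))
      rw [hn] at this ⊢
      exact dvd_pow_self 2 (by rintro rfl; norm_num at this))
    rw [Subgroup.orderOf_mk, ← Subgroup.orderOf_coe] at hz
    have hsyl : 2 ^ (Nat.card G).factorization 2 ∣ cen (z : G) := by
      rw [← S.card_eq_multiplicity]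
      exact card_dvd_of_le fun a ha => mem_centralizer_singleton_iff.2
        (congrArg Subtype.val (mem_center_iff.1 hzc ⟨a, ha⟩))
    by_cases h3 : 3 ∣ cen (z : G)
    · obtain ⟨w, hw, hw1, hc⟩ := H.exists_conj_of_three hz h3
      obtain ⟨μ, L, h1, h2, h3', h4⟩ := E.toFull.exists_u_class hw hw1
      refine ⟨μ, cen w, L, h1, h2, h3', by rw [← cen_eq_of_isConj hc]; exact hsyl,
        Or.inl (E.toFull.solvU E.ct hw hw1), hb ▸ h4⟩
    · obtain ⟨hμ, hk⟩ := E.toFull.mu_one_of_not_three hz h3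
      obtain ⟨-, L, hL⟩ := E.toFull.cls hz
      rw [hμ] at hL
      exact ⟨1, cen (z : G), L, hk.symm ▸ dvd_rfl, one_pos, Or.inl hk.symm, hsyl, Or.inr ⟨h3, rfl⟩, hb ▸ hL⟩
  · intro p hp h7 hd hsq
    obtain ⟨kk, D, e1, e2, e3, e4, e5, e6, hev, e8⟩ :=
      critStmt G x V τ F h E.setting E.toFull.toCtx.tau E.toFull.prin p hp h7 hd hsq
    refine ⟨kk, D, e1, e2, e3, e4, e5, e6, fun h' => ?_, e8⟩
    obtain ⟨t, ht, htd⟩ := hev h'
    have h3 : ¬ 3 ∣ cen t := fun e => by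
      obtain ⟨w, hw, hw1, hc⟩ := H.exists_conj_of_three ht e
      rw [cen_eq_of_isConj hc] at htd
      exact not_seven_le_dvd_solvU hv (E.toFull.solvU E.ct hw hw1) hp h7 ((dvd_mul_left p 2).trans htd)
    obtain ⟨hμ, hk⟩ := E.toFull.mu_one_of_not_three ht h3
    obtain ⟨-, L, hL⟩ := E.toFull.cls ht
    rw [hμ] at hL
    exact ⟨1, cen t, L, hk.symm ▸ dvd_rfl, one_pos, Or.inl hk.symm, htd, h3, rfl, hb ▸ hL⟩

/-- The order of a minimal counterexample. -/
theorem Full.card_eq_final (f : Full x V τ F h s k) : Nat.card V = 2 ∧ Nat.card G = 1092 := by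
  rcases f.reduce with ⟨h1, h2⟩ | ⟨hct, hr⟩
  · exact ⟨h2, h1⟩
  · have E : Endgame x V τ F h s k := ⟨f, hct, hr⟩
    obtain ⟨b, hD⟩ := E.data
    obtain ⟨h1, -, -, -, h2⟩ := scanStmt _ _ _ _ _ hD
    exact ⟨h1, h2⟩

end Cfsg.Lib.ThreeFour
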