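import Cfsg.Agent.ThreeFour.Local.EndBase
import Cfsg.Agent.S4005

/-!
Maximal invariant two-groups: they meet trivially and their normalisers have no other elements of order
prime to three.
-/

set_option autoImplicit false
set_option linter.unusedSectionVars false
set_option linter.style.haveILetI false

namespace Cfsg.Lib.ThreeFour

open Subgroup
open Cfsg.Lib.SelfCentThree (Inv P3)
open Cfsg.Lib.Coprime (conjMap mem_conjMap)

universe u

variable {G : Type u} [Group G] [Finite G] {x τ : G} {V A M M' T K K₁ D : Subgroup G} {F s k : ℕ} {h : G → ℤ}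

/-- A maximal invariant two-group. -/
structure Max2 (x : G) (M : Subgroup G) : Prop where
  two : IsPGroup 2 M
  inv : Inv x M
  ne : M ≠ ⊥
  max : ∀ R : Subgroup G, IsPGroup 2 R → Inv x R → M ≤ R → R = M

theorem exists_max2 (h2 : IsPGroup 2 T) (hI : Inv x T) (h1 : T ≠ ⊥) : ∃ M, T ≤ M ∧ Max2 x M := by
  set 𝒮 := {M : Subgroup G | IsPGroup 2 M ∧ Inv x M ∧ T ≤ M}
  obtain ⟨M, ⟨hM2, hMI, hTM⟩, hmax⟩ := (Set.toFinite 𝒮).exists_maximal ⟨T, h2, hI, le_rfl⟩
  exact ⟨M, hTM, hM2, hMI, fun e => h1 (le_bot_iff.1 (e ▸ hTM)), fun R h2R hIR hMR =>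
    le_antisymm (hmax (show R ∈ 𝒮 from ⟨h2R, hIR, hTM.trans hMR⟩) hMR) hMR⟩

theorem Max2.conj (hM : Max2 x M) (H : Hyp x V) {n : G} (hn : n * x * n⁻¹ ∈ zpowers x) :
    Max2 x (conjMap n M) := by
  refine ⟨isPGroup_conjMap n hM.two, inv_conjMap H hn hM.inv, ne_bot_conjMap n hM.ne, fun R h2 hI hle => ?_⟩
  have h1 := hM.max _ (isPGroup_conjMap n⁻¹ h2)
    (inv_conjMap H (by rw [inv_inv]; exact H.conj_back hn) hI)
    (by rw [← Cfsg.Lib.Coprime.conjMap_inv_conjMap n M]; exact Cfsg.Lib.Coprime.conjMap_mono hle)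
  rw [← h1, Cfsg.Lib.Coprime.conjMap_conjMap_inv]

/-- In characteristic two type a two-group containing the two-core of its normaliser is self-centralising. -/
theorem cent_le_of_pCore (hct : Cfsg.IsCharacteristicTwoType G) (h2 : IsPGroup 2 T) (h1 : T ≠ ⊥)
    (hp : (Cfsg.pCore 2 (normalizer (T : Set G))).map (normalizer (T : Set G)).subtype ≤ T) :
    centralizer (T : Set G) ≤ T := by
  intro c hc
  have hcX : c ∈ normalizer (T : Set G) := centralizer_le_normalizer _ hc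
  have h3 : (⟨c, hcX⟩ : normalizer (T : Set G)) ∈ Cfsg.pCore 2 (normalizer (T : Set G)) :=
    (hct.2 T h2 h1) (mem_centralizer_iff.2 fun b hb =>
      Subtype.ext ((mem_centralizer_iff.1 hc) b (hp ⟨b, hb, rfl⟩)))
  exact hp ⟨_, h3, rfl⟩

/-- The two-core of the normaliser of an invariant two-group. -/
theorem pCore_normalizer_facts (H : Hyp x V) (h2 : IsPGroup 2 T) (hI : Inv x T) :
    let O := (Cfsg.pCore 2 (normalizer (T : Set G))).map (normalizer (T : Set G)).subtype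
    IsPGroup 2 O ∧ T ≤ O ∧ Inv x O ∧ normalizer (T : Set G) ≤ normalizer (O : Set G) := by
  haveI : Fact (Nat.Prime 2) := ⟨Nat.prime_two⟩
  set X := normalizer (T : Set G) with hX
  haveI : (Cfsg.pCore 2 X).Normal := (Cfsg.Lib.Components.pCore_normal_and_isPGroup 2).1
  haveI : (T.subgroupOf X).Normal := (normal_subgroupOf_iff_le_normalizer le_normalizer).2 le_rfl
  refine ⟨(Cfsg.Lib.Components.isPGroup_pCore (G := X) 2).map _, ?_, ?_, le_normalizer_map_subtype⟩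
  · intro t ht
    refine ⟨⟨t, le_normalizer ht⟩, Cfsg.Lib.Components.le_pCore (N := T.subgroupOf X) ?_ (mem_subgroupOf.2 ht), rfl⟩
    exact h2.comap_subtype
  · exact SelfCentThree.inv_of_mem_normalizer (le_normalizer_map_subtype (inv_mem_normalizer H hI))

theorem Max2.self (hM : Max2 x M) (H : Hyp x V) (hct : Cfsg.IsCharacteristicTwoType G) :
    centralizer (M : Set G) ≤ M := by
  obtain ⟨h2, hle, hI, -⟩ := pCore_normalizer_facts H hM.two hM.inv
  exact cent_le_of_pCore hct hM.two hM.ne (hM.max _ h2 hI hle).le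

/-- The invariant two-groups in the normaliser of one of them generate one. -/
theorem Endgame.join (E : Endgame x V τ F h s k) (h2 : IsPGroup 2 D) (h1 : D ≠ ⊥) (hI : Inv x D) :
    ∃ T : Subgroup G, IsPGroup 2 T ∧ Inv x T ∧
      ∀ R ≤ normalizer (D : Set G), IsPGroup 2 R → Inv x R → R ≤ T := by
  have H := E.setting.hyp
  haveI := E.toFull.local_solvable E.ct h2 h1 hI
  obtain ⟨K, -, hK3, hKn, -, hmax⟩ := exists_solvable_core H (inv_mem_normalizer H hI)
  obtain ⟨T, -, hT2, hTI, -, hall⟩ :=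
    exists_two_core H (SelfCentThree.inv_of_mem_normalizer (hKn (inv_mem_normalizer H hI))) hK3
  exact ⟨T, hT2, hTI, fun R hR hR2 hRI => hall R (hmax R hR hRI (P3.of_two hR2)) hR2 hRI⟩

/-- Two maximal invariant two-groups are equal or meet trivially. -/
theorem Endgame.max2_unique (E : Endgame x V τ F h s k) (hM : Max2 x M) (hM' : Max2 x M') (hne : M ⊓ M' ≠ ⊥) :
    M = M' := by
  by_contra hMM
  set 𝒮 := {D : Subgroup G | D ≠ ⊥ ∧ ∃ A B : Subgroup G, Max2 x A ∧ Max2 x B ∧ A ≠ B ∧ A ⊓ B = D}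
  obtain ⟨D, ⟨hD1, A, B, hA, hB, hAB, rfl⟩, hmax⟩ :=
    (Set.toFinite 𝒮).exists_maximal ⟨_, hne, M, M', hM, hM', hMM, rfl⟩
  have hDI : Inv x (A ⊓ B) := hA.inv.inf hB.inv
  have hD2 : IsPGroup 2 (A ⊓ B : Subgroup G) := hA.two.to_le inf_le_left
  obtain ⟨T, hT2, hTI, hall⟩ := E.join hD2 hD1 hDI
  have hDT : A ⊓ B ≤ T := hall _ le_normalizer hD2 hDI
  obtain ⟨N, hTN, hN⟩ := exists_max2 hT2 hTI fun e => hD1 (le_bot_iff.1 (e ▸ hDT))
  have key : ∀ C : Subgroup G, Max2 x C → A ⊓ B ≤ C → A ⊓ B ≠ C → C = N := by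
    intro C hC hle hneC
    by_contra hCN
    obtain ⟨n, hnC, hnD, hnn⟩ := exists_normalizing hC.two hle hneC
    have hW : C ⊓ normalizer ((A ⊓ B : Subgroup G) : Set G) ≤ N :=
      (hall _ inf_le_right (hC.two.to_le inf_le_left)
        (hC.inv.inf (inv_normalizer E.setting.hyp hDI))).trans hTN
    have hle' : A ⊓ B ≤ C ⊓ N := le_inf hle (hDT.trans hTN)
    have hmem : n ∈ C ⊓ N := mem_inf.2 ⟨hnC, hW (mem_inf.2 ⟨hnC, hnn⟩)⟩
    exact hnD (hmax (show C ⊓ N ∈ 𝒮 from ⟨fun e => hD1 (le_bot_iff.1 (e ▸ hle')), C, N, hC, hN, hCN, rfl⟩)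
      hle' hmem)
  have hA' : A ⊓ B ≠ A := fun e => hAB (hA.max B hB.two hB.inv (inf_eq_left.1 e)).symm
  have hB' : A ⊓ B ≠ B := fun e => hAB (hB.max A hA.two hA.inv (inf_eq_right.1 e))
  exact hAB ((key A hA inf_le_left hA').trans (key B hB inf_le_right hB').symm)

/-- The maximal invariant two-group containing `V`. -/
theorem Endgame.exists_pv (E : Endgame x V τ F h s k) :
    ∃ P : Subgroup G, Max2 x P ∧ V ≤ P ∧ τ ∈ normalizer (P : Set G) ∧
      ∀ T : Subgroup G, IsPGroup 2 T → Inv x T → T ⊓ V ≠ ⊥ → T ≤ P := by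
  have H := E.setting.hyp
  have ht := E.toFull.toCtx.tau
  obtain ⟨u, hu, hu1⟩ := H.exists_ne_one
  have hV1 : V ≠ ⊥ := fun e => hu1 (mem_bot.1 (e ▸ hu))
  obtain ⟨P, hVP, hP⟩ := exists_max2 (isPGroup_of_le_V H le_rfl) (H.inv_of_le_V le_rfl) hV1
  refine ⟨P, hP, hVP, ?_, fun T h2 hI hne => ?_⟩
  · have hVP' : V ≤ conjMap τ P := fun v hv => by
      rw [mem_conjMap, ht.inv_eq, (ht.fix v hv).eq, mul_assoc, ht.sq, mul_one]
      exact hVP hv
    exact Cfsg.Lib.Coprime.conjMap_eq_self_iff.1 (E.max2_unique (hP.conj H ht.conj_mem_zpowers) hP fun e =>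
      hV1 (le_bot_iff.1 ((le_inf hVP' hVP).trans e.le)))
  · obtain ⟨N, hTN, hN⟩ := exists_max2 h2 hI fun e => hne (by rw [e, bot_inf_eq])
    have := E.max2_unique hN hP fun e => hne (le_bot_iff.1 ((le_inf (inf_le_left.trans hTN)
      (inf_le_right.trans hVP)).trans e.le))
    exact this ▸ hTN

/-- Invariant subgroups of order prime to three normalising a nontrivial invariant two-group are two-groups. -/
theorem Endgame.invariant_two (E : Endgame x V τ F h s k) (h2 : IsPGroup 2 T) (h1 : T ≠ ⊥) (hI : Inv x T)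
    (hK : K₁ ≤ normalizer (T : Set G)) (hKI : Inv x K₁) (hK3 : P3 K₁) : IsPGroup 2 K₁ := by
  classical
  by_contra hbad
  have H := E.setting.hyp
  have ht := E.toFull.toCtx.tau
  haveI : Fact (Nat.Prime 2) := ⟨Nat.prime_two⟩
  set 𝒯 := {T : Subgroup G | IsPGroup 2 T ∧ T ≠ ⊥ ∧ Inv x T ∧
    ∃ K₁ ≤ normalizer (T : Set G), Inv x K₁ ∧ P3 K₁ ∧ ¬ IsPGroup 2 K₁}
  obtain ⟨U, ⟨hU2, hU1, hUI, K₂, hK₂, hK₂I, hK₂3, hK₂bad⟩, hmax⟩ :=
    (Set.toFinite 𝒯).exists_maximal ⟨T, h2, h1, hI, K₁, hK, hKI, hK3, hbad⟩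
  clear hbad hK hKI hK3 h2 h1 hI
  set X := normalizer (U : Set G) with hX
  haveI hsol : Group.IsSolvable X := E.toFull.local_solvable E.ct hU2 hU1 hUI
  have hxX : x ∈ X := inv_mem_normalizer H hUI
  obtain ⟨K, hKX, hK3, hKn, -, hcore⟩ := exists_solvable_core H hxX
  have hKI : Inv x K := SelfCentThree.inv_of_mem_normalizer (hKn hxX)
  have hUK : U ≤ K := hcore U le_normalizer hUI (P3.of_two hU2)
  have hK2 : ¬ IsPGroup 2 K := fun e => hK₂bad (e.to_le (hcore K₂ hK₂ hK₂I hK₂3))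
  have hO2 : ∀ D : Subgroup G, IsPGroup 2 D → Inv x D → U ≤ D → K ≤ normalizer (D : Set G) → D = U :=
    fun D hD2 hDI hle hn => le_antisymm
      (hmax (show D ∈ 𝒯 from ⟨hD2, fun e => hU1 (le_bot_iff.1 (e ▸ hle)), hDI, K, hn, hKI, hK3, hK2⟩) hle) hle
  have hself : centralizer (U : Set G) ≤ U := by
    obtain ⟨a, b, c, d⟩ := pCore_normalizer_facts H hU2 hUI
    exact cent_le_of_pCore E.ct hU2 hU1 (hO2 _ a c b (hKX.trans d)).le
  -- a normal subgroup of `K` above `U` with an odd factor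
  haveI hUn : (U.subgroupOf K).Normal := (normal_subgroupOf_iff_le_normalizer hUK).2 hKX
  haveI : Group.IsSolvable K := Cfsg.Lib.Coprime.isSolvable_of_le hKX hsol
  set Q := K ⧸ U.subgroupOf K with hQ
  haveI : Group.IsSolvable Q := inferInstance
  haveI : Nontrivial Q := by
    obtain ⟨a, ha, haU⟩ := SetLike.not_le_iff_exists.1 fun hle : K ≤ U => hK2 (hU2.to_le hle)
    exact ⟨QuotientGroup.mk ⟨a, ha⟩, 1, fun e => haU (mem_subgroupOf.1 ((QuotientGroup.eq_one_iff _).1 e))⟩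
  obtain ⟨p, hp, hne⟩ := Cfsg.Agent.S4005.exists_pCore_ne_bot Q
  haveI : Fact p.Prime := ⟨hp⟩
  set π := QuotientGroup.mk' (U.subgroupOf K) with hπ
  haveI : (Cfsg.pCore p Q).Normal := (Cfsg.Lib.Components.pCore_normal_and_isPGroup p).1
  set M := ((Cfsg.pCore p Q).comap π).map K.subtype with hM
  have hMK : M ≤ K := map_subtype_le _
  have hKM : K ≤ normalizer (M : Set G) := le_normalizer_map_subtype
  have hUM : U ≤ M := fun a ha => ⟨⟨a, hUK ha⟩, by
    show π ⟨a, hUK ha⟩ ∈ Cfsg.pCore p Q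
    rw [show π ⟨a, hUK ha⟩ = 1 from (QuotientGroup.eq_one_iff _).2 (mem_subgroupOf.2 ha)]
    exact one_mem _, rfl⟩
  have hMI : Inv x M := by
    haveI : (Cfsg.pCore p Q).Characteristic := Cfsg.Lib.Components.pCore_characteristic
    set e := K.normalizerMonoidHom ⟨x, inv_mem_normalizer H hKI⟩
    have he : ∀ a : K, ((e a : K) : G) = x * a * x⁻¹ := fun a => rfl
    let ψ : Q ≃* Q := QuotientGroup.congr (U.subgroupOf K) (U.subgroupOf K) e (by
      ext d
      rw [Subgroup.mem_map]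
      constructor
      · rintro ⟨b, hb, rfl⟩
        exact mem_subgroupOf.2 (hUI _ (mem_subgroupOf.1 hb))
      · intro hd
        refine ⟨e.symm d, mem_subgroupOf.2 ?_, by simp⟩
        have h1 : x * ((e.symm d : K) : G) * x⁻¹ = d := by rw [← he, MulEquiv.apply_symm_apply]
        have h2 := inv_back H hUI (mem_subgroupOf.1 hd)
        rwa [← h1, show x⁻¹ * (x * ((e.symm d : K) : G) * x⁻¹) * x = ((e.symm d : K) : G) by group] at h2)
    rintro _ ⟨a, ha, rfl⟩
    refine ⟨e a, ?_, he a⟩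
    show π (e a) ∈ Cfsg.pCore p Q
    exact (characteristic_iff_map_eq.mp (inferInstance : (Cfsg.pCore p Q).Characteristic) ψ).le ⟨π a, ha, rfl⟩
  have hMc : Nat.card M = Nat.card U * Nat.card (Cfsg.pCore p Q) := by
    rw [hM, card_map_of_injective K.subtype_injective, hπ, Cfsg.Lib.Coprime.card_comap_mk',
      Nat.card_congr (subgroupOfEquivOfLe hUK).toEquiv]
  obtain ⟨n, hn⟩ := IsPGroup.iff_card.1 (Cfsg.Lib.Components.isPGroup_pCore (G := Q) p)
  obtain ⟨a, ha⟩ := IsPGroup.iff_card.1 hU2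
  have hn0 : n ≠ 0 := fun e => hne (eq_bot_of_card_eq _ (by rw [hn, e, pow_zero]))
  have hp2 : p ≠ 2 := by
    rintro rfl
    have h1 : M = U := hO2 M (IsPGroup.of_card (n := a + n) (by rw [hMc, hn, ha, pow_add])) hMI hUM hKM
    rw [h1, hn] at hMc
    have : 1 < 2 ^ n := Nat.one_lt_pow hn0 one_lt_two
    have := Nat.card_pos (α := U)
    nlinarith
  have hp3 : p ≠ 3 := fun e => hK3 (((dvd_pow_self 3 hn0).trans (Dvd.intro_left _ (by rw [hMc, hn, e]))).trans
    (card_dvd_of_le hMK))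
  have hM3 : P3 M := hK3.anti hMK
  obtain ⟨P, hPM, -, hPp, hPI, hPc⟩ := exists_inv_sylow_ge H hMI hM3 p (bot_le : (⊥ : Subgroup G) ≤ M)
    IsPGroup.of_bot (fun r hr => by rw [mem_bot.1 hr]; simp)
  have hfac : (Nat.card M).factorization p = n := by
    rw [hMc, hn, ha, Nat.factorization_mul (pow_ne_zero _ two_ne_zero) (pow_ne_zero _ hp.ne_zero), Finsupp.add_apply,
      Nat.Prime.factorization_pow hp, Finsupp.single_eq_same,
      Nat.factorization_eq_zero_of_not_dvd fun e =>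
        hp2 ((Nat.prime_dvd_prime_iff_eq hp Nat.prime_two).1 (hp.dvd_of_dvd_pow e)), zero_add]
  rw [hfac] at hPc
  have hUP : U ⊓ P = ⊥ := disjoint_iff.1 (IsPGroup.disjoint_of_ne 2 p hp2.symm U P hU2 hPp)
  have hPX : P ≤ X := hPM.trans (hMK.trans hKX)
  have hUPM : U ⊔ P = M := Subgroup.eq_of_le_of_card_ge (sup_le hUM hPM) (by
    have := Cfsg.Lib.Coprime.card_sup_mul_card_inf (N := U) (H := P) hPX
    rw [hUP, card_bot, mul_one, hPc] at this
    rw [this, hMc, hn])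
  have hP1 : P ≠ ⊥ := fun e => by
    have := Nat.one_lt_pow hn0 hp.one_lt
    rw [← hPc, e, card_bot] at this
    omega
  have hPbad : ¬ IsPGroup 2 P := fun e => hP1 (by
    simpa using disjoint_iff.1 (IsPGroup.disjoint_of_ne 2 p hp2.symm P P e hPp))
  have hPf : Fpf x P := fpf_of_pGroup H hp hp2 hp3 hPp hPI
  obtain ⟨R, hRK, hR2, hRI, -, hRall⟩ := exists_two_core H hKI hK3
  have hUR : U ≤ R := hRall U hUK hU2 hUI
  by_cases hRU : R = U
  · -- `U` is a maximal invariant two-group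
    have hUmax : Max2 x U := ⟨hU2, hUI, hU1, fun W hW2 hWI hle => by
      by_contra hne'
      obtain ⟨w, hwW, hwU, hwn⟩ := exists_normalizing hW2 hle (Ne.symm hne')
      have h1 : W ⊓ X ≤ K := hcore _ inf_le_right (hWI.inf (inv_normalizer H hUI))
        (P3.of_two (hW2.to_le inf_le_left))
      have h3 := hRall _ h1 (hW2.to_le inf_le_left) (hWI.inf (inv_normalizer H hUI)) (mem_inf.2 ⟨hwW, hwn⟩)
      exact hwU (hRU ▸ h3)⟩
    by_cases hUV : U ⊓ V = ⊥
    · have hΓ := fpf_sup (fpf_of H hUI (P3.of_two hU2) hUV) hPf hPX hUP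
      refine hP1 (le_bot_iff.1 (hUP ▸ le_inf ?_ le_rfl))
      exact fun b hb => hself (mem_centralizer_iff.2 fun a ha =>
        (hΓ.commute_pq H Nat.prime_two hp hp2.symm hU2 hPp le_sup_left le_sup_right ha hb).eq)
    · obtain ⟨PV, hPV, -, hτPV, hall⟩ := E.exists_pv
      have hτX : τ ∈ X := by
        have e := hUmax.max PV hPV.two hPV.inv (hall U hU2 hUI hUV)
        rw [e] at hτPV
        exact hτPV
      exact hK2 (core_isPGroup_two H E.setting.five ht hK3 hKI (hKn hτX) fun S hS hSn hodd =>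
        odd_trivial_of_charTwo E.ct hU2 hU1 (hS.trans hKX) (hKn.trans hSn) hodd)
  -- the normaliser of `P` supplements `U` in `R`
  set B := R ⊓ normalizer (P : Set G) with hB
  have hBI : Inv x B := hRI.inf (inv_normalizer H hPI)
  have hB2 : IsPGroup 2 B := hR2.to_le inf_le_left
  have hfrat : ∀ r ∈ R, ∃ t ∈ U, t⁻¹ * r ∈ B := by
    intro r hr
    have hle : conjMap r P ≤ M := fun b hb => by
      rw [mem_conjMap] at hb
      have := ((mem_set_normalizer_iff.1 (hKM (hRK hr))) _).1 (hPM hb)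
      rwa [show r * (r⁻¹ * b * r) * r⁻¹ = b by group] at this
    let S₁ : Sylow p M := Sylow.ofCard (P.subgroupOf M)
      (by rw [Nat.card_congr (subgroupOfEquivOfLe hPM).toEquiv, hPc, hfac])
    let S₂ : Sylow p M := Sylow.ofCard ((conjMap r P).subgroupOf M)
      (by rw [Nat.card_congr (subgroupOfEquivOfLe hle).toEquiv, Cfsg.Lib.Coprime.card_conjMap, hPc, hfac])
    obtain ⟨m, hm⟩ := MulAction.exists_smul_eq M S₁ S₂
    have e1 := Cfsg.Lib.Coprime.map_subtype_smul m S₁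
    rw [hm] at e1
    simp only [S₁, S₂, Sylow.coe_ofCard, map_subgroupOf_eq_of_le hPM, map_subgroupOf_eq_of_le hle] at e1
    have hmUP : (m : G) ∈ ((U ⊔ P : Subgroup G) : Set G) := hUPM.symm ▸ m.2
    rw [Subgroup.coe_mul_of_right_le_normalizer_left _ _ hPX] at hmUP
    obtain ⟨t, htU, q, hqP, htq : t * q = (m : G)⟩ := hmUP
    have e2 : conjMap r P = conjMap t P := by
      rw [e1, ← htq, ← Cfsg.Lib.Coprime.conjMap_mul, Cfsg.Lib.Coprime.conjMap_eq_self (le_normalizer hqP)]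
    refine ⟨t, htU, mem_inf.2 ⟨R.mul_mem (R.inv_mem (hUR htU)) hr, ?_⟩⟩
    rw [← Cfsg.Lib.Coprime.conjMap_eq_self_iff, ← Cfsg.Lib.Coprime.conjMap_mul, e2,
      Cfsg.Lib.Coprime.conjMap_inv_conjMap]
  by_cases hBV : B ⊓ V = ⊥
  · have hΓ := fpf_sup hPf (fpf_of H hBI (P3.of_two hB2) hBV) inf_le_right
      (disjoint_iff.1 (IsPGroup.disjoint_of_ne p 2 hp2 P B hPp hB2))
    have hPR : P ≤ normalizer (R : Set G) := by
      intro q hq
      have key : ∀ q ∈ P, ∀ r ∈ R, q * r * q⁻¹ ∈ R := by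
        intro q hq r hr
        obtain ⟨t, htU, htB⟩ := hfrat r hr
        have hc : Commute q (t⁻¹ * r) :=
          hΓ.commute_pq H hp Nat.prime_two hp2 hPp hB2 le_sup_left le_sup_right hq htB
        rw [show q * r * q⁻¹ = (q * t * q⁻¹) * (q * (t⁻¹ * r) * q⁻¹) by group, hc.eq, mul_inv_cancel_right]
        exact R.mul_mem (hUR (((mem_set_normalizer_iff.1 (hPX hq)) t).1 htU)) (mem_inf.1 htB).1
      exact Cfsg.Lib.Coprime.mem_normalizer_of_conj_mem (key q hq) fun r hr => by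
        simpa using key q⁻¹ (P.inv_mem hq) r hr
    exact hRU (le_antisymm (hmax (show R ∈ 𝒯 from
      ⟨hR2, fun e => hU1 (le_bot_iff.1 (e ▸ hUR)), hRI, P, hPR, hPI, hM3.anti hPM, hPbad⟩) hUR) hUR)
  obtain ⟨u, hu, hu1⟩ := SetLike.not_le_iff_exists.1 fun hle : B ⊓ V ≤ ⊥ => hBV (le_bot_iff.1 hle)
  rw [mem_bot] at hu1
  haveI : Nontrivial P := (Subgroup.nontrivial_iff_ne_bot P).2 hP1
  haveI hZ := hPp.center_nontrivial
  set Z := (center P).map P.subtype with hZdef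
  have hZP : Z ≤ P := map_subtype_le _
  have hPZ : normalizer (P : Set G) ≤ normalizer (Z : Set G) := normalizer_le_char _
  have hZI : Inv x Z := SelfCentThree.inv_of_mem_normalizer (hPZ (inv_mem_normalizer H hPI))
  have hZc : ∀ a ∈ Z, ∀ b ∈ Z, Commute a b := by
    rintro _ ⟨a, ha, rfl⟩ _ ⟨b, hb, rfl⟩
    exact congrArg Subtype.val (mem_center_iff.1 hb a)
  have hZp : IsPGroup p Z := hPp.to_le hZP
  have hZ2 : ¬ 2 ∣ Nat.card Z := fun e => by
    obtain ⟨j, hj⟩ := IsPGroup.iff_card.1 hZp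
    rw [hj] at e
    exact hp2 ((Nat.prime_dvd_prime_iff_eq Nat.prime_two hp).1 (Nat.prime_two.dvd_of_dvd_pow e)).symm
  have hZf : Fpf x Z := hPf.anti hZI hZP
  obtain ⟨Q', C, hQ'⟩ := E.toFull.exists_core_two E.ct hu.2 hu1
  have hcZ : ∀ a ∈ Z, Commute u a := by
    intro a ha
    have h1 := commutator_centralizes_of_central H hU2 hxX hZf hZc hZ2 (hZP.trans hPX) hu.2
      (hKX (hRK (mem_inf.1 hu.1).1)) (hPZ (mem_inf.1 hu.1).2) ha
    have h3 : u * a * u⁻¹ * a⁻¹ ∈ U ⊓ P := mem_inf.2 ⟨hself h1, P.mul_mem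
      (hZP (((mem_set_normalizer_iff.1 (hPZ (mem_inf.1 hu.1).2)) a).1 ha)) (P.inv_mem (hZP ha))⟩
    rw [hUP, mem_bot, mul_inv_eq_one] at h3
    exact mul_inv_eq_iff_eq_mul.1 h3
  have hZQ : Z ≤ Q' := C.max Z (fun a ha => mem_centralizer_singleton_iff.2 (hcZ a ha).eq.symm) hZI
    ((hM3.anti hPM).anti hZP)
  have hZbot : Z = ⊥ := le_bot_iff.1 ((le_inf le_rfl hZQ).trans
    (disjoint_iff.1 (IsPGroup.disjoint_of_ne p 2 hp2 Z Q' hZp hQ')).le)
  obtain ⟨a, ha1⟩ := exists_ne (1 : center P)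
  exact ha1 (Subtype.ext (Subtype.ext (mem_bot.1 (hZbot ▸ (⟨a, a.2, rfl⟩ : ((a : P) : G) ∈ Z)))))

/-- In the normaliser of a maximal invariant two-group nothing else has order prime to three. -/
theorem Max2.normalizer_cases (hM : Max2 x M) (E : Endgame x V τ F h s k) :
    (Nat.card (normalizer (M : Set G)) = 3 * Nat.card M ∧ ∀ σ ∈ normalizer (M : Set G), σ * σ = 1 → σ ∈ M) ∨
      (Nat.card (normalizer (M : Set G)) = 6 * Nat.card M ∧ ∃ σ ∈ normalizer (M : Set G), Tau x V σ) := by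
  have H := E.setting.hyp
  set X := normalizer (M : Set G) with hX
  haveI : Group.IsSolvable X := E.toFull.local_solvable E.ct hM.two hM.ne hM.inv
  have hxX : x ∈ X := inv_mem_normalizer H hM.inv
  obtain ⟨K, hKX, hK3, hKn, hidx, hcore⟩ := exists_solvable_core H hxX
  have hKI : Inv x K := SelfCentThree.inv_of_mem_normalizer (hKn hxX)
  have hMK : M ≤ K := hcore M le_normalizer hM.inv (P3.of_two hM.two)
  obtain rfl : K = M := hM.max K (E.invariant_two hM.two hM.ne hM.inv hKX hKI hK3) hKI hMK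
  haveI hn : (K.subgroupOf X).Normal := (normal_subgroupOf_iff_le_normalizer le_normalizer).2 le_rfl
  set f := QuotientGroup.mk' (K.subgroupOf X)
  have hmem : ∀ a : X, f a = 1 ↔ (a : G) ∈ K := fun a => (QuotientGroup.eq_one_iff a).trans mem_subgroupOf
  have hq : Nat.card X = Nat.card (X ⧸ K.subgroupOf X) * Nat.card K := by
    rw [← Nat.card_congr (subgroupOfEquivOfLe hKX).toEquiv]
    exact Subgroup.card_eq_card_quotient_mul_card_subgroup _
  rcases hidx with e | e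
  · left
    refine ⟨e, fun σ hσ h2 => ?_⟩
    have hc : Nat.card (X ⧸ K.subgroupOf X) = 3 := Nat.eq_of_mul_eq_mul_right Nat.card_pos (hq.symm.trans e)
    have h3 := pow_card_eq_one' (x := f ⟨σ, hσ⟩)
    rw [hc, ← map_pow, hmem] at h3
    have : ((⟨σ, hσ⟩ : X) ^ 3 : G) = σ := by
      show σ ^ 3 = σ
      rw [pow_succ, pow_two, h2, one_mul]
    exact this ▸ h3
  right
  refine ⟨e, ?_⟩
  set y := f ⟨x, hxX⟩
  have hy : orderOf y = 3 := orderOf_eq_prime (hp := ⟨Nat.prime_three⟩) (by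
    rw [← map_pow, show (⟨x, hxX⟩ : X) ^ 3 = 1 from Subtype.ext H.pow3, map_one])
    fun e' => hK3 (H.ord ▸ Subgroup.orderOf_dvd_natCard K ((hmem ⟨x, hxX⟩).1 e'))
  have hc6 : Nat.card (X ⧸ K.subgroupOf X) = 6 := Nat.eq_of_mul_eq_mul_right Nat.card_pos (hq.symm.trans e)
  have hidx2 : (zpowers y).index = 2 := by
    have := (zpowers y).card_mul_index
    rw [Nat.card_zpowers, hy, hc6] at this
    omega
  haveI : (zpowers y).Normal := normal_of_index_eq_two hidx2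
  obtain ⟨q, hq'⟩ : ∃ q, q ∉ zpowers y := by
    by_contra hno
    push Not at hno
    rw [(eq_top_iff' _).2 hno, index_top] at hidx2
    omega
  obtain ⟨g, rfl⟩ := QuotientGroup.mk'_surjective _ q
  have hz : f g * y * (f g)⁻¹ ∈ zpowers y := Normal.conj_mem inferInstance y (mem_zpowers y) _
  obtain ⟨j, hj⟩ := mem_zpowers_iff.1 hz
  have hy3 : y ^ (3 : ℤ) = 1 := by rw [show (3 : ℤ) = ((3 : ℕ) : ℤ) from rfl, zpow_natCast, ← hy]; exact pow_orderOf_eq_one y
  have hcases : f g * y * (f g)⁻¹ = y ∨ f g * y * (f g)⁻¹ = y⁻¹ := by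
    have hjj : y ^ j = y ^ (j % 3) := by
      conv_lhs => rw [← Int.emod_add_mul_ediv j 3]
      rw [zpow_add, zpow_mul, hy3, one_zpow, mul_one]
    rw [← hj, hjj]
    rcases (by omega : j % 3 = 0 ∨ j % 3 = 1 ∨ j % 3 = 2) with r | r | r
    · exfalso
      rw [hjj, r, zpow_zero] at hj
      have := conj_eq_one_iff.1 hj.symm
      rw [this, orderOf_one] at hy
      omega
    · exact Or.inl (by rw [r, zpow_one])
    · refine Or.inr ?_
      rw [r, eq_inv_iff_mul_eq_one, ← hy3, show (3 : ℤ) = 2 + 1 from rfl, zpow_add_one]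
  rcases hcases with hc | hc
  · exfalso
    have hcm : ∀ b ∈ zpowers x, b * g * b⁻¹ * (g : G)⁻¹ ∈ K := by
      intro b hb
      have hbX : b ∈ X := zpowers_le.2 hxX hb
      have hbf : f ⟨b, hbX⟩ ∈ zpowers y := by
        obtain ⟨i, rfl⟩ := mem_zpowers_iff.1 hb
        exact mem_zpowers_iff.2 ⟨i, by rw [← map_zpow]; exact congrArg f (Subtype.ext (by simp))⟩
      refine (hmem (⟨b, hbX⟩ * g * ⟨b, hbX⟩⁻¹ * g⁻¹)).1 ?_
      obtain ⟨i, hi⟩ := mem_zpowers_iff.1 hbf
      have hcy : Commute (f g) (f ⟨b, hbX⟩) := by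
        rw [← hi]
        exact (show Commute (f g) y from mul_inv_eq_iff_eq_mul.1 hc).zpow_right i
      simp only [map_mul, map_inv]
      rw [hcy.symm.eq]; group
    obtain ⟨k, hk, hck⟩ := Cfsg.Lib.Coprime.exists_fixed_of_commutator_mem (A := zpowers x) (N := K)
      (zpowers_le.2 hxX) (coprime_zpowers H hK3) (Or.inl (solvable_zpowers x)) g.2 hcm
    obtain ⟨i, hi, v, hv, e'⟩ := H.cent _ (mem_centralizer_zpowers_iff.1 hck)
    have hvX : v ∈ X := by
      rw [show v = i⁻¹ * ((g : G) * k) by rw [e', inv_mul_cancel_left]]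
      exact mul_mem (inv_mem (zpowers_le.2 hxX hi)) (mul_mem g.2 (le_normalizer hk))
    have hvK : v ∈ K := hcore (V ⊓ X) inf_le_right (H.inv_of_le_V inf_le_left) (H.p3_of_le_V inf_le_left)
      (mem_inf.2 ⟨hv, hvX⟩)
    refine hq' ?_
    have hiX : i ∈ X := zpowers_le.2 hxX hi
    have hg : g = ⟨i, hiX⟩ * ⟨v * k⁻¹, X.mul_mem hvX (X.inv_mem (le_normalizer hk))⟩ :=
      Subtype.ext (by simp [← mul_assoc, ← e'])
    rw [hg, map_mul, (hmem ⟨v * k⁻¹, _⟩).2 (K.mul_mem hvK (K.inv_mem hk)), mul_one]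
    obtain ⟨l, rfl⟩ := mem_zpowers_iff.1 hi
    exact mem_zpowers_iff.2 ⟨l, by rw [← map_zpow]; exact congrArg f (Subtype.ext (by simp))⟩
  · have hg : (g : G) * x * (g : G)⁻¹ * x ∈ K := (hmem (g * ⟨x, hxX⟩ * g⁻¹ * ⟨x, hxX⟩)).1 (by
      simp only [map_mul, map_inv]
      rw [hc, inv_mul_cancel])
    obtain ⟨k, hk, hkk⟩ := exists_conj_inv H hK3 (inv_mem_normalizer H hKI) hg
    exact ⟨k * g, mul_mem (le_normalizer hk) g.2, E.toFull.toCtx.tau.of_inverting H hkk⟩

end Cfsg.Lib.ThreeFour
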