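import Cfsg.Agent.ThreeFour.Local.EndTwo

/-!
The elements of odd order among the solutions counted by the triangle formula.
-/

set_option autoImplicit false
set_option linter.unusedSectionVars false
set_option linter.style.haveILetI false

namespace Cfsg.Lib.ThreeFour

open Subgroup
open Cfsg.Lib.SelfCentThree (Inv P3)
open Cfsg.Lib.Coprime (conjMap mem_conjMap)

universe u

variable {G : Type u} [Group G] [Finite G] {x τ : G} {V A M M' P : Subgroup G} {F s k b : ℕ} {h : G → ℤ}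

theorem conjMap_centralizer (a : G) (A : Subgroup G) :
    conjMap a (centralizer (A : Set G)) = centralizer (conjMap a A : Set G) := by
  ext c
  rw [mem_conjMap, mem_centralizer_iff, mem_centralizer_iff]
  constructor
  · intro hc y hy
    rw [SetLike.mem_coe, mem_conjMap] at hy
    calc y * c = a * ((a⁻¹ * y * a) * (a⁻¹ * c * a)) * a⁻¹ := by group
      _ = a * ((a⁻¹ * c * a) * (a⁻¹ * y * a)) * a⁻¹ := by rw [hc _ hy]
      _ = c * y := by group
  · intro hc y hy
    have h1 := hc (a * y * a⁻¹) (by rw [SetLike.mem_coe, mem_conjMap]; simpa [mul_assoc] using hy)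
    calc y * (a⁻¹ * c * a) = a⁻¹ * ((a * y * a⁻¹) * c) * a := by group
      _ = a⁻¹ * (c * (a * y * a⁻¹)) * a := by rw [h1]
      _ = a⁻¹ * c * a * y := by group

/-- A proper subgroup of a `p`-group is proper in its normaliser. -/
theorem exists_normalizing_p {p : ℕ} (hp : p.Prime) {A B : Subgroup G} (hB : IsPGroup p B) (hle : A ≤ B)
    (hne : A ≠ B) : ∃ n ∈ B, n ∉ A ∧ n ∈ normalizer (A : Set G) := by
  haveI : Fact p.Prime := ⟨hp⟩
  haveI : Group.IsNilpotent B := hB.isNilpotent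
  have hlt : A.subgroupOf B < ⊤ := lt_top_iff_ne_top.2 fun e => hne (le_antisymm hle (subgroupOf_eq_top.1 e))
  obtain ⟨⟨n, hnB⟩, hnn, hnA⟩ := SetLike.exists_of_lt (Group.normalizerCondition_of_isNilpotent _ hlt)
  rw [mem_subgroupOf] at hnA
  refine ⟨n, hnB, hnA, mem_set_normalizer_iff.2 fun a => ⟨fun ha => ?_, fun ha => ?_⟩⟩
  · exact mem_subgroupOf.1 (((mem_set_normalizer_iff.1 hnn) ⟨a, hle ha⟩).1 (mem_subgroupOf.2 ha))
  · have h1 : a ∈ B := by
      have := B.mul_mem (B.mul_mem (B.inv_mem hnB) (hle ha)) hnB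
      rwa [show n⁻¹ * (n * a * n⁻¹) * n = a by group] at this
    exact mem_subgroupOf.1 (((mem_set_normalizer_iff.1 hnn) ⟨a, h1⟩).2 (mem_subgroupOf.2 ha))

theorem pGroup_card_eq {p : ℕ} (hp : p.Prime) (hP : IsPGroup p P) :
    Nat.card P = p ^ (Nat.card P).factorization p := by
  haveI : Fact p.Prime := ⟨hp⟩
  obtain ⟨n, hn⟩ := IsPGroup.iff_card.1 hP
  rw [hn, Nat.Prime.factorization_pow hp, Finsupp.single_eq_same]

theorem two_not_dvd_of_pGroup {p : ℕ} (hp : p.Prime) (hp2 : p ≠ 2) (hP : IsPGroup p P) : ¬ 2 ∣ Nat.card P :=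
  fun e => by
    rw [pGroup_card_eq hp hP] at e
    exact hp2 ((Nat.prime_dvd_prime_iff_eq Nat.prime_two hp).1 (Nat.prime_two.dvd_of_dvd_pow e)).symm

/-- The centre of a subgroup. -/
def ctr (P : Subgroup G) : Subgroup G := P ⊓ centralizer (P : Set G)

theorem ctr_comm {a b : G} (ha : a ∈ ctr P) (hb : b ∈ ctr P) : Commute a b :=
  (mem_centralizer_iff.1 (mem_inf.1 hb).2) a (mem_inf.1 ha).1

theorem ctr_ne_bot {p : ℕ} (hp : p.Prime) (hP : IsPGroup p P) (h1 : P ≠ ⊥) : ctr P ≠ ⊥ := fun e => by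
  haveI : Fact p.Prime := ⟨hp⟩
  haveI : Nontrivial P := (Subgroup.nontrivial_iff_ne_bot P).2 h1
  haveI := hP.center_nontrivial
  obtain ⟨a, ha⟩ := exists_ne (1 : center P)
  have h2 : ((a : P) : G) ∈ ctr P := mem_inf.2 ⟨(a : P).2, mem_centralizer_iff.2 fun b hb =>
    congrArg Subtype.val (mem_center_iff.1 a.2 ⟨b, hb⟩)⟩
  rw [e, mem_bot] at h2
  exact ha (Subtype.ext (Subtype.ext h2))

theorem normalizer_le_ctr (P : Subgroup G) : normalizer (P : Set G) ≤ normalizer (ctr P : Set G) := fun g hg => by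
  have hh : ∀ g ∈ normalizer (P : Set G), ∀ a ∈ ctr P, g * a * g⁻¹ ∈ ctr P := fun g hg a ha =>
    mem_inf.2 ⟨((mem_set_normalizer_iff.1 hg) a).1 (mem_inf.1 ha).1,
      ((mem_set_normalizer_iff.1 (normalizer_le_normalizer_centralizer_self P hg)) a).1 (mem_inf.1 ha).2⟩
  exact Cfsg.Lib.Coprime.mem_normalizer_of_conj_mem (hh g hg) fun a ha => by
    simpa using hh g⁻¹ (inv_mem hg) a ha

/-- The centre of a Sylow subgroup of a fixed-point-free subgroup is central. -/
theorem Fpf.ctr_central (hA : Fpf x A) (H : Hyp x V) {p : ℕ} (hp : p.Prime) (hPA : P ≤ A)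
    (hPc : Nat.card P = p ^ (Nat.card A).factorization p) {z : G} (hz : z ∈ ctr P) {a : G} (ha : a ∈ A) :
    Commute a z := by
  haveI : Fact p.Prime := ⟨hp⟩
  set D := A ⊓ centralizer ({z} : Set G) with hD
  have hPp : IsPGroup p P := IsPGroup.of_card hPc
  have key : Nat.card A ∣ Nat.card D := by
    rw [← Nat.factorization_le_iff_dvd Nat.card_pos.ne' Nat.card_pos.ne', Finsupp.le_def]
    intro q
    by_cases hq : q.Prime
    · haveI : Fact q.Prime := ⟨hq⟩
      rw [← Nat.Prime.pow_dvd_iff_le_factorization hq Nat.card_pos.ne']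
      by_cases hqp : q = p
      · rw [hqp, ← hPc]
        exact card_dvd_of_le fun b hb => mem_inf.2 ⟨hPA hb,
          mem_centralizer_singleton_iff.2 ((mem_centralizer_iff.1 (mem_inf.1 hz).2) b hb)⟩
      · obtain ⟨Q⟩ : Nonempty (Sylow q A) := inferInstance
        rw [← Q.card_eq_multiplicity, ← card_map_of_injective A.subtype_injective]
        exact card_dvd_of_le fun b hb => mem_inf.2 ⟨map_subtype_le _ hb, mem_centralizer_singleton_iff.2
          (hA.commute_pq H hq hp hqp (Q.2.map _) hPp (map_subtype_le _) hPA hb (mem_inf.1 hz).1).eq⟩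
    · rw [Nat.factorization_eq_zero_of_not_prime _ hq]; exact Nat.zero_le _
  have e : D = A := Subgroup.eq_of_le_of_card_ge inf_le_left (Nat.le_of_dvd Nat.card_pos key)
  rw [← e] at ha
  exact mem_centralizer_singleton_iff.1 (mem_inf.1 ha).2

/-- Centralisers of invariant subgroups of odd order prime to three. -/
theorem Endgame.odd_cent (E : Endgame x V τ F h s k) (hI : Inv x A) (h3 : P3 A) (h2 : ¬ 2 ∣ Nat.card A)
    (h1 : A ≠ ⊥) :
    ¬ 2 ∣ Nat.card (centralizer (A : Set G)) ∧ Fpf x (centralizer (A : Set G)) := by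
  haveI : Fact (Nat.Prime 2) := ⟨Nat.prime_two⟩
  haveI : Fact (Nat.Prime 3) := ⟨Nat.prime_three⟩
  have H := E.setting.hyp
  set C := centralizer (A : Set G) with hC
  have hCI : Inv x C := inv_centralizer H hI
  have hC3 : P3 C := fun e => by
    obtain ⟨⟨y, hy⟩, ho⟩ := exists_prime_orderOf_dvd_card' (G := C) 3 e
    rw [Subgroup.orderOf_mk] at ho
    refine h1 (eq_bot_iff.2 fun a ha => mem_bot.2 ?_)
    have h6 := Arith.pow_six_of_commute H ho (show Commute a y from (mem_centralizer_iff.1 hy) a ha)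
    have hd : orderOf a ∣ Nat.gcd 6 (Nat.card A) :=
      Nat.dvd_gcd (orderOf_dvd_of_pow_eq_one h6) (Subgroup.orderOf_dvd_natCard A ha)
    have hco : Nat.gcd (2 * 3) (Nat.card A) = 1 :=
      Nat.Coprime.mul_left (Nat.prime_two.coprime_iff_not_dvd.2 h2) (Nat.prime_three.coprime_iff_not_dvd.2 h3)
    rw [show (6 : ℕ) = 2 * 3 from rfl, hco] at hd
    exact orderOf_eq_one_iff.1 (Nat.dvd_one.1 hd)
  have hC2 : ¬ 2 ∣ Nat.card C := fun e => by
    obtain ⟨T, hTC, -, hT2, hTI, hTc⟩ := exists_inv_sylow_ge H hCI hC3 2 (bot_le : (⊥ : Subgroup G) ≤ C)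
      IsPGroup.of_bot (fun r hr => by rw [mem_bot.1 hr]; simp)
    have hT1 : T ≠ ⊥ := fun e' => by
      have := Nat.one_lt_pow (Nat.prime_two.factorization_pos_of_dvd Nat.card_pos.ne' e).ne' one_lt_two
      rw [← hTc, e', card_bot] at this
      omega
    have hAn : A ≤ normalizer (T : Set G) := fun a ha => Cfsg.Lib.Coprime.mem_normalizer_of_conj_mem
      (fun t ht => by rw [(mem_centralizer_iff.1 (hTC ht)) a ha, mul_inv_cancel_right]; exact ht)
      (fun t ht => by rw [mul_assoc, ← (mem_centralizer_iff.1 (hTC ht)) a ha, inv_mul_cancel_left]; exact ht)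
    obtain ⟨n, hn⟩ := IsPGroup.iff_card.1 (E.invariant_two hT2 hT1 hTI hAn hI h3)
    rcases Nat.eq_zero_or_pos n with rfl | hpos
    · exact h1 (eq_bot_of_card_eq _ (by rw [hn, pow_zero]))
    · exact h2 (hn ▸ dvd_pow_self 2 hpos.ne')
  exact ⟨hC2, fpf_of_odd H hCI hC2 fun hx => hC3 (H.ord ▸ Subgroup.orderOf_dvd_natCard C hx)⟩

/-- A maximal invariant `p`-group is a Sylow subgroup for `p` at least five. -/
theorem Endgame.maximal_sylow (E : Endgame x V τ F h s k) {p : ℕ} (hp : p.Prime) (hp2 : p ≠ 2) (hp3 : p ≠ 3)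
    (hP : IsPGroup p P) (hI : Inv x P) (h1 : P ≠ ⊥)
    (hmax : ∀ W : Subgroup G, IsPGroup p W → Inv x W → P ≤ W → W = P) :
    Nat.card P = p ^ (Nat.card G).factorization p := by
  classical
  haveI : Fact p.Prime := ⟨hp⟩
  have H := E.setting.hyp
  haveI := E.setting.simple
  by_contra hns
  obtain ⟨S, hPS⟩ := hP.exists_le_sylow
  obtain ⟨n, hnS, hnP, hnn⟩ := exists_normalizing_p hp S.2 hPS fun e =>
    hns (by rw [e]; exact S.card_eq_multiplicity)
  set X := normalizer (P : Set G) with hX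
  obtain ⟨m, hm⟩ := IsPGroup.iff_card.1 hP
  have hKp : ∀ K : Subgroup G, Inv x K → P3 K → P ≤ K → (Nat.card K).factorization p = m := by
    intro K hKI hK3 hPK
    obtain ⟨W, -, hPW, hW, hWI, hWc⟩ := exists_inv_sylow_ge H hKI hK3 p hPK hP hI
    rw [hmax W hW hWI hPW, hm] at hWc
    exact (Nat.pow_right_injective hp.two_le hWc).symm
  -- it suffices that the normaliser has no larger `p`-part
  suffices hXm : (Nat.card X).factorization p ≤ m by
    set Y := (S : Subgroup G) ⊓ X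
    have hYp : IsPGroup p Y := IsPGroup.to_le S.2 inf_le_left
    have hlt : Nat.card P < Nat.card Y := by
      by_contra hle
      exact hnP ((Subgroup.eq_of_le_of_card_ge (le_inf hPS le_normalizer) (not_lt.1 hle)).symm ▸
        mem_inf.2 ⟨hnS, hnn⟩)
    obtain ⟨j, hj⟩ := IsPGroup.iff_card.1 hYp
    rw [hm, hj] at hlt
    have h2 := card_dvd_of_le (inf_le_right : Y ≤ X)
    rw [hj, Nat.Prime.pow_dvd_iff_le_factorization hp Nat.card_pos.ne'] at h2
    have := (Nat.pow_lt_pow_iff_right hp.one_lt).1 hlt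
    omega
  have hxX : x ∈ X := inv_mem_normalizer H hI
  have hP3 := not_three_of_pGroup hp hp3 hP
  have hlt : Nat.card X < Nat.card G := by
    refine lt_of_le_of_ne (Nat.le_of_dvd Nat.card_pos (card_subgroup_dvd_card _)) fun e => ?_
    rcases (normalizer_eq_top_iff.1 (Subgroup.eq_top_of_card_eq _ e) : P.Normal).eq_bot_or_eq_top with e' | e'
    · exact h1 e'
    · exact hP3 (by rw [e', Subgroup.card_top]; exact H.three_dvd)
  have hpV : ∀ c : ℕ, c ∣ 4 → ¬ p ∣ c := fun c hc hpc => by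
    have := hp.dvd_of_dvd_pow (show p ∣ 2 ^ 2 from hpc.trans hc)
    exact hp2 ((Nat.prime_dvd_prime_iff_eq hp Nat.prime_two).1 this)
  by_cases hs : Group.IsSolvable X
  · haveI := hs
    obtain ⟨K, hKX, hK3, hKn, hidx, hcore⟩ := exists_solvable_core H hxX
    have hKm := hKp K (SelfCentThree.inv_of_mem_normalizer (hKn hxX)) hK3 (hcore P le_normalizer hI hP3)
    have key : ∀ c : ℕ, c ≠ 0 → ¬ p ∣ c → Nat.card X = c * Nat.card K → (Nat.card X).factorization p ≤ m := by
      intro c hc0 hc e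
      rw [e, Nat.factorization_mul hc0 Nat.card_pos.ne', Finsupp.add_apply,
        Nat.factorization_eq_zero_of_not_dvd hc, zero_add, hKm]
    rcases hidx with e | e
    · exact key 3 (by norm_num) (fun e' => hp3 ((Nat.prime_dvd_prime_iff_eq hp Nat.prime_three).1 e')) e
    · exact key 6 (by norm_num) (fun e' => by
        rcases hp.dvd_mul.1 (show p ∣ 2 * 3 from e') with e2 | e2
        · exact hp2 ((Nat.prime_dvd_prime_iff_eq hp Nat.prime_two).1 e2)
        · exact hp3 ((Nat.prime_dvd_prime_iff_eq hp Nat.prime_three).1 e2)) e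
  obtain ⟨K, L, T⟩ := exists_top H E.setting.five E.toFull.toCtx.small hlt hxX hs
  have hxP : x ∉ P := fun hm' => hP3 (H.ord ▸ Subgroup.orderOf_dvd_natCard P hm')
  have hPK : P ≤ K := T.core P le_normalizer le_rfl hxP
  have hKI : Inv x K := SelfCentThree.inv_of_mem_normalizer T.mem_normK
  have hKm := hKp K hKI T.three hPK
  rcases T.index with ⟨e, -⟩ | ⟨-, e'⟩
  · by_cases hp7 : p = 7
    · exfalso
      have htp : topPrime K L = p := by rw [topPrime, if_pos e, hp7]
      obtain ⟨R, hRL, hRp, hRf, hRK⟩ := T.exists_odd H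
      rw [htp] at hRp
      have hRn : R ≤ normalizer (K : Set G) := hRL.trans (T.leL.trans T.normK)
      have hc := Cfsg.Lib.Coprime.card_sup_mul_card_inf hRn
      set W := K ⊔ R
      have hWd : Nat.card W ∣ Nat.card K * Nat.card R := hc ▸ dvd_mul_right _ _
      have hW3 : P3 W := fun e3 => by
        rcases (Nat.Prime.dvd_mul Nat.prime_three).1 (e3.trans hWd) with e4 | e4
        · exact T.three e4
        · exact not_three_of_pGroup hp hp3 hRp e4
      have hWm := hKp W (hKI.sup hRf.inv) hW3 (hPK.trans le_sup_left)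
      obtain ⟨r, hr⟩ := IsPGroup.iff_card.1 hRp
      obtain ⟨i, hi⟩ := IsPGroup.iff_card.1 (hRp.to_le (inf_le_right : K ⊓ R ≤ R))
      have hlt' : i < r := by
        have h2 : Nat.card (K ⊓ R : Subgroup G) < Nat.card R := by
          by_contra hle
          exact hRK ((Subgroup.eq_of_le_of_card_ge inf_le_right (not_lt.1 hle)).symm.le.trans inf_le_left)
        rw [hr, hi] at h2
        exact (Nat.pow_lt_pow_iff_right hp.one_lt).1 h2
      have h3 := congrArg (fun c : ℕ => c.factorization p) hc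
      simp only [hr, hi, Nat.factorization_mul Nat.card_pos.ne' (pow_ne_zero _ hp.ne_zero), Finsupp.add_apply,
        Nat.Prime.factorization_pow hp, Finsupp.single_eq_same, hKm, hWm] at h3
      omega
    have hLp : ¬ p ∣ 168 := fun e' => by
      rcases hp.dvd_mul.1 (show p ∣ 2 ^ 3 * (3 * 7) from e') with e2 | e2
      · exact hp2 ((Nat.prime_dvd_prime_iff_eq hp Nat.prime_two).1 (hp.dvd_of_dvd_pow e2))
      rcases hp.dvd_mul.1 e2 with e3 | e3
      · exact hp3 ((Nat.prime_dvd_prime_iff_eq hp Nat.prime_three).1 e3)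
      · exact hp7 ((Nat.prime_dvd_prime_iff_eq hp (by norm_num)).1 e3)
    have hV : ¬ p ∣ Nat.card V := hpV _ (by rcases H.card with e4 | e4 <;> rw [e4]; norm_num)
    have hd := (Nat.factorization_le_iff_dvd Nat.card_pos.ne'
      (mul_ne_zero Nat.card_pos.ne' Nat.card_pos.ne')).2 T.card_dvd
    have hd' : (Nat.card X).factorization p ≤ (Nat.card L * Nat.card V).factorization p := hd p
    rw [e, Nat.factorization_mul (mul_ne_zero (by norm_num) Nat.card_pos.ne') Nat.card_pos.ne', Finsupp.add_apply,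
      Nat.factorization_mul (by norm_num) Nat.card_pos.ne', Finsupp.add_apply,
      Nat.factorization_eq_zero_of_not_dvd hV, Nat.factorization_eq_zero_of_not_dvd hLp, hKm] at hd'
    omega
  exfalso
  obtain ⟨w, hw, hwK⟩ := SetLike.not_le_iff_exists.1 e'
  have hwX : w ∈ X := T.leL (mem_inf.1 hw).2
  have hwV := (mem_inf.1 hw).1
  have hw1 : w ≠ 1 := fun e1 => hwK (e1 ▸ K.one_mem)
  have hAP : ctr P ≤ P := inf_le_left
  have hAn : X ≤ normalizer (ctr P : Set G) := normalizer_le_ctr P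
  have hAI : Inv x (ctr P) := SelfCentThree.inv_of_mem_normalizer (hAn hxX)
  have hAp : IsPGroup p (ctr P) := hP.to_le hAP
  obtain ⟨Q, C, hQ⟩ := E.toFull.exists_core_two E.ct hwV hw1
  have hbot : ctr P ⊓ centralizer ({w} : Set G) = ⊥ := by
    have hI' : Inv x (ctr P ⊓ centralizer ({w} : Set G)) :=
      hAI.inf (SelfCentThree.inv_of_mem_normalizer (le_normalizer (E.toFull.toCtx.x_mem_cent hwV)))
    refine le_bot_iff.1 ((le_inf inf_le_left (C.max _ inf_le_right hI' (hP3.anti (inf_le_left.trans hAP)))).trans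
      (disjoint_iff.1 (IsPGroup.disjoint_of_ne p 2 hp2 _ Q hAp hQ)).le)
  refine hwK (T.pm_le_core H (fpf_of_pGroup H hp hp2 hp3 hAp hAI) (two_not_dvd_of_pGroup hp hp2 hAp)
    (ctr_ne_bot hp hP h1) hAn ⟨hwX, Or.inr (inverts_of_inf_bot (H.sq w hwV) (hAn hwX) hbot)⟩)

/-- A maximal invariant fixed-point-free subgroup of odd order. -/
structure MaxOdd (x : G) (M : Subgroup G) : Prop where
  fpf : Fpf x M
  odd : ¬ 2 ∣ Nat.card M
  ne : M ≠ ⊥
  max : ∀ R : Subgroup G, Fpf x R → ¬ 2 ∣ Nat.card R → M ≤ R → R = M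

theorem exists_maxOdd (hA : Fpf x A) (h2 : ¬ 2 ∣ Nat.card A) (h1 : A ≠ ⊥) : ∃ M, A ≤ M ∧ MaxOdd x M := by
  set 𝒮 := {M : Subgroup G | Fpf x M ∧ ¬ 2 ∣ Nat.card M ∧ A ≤ M}
  obtain ⟨M, ⟨hM, hM2, hAM⟩, hmax⟩ := (Set.toFinite 𝒮).exists_maximal ⟨A, hA, h2, le_rfl⟩
  exact ⟨M, hAM, hM, hM2, fun e => h1 (le_bot_iff.1 (e ▸ hAM)), fun R hR hR2 hMR =>
    le_antisymm (hmax (show R ∈ 𝒮 from ⟨hR, hR2, hAM.trans hMR⟩) hMR) hMR⟩

theorem MaxOdd.prime_facts (hM : MaxOdd x M) (H : Hyp x V) {p : ℕ} (hp : p.Prime) (hd : p ∣ Nat.card M) :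
    p ≠ 2 ∧ p ≠ 3 :=
  ⟨fun e => hM.odd (e ▸ hd), fun e => hM.fpf.p3 H (e ▸ hd)⟩

/-- The Sylow subgroups of a maximal one are Sylow subgroups of the group. -/
theorem Endgame.maxOdd_sylow (E : Endgame x V τ F h s k) (hM : MaxOdd x M) {p : ℕ} (hp : p.Prime)
    (hd : p ∣ Nat.card M) : ∃ P : Subgroup G, P ≤ M ∧ IsPGroup p P ∧ Inv x P ∧
      Nat.card P = p ^ (Nat.card G).factorization p ∧
      (Nat.card M).factorization p = (Nat.card G).factorization p ∧ M = centralizer (ctr P : Set G) := by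
  haveI : Fact p.Prime := ⟨hp⟩
  have H := E.setting.hyp
  obtain ⟨hp2, hp3⟩ := hM.prime_facts H hp hd
  obtain ⟨P, hPM, -, hPp, hPI, hPc⟩ := exists_inv_sylow_ge H hM.fpf.inv (hM.fpf.p3 H) p
    (bot_le : (⊥ : Subgroup G) ≤ M) IsPGroup.of_bot (fun r hr => by rw [mem_bot.1 hr]; simp)
  have hP1 : P ≠ ⊥ := fun e => by
    have := Nat.one_lt_pow (hp.factorization_pos_of_dvd Nat.card_pos.ne' hd).ne' hp.one_lt
    rw [← hPc, e, card_bot] at this
    omega
  have hZ3 : P3 (ctr P) := (hM.fpf.p3 H).anti ((inf_le_left : ctr P ≤ P).trans hPM)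
  obtain ⟨hC2, hCf⟩ := E.odd_cent
    (SelfCentThree.inv_of_mem_normalizer (normalizer_le_ctr P (inv_mem_normalizer H hPI))) hZ3
    (two_not_dvd_of_pGroup hp hp2 (hPp.to_le inf_le_left)) (ctr_ne_bot hp hPp hP1)
  have hMC : M ≤ centralizer (ctr P : Set G) := fun a ha => mem_centralizer_iff.2 fun z hz =>
    (hM.fpf.ctr_central H hp hPM hPc hz ha).eq.symm
  have hMe := hM.max _ hCf hC2 hMC
  have hmax : ∀ W : Subgroup G, IsPGroup p W → Inv x W → P ≤ W → W = P := by
    intro W hW hWI hPW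
    by_contra hne
    obtain ⟨n, hnW, hnP, hnn⟩ := exists_normalizing_p hp hW hPW (Ne.symm hne)
    set Y := W ⊓ normalizer (P : Set G)
    have hYp : IsPGroup p Y := hW.to_le inf_le_left
    have hYI : Inv x Y := hWI.inf (inv_normalizer H hPI)
    have hYn : Y ≤ normalizer (M : Set G) := by
      rw [← hMe]
      exact inf_le_right.trans ((normalizer_le_ctr P).trans (normalizer_le_normalizer_centralizer_self _))
    have hS := Cfsg.Lib.Coprime.card_sup_mul_card_inf hYn
    have hdS : Nat.card (M ⊔ Y : Subgroup G) ∣ Nat.card M * Nat.card Y := hS ▸ dvd_mul_right _ _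
    have hS2 : ¬ 2 ∣ Nat.card (M ⊔ Y : Subgroup G) := fun e => by
      rcases Nat.prime_two.dvd_mul.1 (e.trans hdS) with e' | e'
      · exact hM.odd e'
      · exact two_not_dvd_of_pGroup hp hp2 hYp e'
    have hS3 : P3 (M ⊔ Y : Subgroup G) := fun e => by
      rcases Nat.prime_three.dvd_mul.1 (e.trans hdS) with e' | e'
      · exact hM.fpf.p3 H e'
      · exact not_three_of_pGroup hp hp3 hYp e'
    have hSM := hM.max (M ⊔ Y) (fpf_of_odd H (hM.fpf.inv.sup hYI) hS2
      fun hx => hS3 (H.ord ▸ Subgroup.orderOf_dvd_natCard _ hx)) hS2 le_sup_left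
    have hYM : Y ≤ M := hSM ▸ le_sup_right
    have hYP : P = Y := Subgroup.eq_of_le_of_card_ge (le_inf hPW le_normalizer) (by
      obtain ⟨j, hj⟩ := IsPGroup.iff_card.1 hYp
      have h1 := card_dvd_of_le hYM
      rw [hj, Nat.Prime.pow_dvd_iff_le_factorization hp Nat.card_pos.ne'] at h1
      rw [hj, hPc]
      exact Nat.pow_le_pow_right hp.pos h1)
    exact hnP (hYP ▸ mem_inf.2 ⟨hnW, hnn⟩)
  have hS := E.maximal_sylow hp hp2 hp3 hPp hPI hP1 hmax
  exact ⟨P, hPM, hPp, hPI, hS, Nat.pow_right_injective hp.two_le (hPc.symm.trans hS), hMe.symm⟩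

/-- Maximal ones with a common prime are conjugate under the normaliser of `⟨x⟩`. -/
theorem Endgame.maxOdd_conj (E : Endgame x V τ F h s k) (hM : MaxOdd x M) (hM' : MaxOdd x M') {p : ℕ}
    (hp : p.Prime) (hd : p ∣ Nat.card M) (hd' : p ∣ Nat.card M') :
    ∃ n : G, n * x * n⁻¹ ∈ zpowers x ∧ conjMap n M = M' := by
  haveI : Fact p.Prime := ⟨hp⟩
  have H := E.setting.hyp
  obtain ⟨P, -, -, -, hPc, -, hMP⟩ := E.maxOdd_sylow hM hp hd
  obtain ⟨P', -, -, -, hPc', -, hMP'⟩ := E.maxOdd_sylow hM' hp hd'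
  obtain ⟨a, ha⟩ := MulAction.exists_smul_eq G (Sylow.ofCard P hPc) (Sylow.ofCard P' hPc')
  have ha' : conjMap a P = P' := by
    have := congrArg (fun S : Sylow p G => (S : Subgroup G)) ha
    simpa [Sylow.coe_subgroup_smul, Cfsg.Lib.Coprime.conj_smul_eq] using this
  have haM : conjMap a M = M' := by
    rw [hMP, hMP', conjMap_centralizer]
    unfold ctr
    rw [Cfsg.Lib.Coprime.conjMap_inf, conjMap_centralizer, ha']
  have hy : a * x * a⁻¹ ∈ normalizer (M' : Set G) := by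
    rw [← haM, Cfsg.Lib.Coprime.normalizer_conjMap, mem_conjMap,
      show a⁻¹ * (a * x * a⁻¹) * a = x by group]
    exact inv_mem_normalizer H hM.fpf.inv
  obtain ⟨c, hc, hcx⟩ := H.exists_conj_three (inv_mem_normalizer H hM'.fpf.inv) hy (by
    rw [show a * x * a⁻¹ = MulAut.conj a x from rfl, MulEquiv.orderOf_eq, H.ord])
  refine ⟨c * a, ?_, by rw [← Cfsg.Lib.Coprime.conjMap_mul, haM, Cfsg.Lib.Coprime.conjMap_eq_self hc]⟩
  rwa [show c * a * x * (c * a)⁻¹ = c * (a * x * a⁻¹) * c⁻¹ by group]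

theorem oddPart_mul (n : ℕ) : 2 ^ n.factorization 2 * oddPart n = n := Nat.ordProj_mul_ordCompl_eq_self n 2

theorem dvd_oddPart {d n : ℕ} (hd : d ∣ n) (h2 : ¬ 2 ∣ d) : d ∣ oddPart n := by
  rw [← oddPart_mul n] at hd
  exact (Nat.Coprime.pow_right _ (Nat.prime_two.coprime_iff_not_dvd.2 h2).symm).dvd_of_dvd_mul_left hd

theorem oddPart_pos {n : ℕ} (hn : n ≠ 0) : 0 < oddPart n := Nat.ordCompl_pos 2 hn

/-- The order of a maximal one divides one of the two numbers. -/
theorem Endgame.maxOdd_dvd (E : Endgame x V τ F h s k) (hs : s = 3 * 2 ^ b) (hM : MaxOdd x M) :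
    Nat.card M ∣ oddPart F ∨ Nat.card M ∣ oddPart (F + 1) := by
  classical
  have H := E.setting.hyp
  have hF7 := E.toFull.prin.ge_seven
  have hk : k = 1 ∨ k = 2 := by rcases E.toFull.norm.kk with e | ⟨e, -⟩ <;> omega
  have key : ∀ p : ℕ, p.Prime → p ∣ Nat.card M →
      (Nat.card G).factorization p = (Nat.card M).factorization p ∧
      (p ∣ F ∧ (Nat.card G).factorization p = F.factorization p ∨
        p ∣ F + 1 ∧ (Nat.card G).factorization p = (F + 1).factorization p) := by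
    intro p hp hd
    obtain ⟨-, -, -, -, -, hfe, -⟩ := E.maxOdd_sylow hM hp hd
    obtain ⟨hp2, hp3⟩ := hM.prime_facts H hp hd
    refine ⟨hfe.symm, ?_⟩
    have hcop : ∀ c : ℕ, c ∣ 2 ^ (2 * b + 4) * 3 ^ 2 → ¬ p ∣ c := fun c hc hpc => by
      rcases hp.dvd_mul.1 (hpc.trans hc) with e | e
      · exact hp2 ((Nat.prime_dvd_prime_iff_eq hp Nat.prime_two).1 (hp.dvd_of_dvd_pow e))
      · exact hp3 ((Nat.prime_dvd_prime_iff_eq hp Nat.prime_three).1 (hp.dvd_of_dvd_pow e))
    have hc1 : ¬ p ∣ 3 * k ^ 2 := hcop _ (by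
      rcases hk with e | e <;> rw [e]
      · exact Dvd.dvd.mul_left (by norm_num) _
      · rw [mul_comm 3]; exact Nat.mul_dvd_mul (pow_dvd_pow 2 (show 2 ≤ 2 * b + 4 by omega)) (by norm_num))
    have hc2 : ¬ p ∣ s ^ 2 * Nat.card V := hcop _ (by
      rw [hs, mul_pow, ← pow_mul, mul_assoc, mul_comm (3 ^ 2), pow_add, mul_comm b 2]
      refine Nat.mul_dvd_mul (Nat.mul_dvd_mul dvd_rfl ?_) dvd_rfl
      rcases H.card with e | e <;> rw [e] <;> norm_num)
    have hV0 : Nat.card V ≠ 0 := Nat.card_pos.ne'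
    have hs0 : s ^ 2 ≠ 0 := by rw [hs]; positivity
    have hk0 : 3 * k ^ 2 ≠ 0 := by rcases hk with e | e <;> rw [e] <;> norm_num
    have hgeq := congrArg (fun c : ℕ => c.factorization p) E.toFull.norm.card_eq
    have e2 : s ^ 2 * F * (F + 1) * Nat.card V = (s ^ 2 * Nat.card V) * (F * (F + 1)) := by ring
    simp only [e2] at hgeq
    rw [Nat.factorization_mul hk0 Nat.card_pos.ne', Nat.factorization_mul (mul_ne_zero hs0 hV0)
        (mul_ne_zero (by omega) (by omega)), Finsupp.add_apply, Finsupp.add_apply,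
      Nat.factorization_eq_zero_of_not_dvd hc1, Nat.factorization_eq_zero_of_not_dvd hc2, zero_add, zero_add,
      Nat.factorization_mul (by omega) (by omega), Finsupp.add_apply] at hgeq
    have hpos : 0 < (Nat.card G).factorization p :=
      hp.factorization_pos_of_dvd Nat.card_pos.ne' (hd.trans (card_subgroup_dvd_card M))
    by_cases hpF : p ∣ F
    · have h0 : ¬ p ∣ F + 1 := fun e => hp.not_dvd_one ((Nat.dvd_add_right hpF).1 e)
      rw [Nat.factorization_eq_zero_of_not_dvd h0, add_zero] at hgeq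
      exact Or.inl ⟨hpF, hgeq⟩
    · rw [Nat.factorization_eq_zero_of_not_dvd hpF, zero_add] at hgeq
      exact Or.inr ⟨Nat.dvd_of_factorization_pos (by omega), hgeq⟩
  have hnm : ¬ ∃ p r : ℕ, p.Prime ∧ r.Prime ∧ p ∣ Nat.card M ∧ r ∣ Nat.card M ∧ p ∣ F ∧ r ∣ F + 1 := by
    rintro ⟨p, r, hp, hr, hpM, hrM, hpF, hrF⟩
    haveI : Fact p.Prime := ⟨hp⟩
    haveI : Fact r.Prime := ⟨hr⟩
    have hne : p ≠ r := fun e => hp.not_dvd_one ((Nat.dvd_add_right hpF).1 (e ▸ hrF))
    have hp' : (Nat.card G).factorization p = F.factorization p := by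
      rcases (key p hp hpM).2 with ⟨-, e⟩ | ⟨e, -⟩
      · exact e
      · exact absurd ((Nat.dvd_add_right hpF).1 e) hp.not_dvd_one
    have hr' : (Nat.card G).factorization r = (F + 1).factorization r := by
      rcases (key r hr hrM).2 with ⟨e, -⟩ | ⟨-, e⟩
      · exact absurd ((Nat.dvd_add_right e).1 hrF) hr.not_dvd_one
      · exact e
    obtain ⟨a, ha⟩ := exists_prime_orderOf_dvd_card' (G := M) p hpM
    obtain ⟨c, hc⟩ := exists_prime_orderOf_dvd_card' (G := M) r hrM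
    haveI := hM.fpf.isNilpotent H
    have hac : Commute a c := Cfsg.Lib.SolvStruct.commute_of_coprime_of_nilpotent hne
      ⟨1, by rw [ha, pow_one]⟩ ⟨1, by rw [hc, pow_one]⟩
    refine E.toFull.prin.no_mixed p r hp hr hpF hrF hp' hr' ((a * c : M) : G) ?_
    rw [Subgroup.orderOf_coe, hac.orderOf_mul_eq_mul_orderOf_of_coprime
      (by rw [ha, hc]; exact (Nat.coprime_primes hp hr).2 hne), ha, hc]
  by_cases hall : ∀ p : ℕ, p.Prime → p ∣ Nat.card M → p ∣ F
  · refine Or.inl (dvd_oddPart ?_ hM.odd)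
    rw [← Nat.factorization_le_iff_dvd Nat.card_pos.ne' (by omega), Finsupp.le_def]
    intro p
    by_cases hpd : p.Prime ∧ p ∣ Nat.card M
    · obtain ⟨e, h' | ⟨h', -⟩⟩ := key p hpd.1 hpd.2
      · omega
      · exact absurd ((Nat.dvd_add_right (hall p hpd.1 hpd.2)).1 h') hpd.1.not_dvd_one
    · rcases not_and_or.1 hpd with e | e
      · rw [Nat.factorization_eq_zero_of_not_prime _ e]; exact Nat.zero_le _
      · rw [Nat.factorization_eq_zero_of_not_dvd e]; exact Nat.zero_le _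
  · push Not at hall
    obtain ⟨r, hr, hrM, hrF⟩ := hall
    have hrF1 : r ∣ F + 1 := ((key r hr hrM).2.resolve_left fun e => hrF e.1).1
    refine Or.inr (dvd_oddPart ?_ hM.odd)
    rw [← Nat.factorization_le_iff_dvd Nat.card_pos.ne' (by omega), Finsupp.le_def]
    intro p
    by_cases hpd : p.Prime ∧ p ∣ Nat.card M
    · obtain ⟨e, ⟨h', -⟩ | ⟨-, h'⟩⟩ := key p hpd.1 hpd.2
      · exact absurd ⟨p, r, hpd.1, hr, hpd.2, hrM, h', hrF1⟩ hnm
      · omega
    · rcases not_and_or.1 hpd with e | e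
      · rw [Nat.factorization_eq_zero_of_not_prime _ e]; exact Nat.zero_le _
      · rw [Nat.factorization_eq_zero_of_not_dvd e]; exact Nat.zero_le _

theorem sum_pred_le {D : ℕ} (hD : 0 < D) (O : Finset ℕ) (hO : ∀ n ∈ O, n ∣ D)
    (hc : ∀ n ∈ O, ∀ m ∈ O, n ≠ m → n.Coprime m) : ∑ n ∈ O, (n - 1) ≤ D := by
  suffices h : (∏ n ∈ O, n) ∣ D ∧ ∑ n ∈ O, (n - 1) ≤ ∏ n ∈ O, n from h.2.trans (Nat.le_of_dvd hD h.1)
  induction O using Finset.induction_on with
  | empty => simp
  | @insert a O ha ih =>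
    obtain ⟨h1, h2⟩ := ih (fun n hn => hO n (Finset.mem_insert_of_mem hn))
      (fun n hn m hm => hc n (Finset.mem_insert_of_mem hn) m (Finset.mem_insert_of_mem hm))
    have hcop : a.Coprime (∏ n ∈ O, n) := Nat.Coprime.prod_right fun n hn =>
      hc a (Finset.mem_insert_self a O) n (Finset.mem_insert_of_mem hn) fun e => ha (e ▸ hn)
    have ha0 : 0 < a := Nat.pos_of_dvd_of_pos (hO a (Finset.mem_insert_self a O)) hD
    have hp0 : 0 < ∏ n ∈ O, n := Nat.pos_of_dvd_of_pos h1 hD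
    rw [Finset.sum_insert ha, Finset.prod_insert ha]
    refine ⟨hcop.mul_dvd_of_dvd_of_dvd (hO a (Finset.mem_insert_self a O)) h1, ?_⟩
    obtain ⟨a', rfl⟩ := Nat.exists_eq_add_of_le' ha0
    obtain ⟨q, hq⟩ := Nat.exists_eq_add_of_le' hp0
    rw [hq] at h2 ⊢
    simp only [Nat.add_sub_cancel]
    nlinarith

/-- The number of nontrivial solutions of odd order. -/
theorem Endgame.odd_count (E : Endgame x V τ F h s k) (hs : s = 3 * 2 ^ b) :
    {a ∈ triangle x | a ≠ 1 ∧ ∃ M : Subgroup G, MaxOdd x M ∧ a ∈ M}.ncard ≤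
      2 * Nat.card V * (oddPart F + oddPart (F + 1)) := by
  classical
  have H := E.setting.hyp
  have ht := E.toFull.toCtx.tau
  set ℳ := {M : Subgroup G | MaxOdd x M}
  have hf : ℳ.Finite := Set.toFinite _
  have hsub : {a ∈ triangle x | a ≠ 1 ∧ ∃ M : Subgroup G, MaxOdd x M ∧ a ∈ M} ⊆
      ⋃ M ∈ hf.toFinset, ((M : Set G) \ {1}) := by
    rintro a ⟨-, ha1, M, hM, haM⟩
    exact Set.mem_iUnion₂.2 ⟨M, hf.mem_toFinset.2 hM, haM, ha1⟩
  refine ((Set.ncard_le_ncard hsub (Set.toFinite _)).trans (Finset.set_ncard_biUnion_le _ _)).trans ?_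
  have hone : ∀ M : Subgroup G, ((M : Set G) \ {1}).ncard = Nat.card M - 1 := fun M => by
    rw [Set.ncard_sdiff_singleton_of_mem M.one_mem, ← Nat.card_coe_set_eq]; rfl
  rw [Finset.sum_congr rfl fun M _ => hone M,
    Finset.sum_comp (fun n => n - 1) (fun M : Subgroup G => Nat.card M)]
  set O := hf.toFinset.image fun M : Subgroup G => Nat.card M with hO
  have hfib : ∀ n ∈ O, (hf.toFinset.filter fun M : Subgroup G => Nat.card M = n).card ≤ 2 * Nat.card V := by
    intro n hn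
    obtain ⟨M, hM, rfl⟩ := Finset.mem_image.1 hn
    rw [← Set.ncard_coe_finset]
    have hMo : MaxOdd x M := hf.mem_toFinset.1 hM
    refine ncard_conj_orbit ht H hMo.fpf.inv fun M' hM' => ?_
    obtain ⟨hM', e⟩ := Finset.mem_filter.1 (Finset.mem_coe.1 hM')
    obtain ⟨p, hp, hd⟩ := Nat.exists_prime_and_dvd (fun e1 : Nat.card M = 1 => hMo.ne (eq_bot_of_card_eq _ e1))
    exact E.maxOdd_conj hMo (hf.mem_toFinset.1 hM') hp hd (e.symm ▸ hd)
  refine (Finset.sum_le_sum (g := fun n => 2 * Nat.card V * (n - 1)) fun n hn =>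
    Nat.mul_le_mul_right _ (hfib n hn)).trans ?_
  rw [← Finset.mul_sum]
  refine Nat.mul_le_mul_left _ ?_
  have hcop : ∀ n ∈ O, ∀ m ∈ O, n ≠ m → n.Coprime m := by
    intro n hn m hm hne
    obtain ⟨M, hM, rfl⟩ := Finset.mem_image.1 hn
    obtain ⟨M', hM', rfl⟩ := Finset.mem_image.1 hm
    refine Nat.coprime_of_dvd fun p hp hd hd' => hne ?_
    obtain ⟨a, -, ha⟩ := E.maxOdd_conj (hf.mem_toFinset.1 hM) (hf.mem_toFinset.1 hM') hp hd hd'
    rw [← ha, Cfsg.Lib.Coprime.card_conjMap]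
  rw [← Finset.sum_filter_add_sum_filter_not O (fun n => n ∣ oddPart F)]
  have hF7 := E.toFull.prin.ge_seven
  refine add_le_add (sum_pred_le (oddPart_pos (by omega)) _ (fun n hn => (Finset.mem_filter.1 hn).2)
    fun n hn m hm => hcop n (Finset.mem_filter.1 hn).1 m (Finset.mem_filter.1 hm).1)
    (sum_pred_le (oddPart_pos (by omega)) _ (fun n hn => ?_)
    fun n hn m hm => hcop n (Finset.mem_filter.1 hn).1 m (Finset.mem_filter.1 hm).1)
  obtain ⟨hn, hn'⟩ := Finset.mem_filter.1 hn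
  obtain ⟨M, hM, rfl⟩ := Finset.mem_image.1 hn
  exact (E.maxOdd_dvd hs (hf.mem_toFinset.1 hM)).resolve_left hn'

/-- The solutions counted by the triangle formula. -/
theorem Endgame.triangle_le (E : Endgame x V τ F h s k) (hs : s = 3 * 2 ^ b) :
    (triangle x).ncard ≤ 1 + 2 * Nat.card V * (oddPart F + oddPart (F + 1)) +
      pureBound (Nat.card G) (Nat.card V) := by
  classical
  have H := E.setting.hyp
  have hsub : triangle x ⊆ ({1} ∪ {a ∈ triangle x | a ≠ 1 ∧ ∃ M : Subgroup G, MaxOdd x M ∧ a ∈ M}) ∪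
      {a ∈ triangle x | a ≠ 1 ∧ ∃ M : Subgroup G, Max2 x M ∧ a ∈ M} := by
    intro a ha
    by_cases h1 : a = 1
    · exact Or.inl (Or.inl h1)
    obtain ⟨A, haA, hc, hA⟩ := triangle_closure H ha
    have hA1 : A ≠ ⊥ := fun e => h1 (mem_bot.1 (e ▸ haA))
    rcases E.two_or_odd hA hc with h2 | h2
    · obtain ⟨M, hAM, hM⟩ := exists_max2 h2 hA.inv hA1
      exact Or.inr ⟨ha, h1, M, hM, hAM haA⟩
    · obtain ⟨M, hAM, hM⟩ := exists_maxOdd hA h2 hA1
      exact Or.inl (Or.inr ⟨ha, h1, M, hM, hAM haA⟩)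
  refine ((Set.ncard_le_ncard hsub (Set.toFinite _)).trans (Set.ncard_union_le _ _)).trans
    (add_le_add ((Set.ncard_union_le _ _).trans (add_le_add ?_ (E.odd_count hs))) E.two_count)
  rw [Set.ncard_singleton]

end Cfsg.Lib.ThreeFour
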