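import Cfsg.Agent.ThreeFour.Local.EndMax
import Cfsg.Agent.S3224

/-!
A fixed-point-free two-group extended by an inverting involution has no second maximal subgroup of the same
kind.
-/

set_option autoImplicit false
set_option linter.unusedSectionVars false
set_option linter.style.haveILetI false

namespace Cfsg.Lib.ThreeFour

open Subgroup
open Cfsg.Lib.SelfCentThree (Inv P3)
open Cfsg.Lib.Coprime (conjMap mem_conjMap)
open scoped commutatorElement

universe u

/-- A two-group with an involution whose centraliser has order four has rank at most two. -/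
theorem rankLE_two_of_cent_four {S : Type u} [Group S] [Finite S] (hS : IsPGroup 2 S) {t : S} (ht : orderOf t = 2)
    (hc : Nat.card (centralizer ({t} : Set S)) = 4) : Cfsg.PRankLE 2 2 S := by
  intro A _ h2
  suffices h : ∃ c : S, Nat.card S ≤ 2 * orderOf c by
    obtain ⟨c, hc'⟩ := h
    have h1 := card_inf_ge (A := A) (B := zpowers c) (C := ⊤) le_top le_top
    rw [card_top, Nat.card_zpowers] at h1
    have h3 : Nat.card (A ⊓ zpowers c : Subgroup S) ≤ 2 := by
      haveI : IsCyclic (A ⊓ zpowers c : Subgroup S) := isCyclic_of_le inf_le_right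
      obtain ⟨g, hg⟩ := IsCyclic.exists_generator (α := (A ⊓ zpowers c : Subgroup S))
      rw [← orderOf_eq_card_of_forall_mem_zpowers hg]
      exact Nat.le_of_dvd (by norm_num) (orderOf_dvd_of_pow_eq_one (Subtype.ext (h2 g g.2.1)))
    have h4 : Nat.card A * orderOf c ≤ 4 * orderOf c := h1.trans ((Nat.mul_le_mul h3 hc').trans (by ring_nf; rfl))
    exact Nat.le_of_mul_le_mul_right h4 (orderOf_pos c)
  rcases Cfsg.Agent.S3224.result hS t ht hc with ⟨n, ⟨e⟩⟩ | ⟨n, -, hn, c, -, hc', -, -⟩ | e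
  · haveI : Finite (DihedralGroup n) := Finite.of_equiv S e.toEquiv
    refine ⟨e.symm (DihedralGroup.r 1), ?_⟩
    rw [MulEquiv.orderOf_eq, DihedralGroup.orderOf_r_one, Nat.card_congr e.toEquiv, DihedralGroup.nat_card]
  · exact ⟨c, by rw [hn, hc', pow_succ]; ring_nf; rfl⟩
  · exact ⟨t, by omega⟩

variable {G : Type u} [Group G] [Finite G] {x τ σ : G} {V T T' M : Subgroup G} {F s k : ℕ} {h : G → ℤ}

/-- A maximal invariant two-group without fixed points does not have order four. -/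
theorem Endgame.not_four (E : Endgame x V τ F h s k) (hM : Max2 x M) (hMV : M ⊓ V = ⊥) (h4 : Nat.card M = 4) :
    False := by
  classical
  haveI : Fact (Nat.Prime 2) := ⟨Nat.prime_two⟩
  have hself := hM.self E.setting.hyp E.ct
  obtain ⟨A, hA, hA2, hAc⟩ : ∃ A : Subgroup G, IsMulCommutative A ∧ (∀ a ∈ A, a ^ 2 = 1) ∧
      2 ^ 2 < Nat.card A := by
    simpa [Cfsg.PRankLE, not_forall] using E.rank
  obtain ⟨S, hMS⟩ := hM.two.exists_le_sylow
  obtain ⟨Q, hAQ⟩ := (show IsPGroup 2 A from fun a => ⟨1, Subtype.ext (by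
    rw [pow_one]; exact hA2 a a.2)⟩).exists_le_sylow
  obtain ⟨g, hg⟩ := MulAction.exists_smul_eq G Q S
  have hA'S : conjMap g A ≤ S := by
    intro a ha
    rw [← hg, Sylow.coe_subgroup_smul, Cfsg.Lib.Coprime.conj_smul_eq]
    exact Cfsg.Lib.Coprime.conjMap_mono hAQ ha
  haveI : Nontrivial (S : Subgroup G) := by
    rw [← Finite.one_lt_card_iff_nontrivial]
    have h2 := Nat.le_of_dvd Nat.card_pos (card_dvd_of_le hMS)
    rw [h4] at h2
    exact lt_of_lt_of_le (by norm_num) h2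
  haveI := S.2.center_nontrivial
  obtain ⟨z, hz⟩ := exists_prime_orderOf_dvd_card' (G := center (S : Subgroup G)) 2 (by
    obtain ⟨n, hn⟩ := IsPGroup.iff_card.1 (S.2.to_subgroup (center (S : Subgroup G)))
    have := Finite.one_lt_card (α := center (S : Subgroup G))
    rw [hn] at this ⊢
    exact dvd_pow_self 2 (by rintro rfl; norm_num at this))
  rw [← Subgroup.orderOf_coe] at hz
  have hzc : ∀ a ∈ (S : Subgroup G), Commute a ((z : S) : G) := fun a ha =>
    congrArg Subtype.val (mem_center_iff.1 z.2 ⟨a, ha⟩)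
  have hzM : ((z : S) : G) ∈ M := hself (mem_centralizer_iff.2 fun a ha => hzc a (hMS ha))
  have hzc2 : Nat.card (zpowers ((z : S) : G)) = 2 := by rw [Nat.card_zpowers, Subgroup.orderOf_coe, hz]
  obtain ⟨t, htM, htz⟩ := SetLike.not_le_iff_exists.1 fun hle : M ≤ zpowers ((z : S) : G) => by
    have := Nat.le_of_dvd Nat.card_pos (card_dvd_of_le hle)
    omega
  haveI : IsMulCommutative M := IsPGroup.isMulCommutative_of_card_eq_prime_sq (p := 2) h4
  have hMc : ∀ a ∈ M, ∀ b ∈ M, Commute a b := fun a ha b hb =>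
    congrArg Subtype.val (mul_comm' (⟨a, ha⟩ : M) ⟨b, hb⟩)
  have hMgen : zpowers ((z : S) : G) ⊔ zpowers t = M := by
    refine Subgroup.eq_of_le_of_card_ge (sup_le (zpowers_le.2 hzM) (zpowers_le.2 htM)) ?_
    set J := zpowers ((z : S) : G) ⊔ zpowers t
    have hd := card_dvd_of_le (le_sup_left : zpowers ((z : S) : G) ≤ J)
    have hd' := card_dvd_of_le (sup_le (zpowers_le.2 hzM) (zpowers_le.2 htM) : J ≤ M)
    rw [hzc2] at hd
    rw [h4] at hd' ⊢
    have hne : Nat.card J ≠ 2 := fun e => htz ((Subgroup.eq_of_le_of_card_ge (le_sup_left :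
      zpowers ((z : S) : G) ≤ J) (by rw [hzc2, e])).symm ▸ mem_sup_right (mem_zpowers t))
    have hle := Nat.le_of_dvd (by norm_num) hd'
    interval_cases Nat.card J <;> omega
  have hcM : (S : Subgroup G) ⊓ centralizer ({t} : Set G) = M := by
    refine le_antisymm (fun a ha => hself (mem_centralizer_iff.2 fun b hb => ?_)) fun a ha =>
      mem_inf.2 ⟨hMS ha, mem_centralizer_singleton_iff.2 (hMc a ha t htM).eq⟩
    have h1 : zpowers ((z : S) : G) ⊔ zpowers t ≤ centralizer ({a} : Set G) := sup_le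
      (zpowers_le.2 (mem_centralizer_singleton_iff.2 (hzc a ha.1).eq.symm))
      (zpowers_le.2 (mem_centralizer_singleton_iff.2 (mem_centralizer_singleton_iff.1 ha.2).symm))
    exact mem_centralizer_singleton_iff.1 (h1 (hMgen.symm ▸ hb))
  set tS : (S : Subgroup G) := ⟨t, hMS htM⟩
  have ht1 : t ≠ 1 := fun e => htz (e ▸ one_mem _)
  have ht2 : orderOf t = 2 := by
    have hMf := fpf_of E.setting.hyp hM.inv (P3.of_two hM.two) hMV
    set e := ((z : S) : G) with he
    have hoe : orderOf e = 2 := by rw [he, Subgroup.orderOf_coe, hz]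
    have he1 : e ≠ 1 := fun e1 => by rw [e1, orderOf_one] at hoe; omega
    have hd1 : e ≠ x * e * x⁻¹ := fun e' => he1 (hMf.fix e hzM (mul_inv_eq_iff_eq_mul.1 e'.symm).symm)
    have hd2 : x * e * x⁻¹ ≠ x⁻¹ * e * x := fun e' => by
      rw [← E.setting.hyp.conj_conj] at e'
      exact hd1 (mul_left_cancel (mul_right_cancel e'))
    have hd3 : e ≠ x⁻¹ * e * x := fun e' => hd1 (by
      calc e = x * (x⁻¹ * e * x) * x⁻¹ := by group
        _ = x * e * x⁻¹ := by rw [← e'])
    have hne1 : x * e * x⁻¹ ≠ 1 := fun e' => he1 (conj_eq_one_iff.1 e')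
    have hne2 : x⁻¹ * e * x ≠ 1 := fun e' => he1 (conj_eq_one_iff.1 (show x⁻¹ * e * x⁻¹⁻¹ = 1 by rw [inv_inv]; exact e'))
    have hsub : ({1, e, x * e * x⁻¹, x⁻¹ * e * x} : Set G) = (M : Set G) := by
      refine Set.eq_of_subset_of_ncard_le ?_ ?_ (Set.toFinite _)
      · rintro r (rfl | rfl | rfl | rfl)
        exacts [M.one_mem, hzM, hM.inv e hzM, inv_back E.setting.hyp hM.inv hzM]
      · rw [← Nat.card_coe_set_eq]
        rw [show Nat.card ((M : Set G) : Type u) = 4 from h4,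
          Set.ncard_insert_of_notMem (by simp [Ne.symm he1, Ne.symm hne1, Ne.symm hne2]) (Set.toFinite _),
          Set.ncard_insert_of_notMem (by simp [hd1, hd3]) (Set.toFinite _),
          Set.ncard_insert_of_notMem (by simp [hd2]) (Set.toFinite _), Set.ncard_singleton]
    have htm : t ∈ ({1, e, x * e * x⁻¹, x⁻¹ * e * x} : Set G) := hsub.symm ▸ htM
    rcases htm with e' | e' | e' | e'
    · exact absurd e' ht1
    · rw [e', hoe]
    · rw [e', show x * e * x⁻¹ = MulAut.conj x e from rfl, MulEquiv.orderOf_eq, hoe]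
    · rw [Set.mem_singleton_iff.1 e', show x⁻¹ * e * x = MulAut.conj x⁻¹ e by simp, MulEquiv.orderOf_eq, hoe]
  have hcard : Nat.card (centralizer ({tS} : Set (S : Subgroup G))) = 4 := by
    rw [← h4, ← Nat.card_congr (subgroupOfEquivOfLe hMS).toEquiv]
    refine congrArg (fun K : Subgroup (S : Subgroup G) => Nat.card K) ?_
    ext a
    rw [mem_subgroupOf, mem_centralizer_singleton_iff, Subtype.ext_iff, ← hcM, mem_inf,
      mem_centralizer_singleton_iff]
    exact ⟨fun e => ⟨a.2, e⟩, fun e => e.2⟩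
  have hr := rankLE_two_of_cent_four S.2 (t := tS) (by rw [← Subgroup.orderOf_coe]; exact ht2) hcard
  have := hr ((conjMap g A).subgroupOf S) ⟨⟨fun a b => Subtype.ext (Subtype.ext (by
    obtain ⟨a', ha', ea⟩ := mem_subgroupOf.1 a.2
    obtain ⟨b', hb', eb⟩ := mem_subgroupOf.1 b.2
    simp only [Subgroup.coe_mul]
    rw [← ea, ← eb, ← map_mul, ← map_mul]
    exact congrArg _ (congrArg Subtype.val (mul_comm' (⟨a', ha'⟩ : A) ⟨b', hb'⟩))))⟩⟩ fun a ha => by
    obtain ⟨a', ha', ea⟩ := mem_subgroupOf.1 ha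
    refine Subtype.ext ?_
    rw [Subgroup.coe_pow, ← ea, ← map_pow, hA2 a' ha', map_one, Subgroup.coe_one]
  rw [Nat.card_congr (subgroupOfEquivOfLe hA'S).toEquiv, Cfsg.Lib.Coprime.card_conjMap] at this
  omega

section sibling

variable (H : Hyp x V) (hT : Fpf x T) (hT2 : IsPGroup 2 T) (hσ : Tau x V σ) (hσT : σ ∈ normalizer (T : Set G))
  (hT' : T' ≤ T ⊔ zpowers σ) (hc : Nat.card T' = Nat.card T) (hne : T' ≠ T)

theorem Tau.not_mem_of_inv (hσ : Tau x V σ) (H : Hyp x V) (hTI : Inv x T) (hT3 : P3 T) : σ ∉ T := fun hm => by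
  have h1 : x * σ * x⁻¹ * σ⁻¹ ∈ T := T.mul_mem (hTI σ hm) (T.inv_mem hm)
  rw [show x * σ * x⁻¹ * σ⁻¹ = x * (σ * x⁻¹ * σ⁻¹) by group, hσ.conj_inv_x, H.mul_self, inv_mem_iff] at h1
  exact hT3 (H.ord ▸ Subgroup.orderOf_dvd_natCard T h1)

theorem Tau.card_zpowers (hσ : Tau x V σ) (H : Hyp x V) : Nat.card (zpowers σ) = 2 := by
  rw [Nat.card_zpowers, hσ.orderOf_eq H]

theorem Tau.mem_zpowers (hσ : Tau x V σ) {g : G} (hg : g ∈ zpowers σ) : g = 1 ∨ g = σ := by
  obtain ⟨j, rfl⟩ := mem_zpowers_iff.1 hg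
  have h2 : σ ^ (2 : ℤ) = 1 := by
    rw [show (2 : ℤ) = ((2 : ℕ) : ℤ) from rfl, zpow_natCast, pow_two]; exact hσ.sq
  rcases Int.even_or_odd j with ⟨i, rfl⟩ | ⟨i, rfl⟩
  · left; rw [← two_mul, zpow_mul, h2, one_zpow]
  · right; rw [zpow_add, zpow_mul, h2, one_zpow, one_mul, zpow_one]

include H hT hT2 hσ hσT hT' hc hne in
theorem sibling_frame : T'.subgroupOf T ≠ ⊤ ∧ (T'.subgroupOf T).index = 2 ∧ σ ∈ normalizer (T' : Set G) ∧
    ∃ t ∈ T, t * σ ∈ T' := by
  have hT3 := P3.of_two hT2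
  have hσn := hσ.not_mem_of_inv H hT.inv hT3
  have hn : zpowers σ ≤ normalizer (T : Set G) := zpowers_le.2 hσT
  set U := T ⊔ zpowers σ with hU
  have hinf : T ⊓ zpowers σ = ⊥ := eq_bot_iff.2 fun g hg => mem_bot.2 (by
    rcases hσ.mem_zpowers hg.2 with e | e
    · exact e
    · exact absurd (e ▸ hg.1) hσn)
  have hUc : Nat.card U = 2 * Nat.card T := by
    have := Cfsg.Lib.Coprime.card_sup_mul_card_inf hn
    rw [hinf, card_bot, mul_one, hσ.card_zpowers H] at this
    rw [this]; ring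
  obtain ⟨ρ, hρ, hρT⟩ := SetLike.not_le_iff_exists.1 fun hle : T' ≤ T =>
    hne (Subgroup.eq_of_le_of_card_ge hle hc.ge)
  have hρU : ρ ∈ ((U : Subgroup G) : Set G) := hT' hρ
  rw [hU, Subgroup.coe_mul_of_right_le_normalizer_left _ _ hn] at hρU
  obtain ⟨t, ht, z, hz, e : t * z = ρ⟩ := hρU
  have hz' : z = σ := (hσ.mem_zpowers hz).resolve_left fun e1 => hρT (by rw [← e, e1, mul_one]; exact ht)
  have htop : T'.subgroupOf T ≠ ⊤ := fun e1 =>
    hne (Subgroup.eq_of_le_of_card_ge (subgroupOf_eq_top.1 e1) hc.le).symm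
  refine ⟨htop, ?_, ?_, t, ht, by rw [← hz', e]; exact hρ⟩
  · have hm := (T'.subgroupOf T).card_mul_index
    have hi : (T'.subgroupOf T).index ≤ 2 := by
      have h1 := card_inf_ge (A := T) (B := T') (C := U) le_sup_left hT'
      rw [hUc, hc] at h1
      have e' : Nat.card (T'.subgroupOf T) = Nat.card (T ⊓ T' : Subgroup G) := by
        rw [← Nat.card_congr (subgroupOfEquivOfLe (inf_le_left : T ⊓ T' ≤ T)).toEquiv, inf_subgroupOf_left]
      rw [← e'] at h1
      have h0 := Nat.card_pos (α := T)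
      have h0' := Nat.card_pos (α := T'.subgroupOf T)
      nlinarith
    have h0 : (T'.subgroupOf T).index ≠ 0 := index_ne_zero_of_finite
    have h1 : (T'.subgroupOf T).index ≠ 1 := fun e1 => htop (index_eq_one.1 e1)
    omega
  · haveI : (T'.subgroupOf U).Normal := normal_of_index_eq_two (by
      have hm := (T'.subgroupOf U).card_mul_index
      rw [Nat.card_congr (subgroupOfEquivOfLe hT').toEquiv, hUc, hc, mul_comm 2] at hm
      exact Nat.eq_of_mul_eq_mul_left Nat.card_pos hm)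
    exact (normal_subgroupOf_iff_le_normalizer hT').1 inferInstance (mem_sup_right (mem_zpowers σ))

include H hT hT2 hσ hσT hT' hc hne in
/-- With a second subgroup of class two the group is abelian. -/
theorem sibling_comm (hclass : ∀ a ∈ T', ∀ b ∈ T', ∀ c ∈ T', Commute ⁅a, b⁆ c) {p q : G} (hp : p ∈ T)
    (hq : q ∈ T) : Commute p q := by
  classical
  haveI : Fact (Nat.Prime 2) := ⟨Nat.prime_two⟩
  obtain ⟨-, hidx, hσT', t, htT, htσ⟩ := sibling_frame H hT hT2 hσ hσT hT' hc hne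
  set I := T'.subgroupOf T with hI
  haveI : I.Normal := normal_of_index_eq_two hidx
  let cx : T →* T := hT.hom
  let cs : T →* T := (T.normalizerMonoidHom ⟨σ, hσT⟩).toMonoidHom
  have hcx : ∀ a : T, ((cx a : T) : G) = x * a * x⁻¹ := fun a => rfl
  have hcs : ∀ a : T, ((cs a : T) : G) = σ * a * σ⁻¹ := fun a => rfl
  have hcxs : ∀ a : T, cs (cx a) = cx (cx (cs a)) := fun a => Subtype.ext (by
    rw [hcs, hcx, hcx, hcx, hcs, H.conj_conj,
      show σ * (x * (a : G) * x⁻¹) * σ⁻¹ = (σ * x * σ⁻¹) * (σ * a * σ⁻¹) * (σ * x * σ⁻¹)⁻¹ by group, hσ.conj,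
      inv_inv])
  have hcx3 : ∀ a : T, cx (cx (cx a)) = a := fun a => congrFun (hT.hom_cube H) a
  -- the Frattini quotient
  set Ψ := closure (Set.range fun a : T => a * a) with hΨ
  have hΨI : Ψ ≤ I := (closure_le _).2 (by rintro _ ⟨a, rfl⟩; exact mul_self_mem_of_index_two hidx a)
  have hmap : ∀ φ : T →* T, ∀ a ∈ Ψ, φ a ∈ Ψ := fun φ a ha => by
    induction ha using closure_induction with
    | mem a ha =>
      obtain ⟨b, rfl⟩ := ha
      exact subset_closure ⟨φ b, (map_mul φ b b).symm⟩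
    | one => simp
    | mul a b _ _ ha hb => rw [map_mul]; exact mul_mem ha hb
    | inv a _ ha => rw [map_inv]; exact inv_mem ha
  haveI : Ψ.Normal := ⟨fun a ha g => hmap (MulAut.conj g).toMonoidHom a ha⟩
  set π := QuotientGroup.mk' Ψ with hπ
  have hsq : ∀ u : T ⧸ Ψ, u * u = 1 := fun u => by
    obtain ⟨a, rfl⟩ := QuotientGroup.mk'_surjective Ψ u
    exact (QuotientGroup.eq_one_iff (a * a)).2 (subset_closure ⟨a, rfl⟩)
  have hinv : ∀ u : T ⧸ Ψ, u⁻¹ = u := fun u => inv_eq_of_mul_eq_one_left (hsq u)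
  have hcomm : ∀ u v : T ⧸ Ψ, u * v = v * u := fun u v => by
    calc u * v = (u * v)⁻¹ := (hinv _).symm
      _ = v * u := by rw [mul_inv_rev, hinv, hinv]
  have hresp : ∀ φ : T →* T, ∀ a b : T, π a = π b → π (φ a) = π (φ b) := fun φ a b e =>
    QuotientGroup.eq.2 (by
      rw [← map_inv, ← map_mul]; exact hmap φ _ (QuotientGroup.eq.1 e))
  have hπI : ∀ a b : T, π a = π b → a ∈ I → b ∈ I := fun a b e ha => by
    have := I.mul_mem ha (hΨI (QuotientGroup.eq.1 e))
    rwa [mul_inv_cancel_left] at this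
  have hthree : ∀ a : T, π (cx (cx a)) = π (cx a) * π a := fun a => by
    have h1 : a * cx a * cx (cx a) = 1 := Subtype.ext (by
      simp only [Subgroup.coe_mul, Subgroup.coe_one, hcx, H.conj_conj]
      exact hT.prod_three H a.2)
    have h2 := congrArg π h1
    rw [map_mul, map_mul, map_one] at h2
    rw [← eq_inv_of_mul_eq_one_right h2 |>.symm, hinv, hcomm]
  -- commutators
  have hcen : ∀ a b c : T, Commute ⁅a, b⁆ c := fun a b c => Subtype.ext (hT.class_two H a.2 b.2 c.2).eq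
  have hbl : ∀ a b c : T, ⁅a * b, c⁆ = ⁅a, c⁆ * ⁅b, c⁆ := fun a b c => by
    calc ⁅a * b, c⁆ = a * ⁅b, c⁆ * a⁻¹ * ⁅a, c⁆ := by simp only [commutatorElement_def]; group
      _ = ⁅b, c⁆ * ⁅a, c⁆ := by rw [(hcen b c a).symm.eq, mul_inv_cancel_right]
      _ = _ := (hcen b c _).eq
  set C := _root_.commutator T with hC
  have hCgen : ∀ a b : T, ⁅a, b⁆ ∈ C := fun a b => commutator_mem_commutator (mem_top a) (mem_top b)
  have hCc : C ≤ center T := by
    rw [hC, _root_.commutator_def, Subgroup.commutator_le]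
    exact fun a _ b _ => mem_center_iff.2 fun c => (hcen a b c).eq.symm
  have hCcomm : ∀ c ∈ C, ∀ d, Commute c d := fun c hc d => (mem_center_iff.1 (hCc hc) d).symm
  let N2 : Subgroup T :=
    { carrier := {c | ∃ d ∈ C, d * d = c}
      one_mem' := ⟨1, C.one_mem, mul_one 1⟩
      mul_mem' := by
        rintro _ _ ⟨a, ha, rfl⟩ ⟨b, hb, rfl⟩
        exact ⟨a * b, C.mul_mem ha hb, by
          rw [show a * b * (a * b) = a * (b * a) * b by group, (hCcomm b hb a).eq]; group⟩
      inv_mem' := by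
        rintro _ ⟨a, ha, rfl⟩
        exact ⟨a⁻¹, C.inv_mem ha, by group⟩ }
  have hN2C : N2 ≤ C := by rintro _ ⟨d, hd, rfl⟩; exact C.mul_mem hd hd
  have hN2x : ∀ a ∈ N2, cx a ∈ N2 := by
    rintro _ ⟨d, hd, rfl⟩
    refine ⟨cx d, ?_, (map_mul cx d d).symm⟩
    have : C ≤ C.comap cx := by
      rw [hC, _root_.commutator_def, Subgroup.commutator_le]
      intro a _ b _
      rw [mem_comap, map_commutatorElement]
      exact commutator_mem_commutator (mem_top _) (mem_top _)
    exact this hd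
  haveI hN2n : N2.Normal := ⟨fun a ha g => by
    rwa [← (hCcomm a (hN2C ha) g).eq, mul_inv_cancel_right]⟩
  set γ : T → T → T ⧸ N2 := fun a b => QuotientGroup.mk ⁅a, b⁆ with hγ
  have hγl : ∀ a b c : T, γ (a * b) c = γ a c * γ b c := fun a b c => by
    simp only [hγ]; rw [hbl]; rfl
  have hγi : ∀ a b : T, γ b a = γ a b := fun a b => by
    simp only [hγ]
    refine QuotientGroup.eq.2 ⟨(⁅b, a⁆)⁻¹, C.inv_mem (hCgen b a), ?_⟩
    rw [← commutatorElement_inv b a]
  have hγr : ∀ a b c : T, γ a (b * c) = γ a b * γ a c := fun a b c => by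
    rw [hγi (b * c) a, hγl, hγi a b, hγi a c]
  have hγ1 : ∀ a : T, γ a a = 1 := fun a => by simp only [hγ]; rw [commutatorElement_self]; rfl
  have hγsq : ∀ a b : T, γ a b * γ a b = 1 := fun a b =>
    (QuotientGroup.eq_one_iff _).2 ⟨⁅a, b⁆, hCgen a b, rfl⟩
  have hγΨ : ∀ ψ ∈ Ψ, ∀ b : T, γ ψ b = 1 := fun ψ hψ b => by
    induction hψ using closure_induction with
    | mem a ha =>
      obtain ⟨a, rfl⟩ := ha
      rw [hγl, hγsq]
    | one => simp only [hγ]; rw [commutatorElement_one_left]; rfl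
    | mul a c _ _ ha hc => rw [hγl, ha, hc, one_mul]
    | inv a _ ha =>
      have := hγl a a⁻¹ b
      rw [mul_inv_cancel, ha, one_mul] at this
      rw [← this]
      simp only [hγ]; rw [commutatorElement_one_left]; rfl
  have hγπ : ∀ a a' b : T, π a = π a' → γ a b = γ a' b := fun a a' b e => by
    rw [show a' = a * (a⁻¹ * a') by group, hγl, hγΨ _ (QuotientGroup.eq.1 e), mul_one]
  -- fixed points of the involution
  have hFI : ∀ f : T, π (cs f) = π f → f ∈ I := by
    intro f hf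
    have h1 : cs (cx f) * cx f ∈ I := by
      refine (mul_mem_iff_of_index_two hidx).2 ?_
      simp only [hI, mem_subgroupOf, hcs]
      exact ((mem_set_normalizer_iff.1 hσT') _).symm
    refine hπI _ f ?_ h1
    rw [map_mul, hcxs, hresp cx _ _ (hresp cx _ _ hf), hthree, mul_assoc, hcomm (π f), ← mul_assoc, hsq, one_mul]
  have hFE₀ : ∀ f₁ f₂ : T, π (cs f₁) = π f₁ → π (cs f₂) = π f₂ → cx f₁ ∈ I → γ f₁ f₂ = 1 := by
    intro f₁ f₂ hf₁ hf₂ h1
    set a := cx f₁
    set z : T := a * ⟨t, htT⟩ * (cs a)⁻¹ * ⟨t, htT⟩⁻¹ with hz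
    have hzπ : π z = π f₁ := by
      rw [hz, map_mul, map_mul, map_mul, map_inv, map_inv, hinv, hinv, hcxs, hresp cx _ _ (hresp cx _ _ hf₁),
        hthree, hcomm (π a) (π ⟨t, htT⟩), hcomm, ← mul_assoc (π ⟨t, htT⟩), ← mul_assoc (π ⟨t, htT⟩), hsq, one_mul,
        ← mul_assoc, hsq, one_mul]
    have h2 : Commute z f₂ := Subtype.ext (by
      have hzG : (z : G) = ⁅(a : G), t * σ⁆ := by
        rw [hz, commutatorElement_def]
        simp only [Subgroup.coe_mul, Subgroup.coe_inv, hcs]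
        group
      show (z : G) * (f₂ : G) = f₂ * z
      rw [hzG]
      exact (hclass _ (mem_subgroupOf.1 h1) _ htσ _ (mem_subgroupOf.1 (hFI f₂ hf₂))).eq)
    rw [← hγπ z f₁ f₂ hzπ]
    simp only [hγ]
    rw [commutatorElement_eq_one_iff_commute.2 h2]; rfl
  have hFE : ∀ f₁ f₂ : T, π (cs f₁) = π f₁ → π (cs f₂) = π f₂ → γ f₁ f₂ = 1 := by
    intro f₁ f₂ hf₁ hf₂
    by_cases h1 : cx f₁ ∈ I
    · exact hFE₀ f₁ f₂ hf₁ hf₂ h1
    by_cases h2 : cx f₂ ∈ I
    · rw [hγi f₂ f₁]; exact hFE₀ f₂ f₁ hf₂ hf₁ h2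
    have h3 : cx (f₁ * f₂) ∈ I := by
      rw [map_mul, mul_mem_iff_of_index_two hidx]
      exact ⟨fun e => absurd e h1, fun e => absurd e h2⟩
    have h4 := hFE₀ (f₁ * f₂) f₂ (by rw [map_mul, map_mul, map_mul, hf₁, hf₂]) hf₂ h3
    rwa [hγl, hγ1, mul_one] at h4
  -- decomposition
  have hdec : ∀ a : T, ∃ f g : T, π (cs f) = π f ∧ π (cs g) = π g ∧ π a = π (f * cx g) := by
    intro a
    obtain ⟨g, hg⟩ : ∃ g, g = a * cs a := ⟨_, rfl⟩
    have hgF : π (cs g) = π g := by
      have h2 : cs (cs a) = a := Subtype.ext (by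
        rw [hcs, hcs, show σ * (σ * (a : G) * σ⁻¹) * σ⁻¹ = σ * σ * a * (σ * σ)⁻¹ by group, hσ.sq]
        group)
      rw [hg, map_mul, h2, map_mul, map_mul, hcomm]
    refine ⟨a * cx g, g, ?_, hgF, ?_⟩
    · rw [map_mul, map_mul, map_mul, hcxs, hresp cx _ _ (hresp cx _ _ hgF), hthree, hcomm (π (cx g)) (π g), hg,
        map_mul, ← mul_assoc, ← mul_assoc, hcomm (π (cs a)) (π a), mul_assoc (π a) (π (cs a)) (π (cs a)), hsq, mul_one]
    · rw [map_mul, map_mul, mul_assoc, hsq, mul_one]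
  -- the mixed values are fixed by `x`
  have hξ : ∀ a b c d : T, γ a b = γ c d → γ (cx a) (cx b) = γ (cx c) (cx d) := fun a b c d e => by
    simp only [hγ] at e ⊢
    refine QuotientGroup.eq.2 ?_
    rw [← map_commutatorElement, ← map_commutatorElement, ← map_inv, ← map_mul]
    exact hN2x _ (QuotientGroup.eq.1 e)
  have hswap : ∀ f g : T, π (cs f) = π f → π (cs g) = π g → γ g (cx f) = γ (cx f) (cx (cx g)) := by
    intro f g hf hg
    have h1 : γ f (cx (cx g)) = γ f (cx g) := by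
      rw [hγi (cx (cx g)) f, hγπ _ (cx g * g) f (by rw [map_mul]; exact hthree g), hγi f, hγr, hFE f g hf hg,
        mul_one]
    have h2 := hξ _ _ _ _ h1
    rw [hcx3] at h2
    rw [hγi (cx f) g, h2]
  have hB : ∀ f g : T, π (cs f) = π f → π (cs g) = π g → γ f (cx g) = 1 := by
    intro f g hf hg
    set c := ⁅f, cx g⁆ with hcdef
    have e1 := hswap f g hf hg
    have e2 := hswap g f hg hf
    -- `B(f,g) = x² B(f,g)`
    have e3 : γ (cx f) (cx (cx g)) = γ f (cx g) := by
      have h1 := hξ _ _ _ _ e2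
      have h2 : γ (cx g) (cx (cx f)) = γ (cx (cx f)) g := by
        have h3 := hξ _ _ _ _ e1
        rw [hcx3] at h3
        exact h3
      rw [h2, hγi g (cx (cx f))] at e2
      have h4 := hξ _ _ _ _ e2
      rw [hcx3, hγi f (cx g)] at h4
      exact h4
    refine (QuotientGroup.eq_one_iff _).2 ?_
    have hT3 := P3.of_two hT2
    have hcC : c ∈ C := hCgen _ _
    have key := mem_of_fixed_coset H (R := N2.map T.subtype) (N := C.map T.subtype) (hT2.to_le (map_subtype_le _))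
      (map_mono hN2C) (by
        intro a ha
        obtain ⟨a', ha', rfl⟩ := ha
        refine Cfsg.Lib.Coprime.mem_normalizer_of_conj_mem ?_ ?_
        · rintro _ ⟨b, hb, rfl⟩
          exact ⟨b, hb, congrArg Subtype.val (show b = a' * b * a'⁻¹ by
            rw [(hCcomm a' ha' b).eq, mul_inv_cancel_right])⟩
        · rintro _ ⟨b, hb, rfl⟩
          exact ⟨b, hb, congrArg Subtype.val (show b = a'⁻¹ * b * a' by
            rw [mul_assoc, (hCcomm b (hN2C hb) a').eq, inv_mul_cancel_left])⟩)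
      (by rintro _ ⟨b, hb, rfl⟩; exact ⟨cx b, hN2x b hb, rfl⟩)
      (fun b hb => by
        have h1 : b ∈ T ⊓ V := mem_inf.2 ⟨map_subtype_le _ hb.1, hb.2⟩
        rw [hT.inf_V H, mem_bot] at h1
        rw [h1]; exact one_mem _)
      (a := (c : G)) ⟨c, hcC, rfl⟩ (by
        refine ⟨cx c * c⁻¹, ?_, rfl⟩
        simp only [hγ] at e3
        have h5 := QuotientGroup.eq.1 e3.symm
        rw [← map_commutatorElement] at h5
        rw [(hCcomm c⁻¹ (C.inv_mem hcC) (cx c)).symm.eq]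
        exact h5)
    obtain ⟨b, hb, e⟩ := key
    have e' : b = c := Subtype.ext e
    rw [e'] at hb
    exact hb
  have hall : ∀ a b : T, γ a b = 1 := by
    intro a b
    obtain ⟨f, g, hf, hg, ea⟩ := hdec a
    obtain ⟨f', g', hf', hg', eb⟩ := hdec b
    rw [hγπ a _ b ea, hγi b, hγπ b _ _ eb, hγl, hγr, hγr, hFE f' f hf' hf, hB f' g hf' hg,
      hγi f (cx g'), hB f g' hf hg', one_mul, one_mul]
    have h1 := hξ g' g 1 1 (by rw [hFE g' g hg' hg, hγ1])
    rw [h1, map_one, hγ1, one_mul]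
  have hCN : C ≤ N2 := by
    rw [hC, _root_.commutator_def, Subgroup.commutator_le]
    exact fun a _ b _ => (QuotientGroup.eq_one_iff _).1 (hall a b)
  have hCbot : C = ⊥ := by
    by_contra hCne
    haveI : Nontrivial C := (Subgroup.nontrivial_iff_ne_bot C).2 hCne
    obtain ⟨z, hz⟩ := exists_prime_orderOf_dvd_card' (G := C) 2 (by
      obtain ⟨n, hn⟩ := IsPGroup.iff_card.1 (hT2.to_subgroup C)
      have := Finite.one_lt_card (α := C)
      rw [hn] at this ⊢
      exact dvd_pow_self 2 (by rintro rfl; norm_num at this))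
    have hsurj : Function.Surjective fun c : C => c * c := fun c => by
      obtain ⟨d, hd, e⟩ := hCN c.2
      exact ⟨⟨d, hd⟩, Subtype.ext e⟩
    have := Finite.injective_iff_surjective.2 hsurj
      (show z * z = 1 * 1 by rw [one_mul, ← pow_two, ← hz, pow_orderOf_eq_one])
    rw [this, orderOf_one] at hz
    omega
  have : ⁅(⟨p, hp⟩ : T), (⟨q, hq⟩ : T)⁆ = 1 := mem_bot.1 (hCbot ▸ hCgen _ _)
  exact congrArg Subtype.val (commutatorElement_eq_one_iff_commute.1 this).eq

include H hT hT2 hσ hσT hT' hc hne in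
/-- If both subgroups are abelian the order is at most four. -/
theorem sibling_small (hab : ∀ a ∈ T, ∀ b ∈ T, Commute a b) (hab' : ∀ a ∈ T', ∀ b ∈ T', Commute a b) :
    Nat.card T ≤ 4 := by
  obtain ⟨-, hidx, -, t, htT, htσ⟩ := sibling_frame H hT hT2 hσ hσT hT' hc hne
  have hle : (T'.subgroupOf T).map T.subtype ≤ T ⊓ centralizer ({σ} : Set G) := by
    rintro _ ⟨a, ha, rfl⟩
    refine mem_inf.2 ⟨a.2, mem_centralizer_singleton_iff.2 ?_⟩
    have h1 := hab' _ (mem_subgroupOf.1 ha) _ htσ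
    have h2 := (hab _ a.2 _ htT).inv_right.mul_right h1
    rwa [inv_mul_cancel_left] at h2
  have h1 := Tau.card_cent_sq_le H hσ hT.inv (P3.of_two hT2)
  rw [hT.inf_V H, card_bot, one_mul] at h1
  have h2 := Nat.le_of_dvd Nat.card_pos (card_dvd_of_le hle)
  rw [card_map_of_injective T.subtype_injective] at h2
  have h3 := (T'.subgroupOf T).card_mul_index
  rw [hidx] at h3
  nlinarith [Nat.card_pos (α := T)]

end sibling

theorem conjMap_comm {a : G} (hab : ∀ p ∈ M, ∀ q ∈ M, Commute p q) {p q : G} (hp : p ∈ conjMap a M)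
    (hq : q ∈ conjMap a M) : Commute p q := by
  obtain ⟨p', hp', rfl⟩ := hp
  obtain ⟨q', hq', rfl⟩ := hq
  exact (hab p' hp' q' hq').map _

theorem conjMap_class {a : G} (hM : Fpf x M) (H : Hyp x V) {p q r : G} (hp : p ∈ conjMap a M)
    (hq : q ∈ conjMap a M) (hr : r ∈ conjMap a M) : Commute ⁅p, q⁆ r := by
  obtain ⟨p', hp', rfl⟩ := hp
  obtain ⟨q', hq', rfl⟩ := hq
  obtain ⟨r', hr', rfl⟩ := hr
  rw [← map_commutatorElement]
  exact (hM.class_two H hp' hq' hr').map _

/-- The maximal invariant two-group in an extension by an inverting involution is the only one of its kind. -/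
theorem Endgame.sibling (E : Endgame x V τ F h s k) {M M' : Subgroup G} (hM : Max2 x M) (hM' : Max2 x M')
    (hMV : M ⊓ V = ⊥) (hMV' : M' ⊓ V = ⊥) {σ σ' a : G} (hσ : Tau x V σ) (hσ' : Tau x V σ')
    (hσn : σ ∈ normalizer (M : Set G)) (hσn' : σ' ∈ normalizer (M' : Set G))
    (hU : conjMap a (M ⊔ zpowers σ) = M' ⊔ zpowers σ') (hc : Nat.card M = Nat.card M') : conjMap a M = M' := by
  by_contra hne
  have H := E.setting.hyp
  have hf := fpf_of H hM.inv (P3.of_two hM.two) hMV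
  have hf' := fpf_of H hM'.inv (P3.of_two hM'.two) hMV'
  have h1 : conjMap a M ≤ M' ⊔ zpowers σ' := hU ▸ Cfsg.Lib.Coprime.conjMap_mono le_sup_left
  have h2 : conjMap a⁻¹ M' ≤ M ⊔ zpowers σ := by
    rw [← Cfsg.Lib.Coprime.conjMap_inv_conjMap a (M ⊔ zpowers σ), hU]
    exact Cfsg.Lib.Coprime.conjMap_mono le_sup_left
  have hne' : conjMap a⁻¹ M' ≠ M := fun e => hne (by rw [← e, Cfsg.Lib.Coprime.conjMap_conjMap_inv])
  have hc1 : Nat.card (conjMap a M) = Nat.card M' := by rw [Cfsg.Lib.Coprime.card_conjMap, hc]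
  have hc2 : Nat.card (conjMap a⁻¹ M') = Nat.card M := by rw [Cfsg.Lib.Coprime.card_conjMap, hc]
  have hab' : ∀ p ∈ M', ∀ q ∈ M', Commute p q := fun p hp q hq => sibling_comm H hf' hM'.two hσ' hσn' h1 hc1 hne
    (fun u hu v hv w hw => conjMap_class hf H hu hv hw) hp hq
  have hab : ∀ p ∈ M, ∀ q ∈ M, Commute p q := fun p hp q hq => sibling_comm H hf hM.two hσ hσn h2 hc2 hne'
    (fun u hu v hv w hw => conjMap_class hf' H hu hv hw) hp hq
  have h4 := sibling_small H hf' hM'.two hσ' hσn' h1 hc1 hne hab' fun p hp q hq => conjMap_comm hab hp hq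
  obtain ⟨j, hj⟩ := card_two_pow_four H hM'.two hM'.inv
  rw [hMV', card_bot, one_mul] at hj
  rcases j with _ | _ | j
  · exact hM'.ne (eq_bot_of_card_eq _ (by rw [hj, pow_zero]))
  · exact E.not_four hM' hMV' (by rw [hj, pow_one])
  · rw [hj, pow_succ, pow_succ] at h4
    have := Nat.one_le_pow j 4 (by norm_num)
    omega

end Cfsg.Lib.ThreeFour
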