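import Cfsg.Agent.ThreeFour.Local.EndSibling

/-!
The two-elements among the solutions counted by the triangle formula.
-/

set_option autoImplicit false
set_option linter.unusedSectionVars false
set_option linter.style.haveILetI false

namespace Cfsg.Lib.ThreeFour

open Subgroup
open Cfsg.Lib.SelfCentThree (Inv P3)
open Cfsg.Lib.Coprime (conjMap mem_conjMap)

universe u

variable {G : Type u} [Group G] [Finite G] {x τ : G} {V A M M' : Subgroup G} {F s k : ℕ} {h : G → ℤ}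

/-- A solution generates with its conjugates an abelian subgroup without fixed points. -/
theorem triangle_closure (H : Hyp x V) {a : G} (ha : a ∈ triangle x) :
    ∃ A : Subgroup G, a ∈ A ∧ (∀ p ∈ A, ∀ q ∈ A, Commute p q) ∧ Fpf x A := by
  obtain ⟨h3, hc, hprod⟩ := ha
  set a' := x * a * x⁻¹ with ha'
  set A := closure ({a, a'} : Set G) with hA
  have haA : a ∈ A := subset_closure (Set.mem_insert _ _)
  have haA' : a' ∈ A := subset_closure (Set.mem_insert_of_mem _ rfl)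
  have hcA : ∀ p ∈ A, ∀ q ∈ A, Commute p q := by
    have h1 : A ≤ centralizer ({a, a'} : Set G) := (closure_le _).2 (by
      rintro p (rfl | rfl) <;> refine mem_centralizer_iff.2 ?_ <;> rintro q (rfl | rfl)
      exacts [rfl, hc.eq.symm, hc.eq, rfl])
    have h2 : A ≤ centralizer (A : Set G) := (closure_le _).2 fun p hp =>
      mem_centralizer_iff.2 fun q hq => (mem_centralizer_iff.1 (h1 hq) p hp).symm
    exact fun p hp q hq => (mem_centralizer_iff.1 (h2 hp) q hq).symm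
  have ha'' : x⁻¹ * a * x ∈ A := by
    rw [eq_inv_of_mul_eq_one_right hprod]
    exact A.inv_mem (A.mul_mem haA haA')
  have hI : Inv x A := fun r hr => by
    induction hr using closure_induction with
    | mem r hr =>
      rcases hr with rfl | rfl
      · exact haA'
      · rw [ha', H.conj_conj]; exact ha''
    | one => simp
    | mul p q _ _ hp hq =>
      rw [show x * (p * q) * x⁻¹ = x * p * x⁻¹ * (x * q * x⁻¹) by group]; exact A.mul_mem hp hq
    | inv p _ hp => rw [← conj_inv]; exact A.inv_mem hp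
  have hprodA : ∀ r ∈ A, r * (x * r * x⁻¹) * (x⁻¹ * r * x) = 1 := fun r hr => by
    induction hr using closure_induction with
    | mem r hr =>
      rcases hr with rfl | rfl
      · exact hprod
      · have e1 : x⁻¹ * a' * x = a := by rw [ha']; group
        have e2 : x * a' * x⁻¹ = x⁻¹ * a * x := by rw [ha', H.conj_conj]
        rw [e1, e2, ← (hcA a haA _ (A.mul_mem haA' ha'')).eq, ← mul_assoc]
        exact hprod
    | one => simp
    | mul p q hp hq ep eq' =>
      have hp' := hI p hp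
      have hq' := hI q hq
      have hp'' : x⁻¹ * p * x ∈ A := by rw [← H.conj_conj]; exact hI _ hp'
      calc p * q * (x * (p * q) * x⁻¹) * (x⁻¹ * (p * q) * x)
          = p * (q * (x * p * x⁻¹)) * ((x * q * x⁻¹) * (x⁻¹ * p * x)) * (x⁻¹ * q * x) := by group
        _ = p * ((x * p * x⁻¹) * q) * ((x⁻¹ * p * x) * (x * q * x⁻¹)) * (x⁻¹ * q * x) := by
          rw [(hcA q hq _ hp').eq, (hcA _ hq' _ hp'').eq]
        _ = p * (x * p * x⁻¹) * (q * (x⁻¹ * p * x)) * ((x * q * x⁻¹) * (x⁻¹ * q * x)) := by group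
        _ = p * (x * p * x⁻¹) * ((x⁻¹ * p * x) * q) * ((x * q * x⁻¹) * (x⁻¹ * q * x)) := by
          rw [(hcA q hq _ hp'').eq]
        _ = (p * (x * p * x⁻¹) * (x⁻¹ * p * x)) * (q * (x * q * x⁻¹) * (x⁻¹ * q * x)) := by group
        _ = 1 := by rw [ep, eq', one_mul]
    | inv p hp ep =>
      have hp' := hI p hp
      have hp'' : x⁻¹ * p * x ∈ A := by rw [← H.conj_conj]; exact hI _ hp'
      calc p⁻¹ * (x * p⁻¹ * x⁻¹) * (x⁻¹ * p⁻¹ * x)
          = ((x⁻¹ * p * x) * ((x * p * x⁻¹) * p))⁻¹ := by group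
        _ = (p * (x * p * x⁻¹) * (x⁻¹ * p * x))⁻¹ := by
          rw [(hcA _ hp' p hp).eq, (hcA _ hp'' _ (A.mul_mem hp hp')).eq]
        _ = 1 := by rw [ep, inv_one]
  refine ⟨A, haA, hcA, hI, fun r hr hrx => ?_⟩
  have e1 : x * r * x⁻¹ = r := by rw [← hrx.eq, mul_inv_cancel_right]
  have e2 : x⁻¹ * r * x = r := by rw [mul_assoc, hrx.eq, inv_mul_cancel_left]
  have hr3 := hprodA r hr
  rw [e1, e2] at hr3
  obtain ⟨i, hi, v, hv, e⟩ := H.cent r hrx
  have hv1 : v = 1 := by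
    rw [← H.cube hi hv, ← e, pow_succ, pow_two]; exact hr3
  rw [hv1, mul_one] at e
  by_contra hr1
  have hxA : x ∈ A := by
    rcases H.mem_three hi with e' | e' | e'
    · exact absurd (e.trans e') hr1
    · rw [← e', ← e]; exact hr
    · rw [← inv_inv x, ← e', ← e]; exact A.inv_mem hr
  have hax : a' = a := by rw [ha', ← (hcA a haA x hxA).eq, mul_inv_cancel_right]
  have hax' : x⁻¹ * a * x = a := by rw [mul_assoc, (hcA a haA x hxA).eq, inv_mul_cancel_left]
  rw [hax, hax'] at hprod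
  have ho : orderOf a ∣ 3 := orderOf_dvd_of_pow_eq_one (by rw [pow_succ, pow_two]; exact hprod)
  rcases (Nat.dvd_prime Nat.prime_three).1 ho with e' | e'
  · have ha1 := orderOf_eq_one_iff.1 e'
    have hb : A = ⊥ := by
      rw [hA, hax, ha1]; simp
    exact H.ne_one (mem_bot.1 (hb ▸ hxA))
  · exact h3 e'.symm.dvd

/-- An abelian invariant subgroup without fixed points is a two-group or of odd order. -/
theorem Endgame.two_or_odd (E : Endgame x V τ F h s k) (hA : Fpf x A) (hc : ∀ p ∈ A, ∀ q ∈ A, Commute p q) :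
    IsPGroup 2 A ∨ ¬ 2 ∣ Nat.card A := by
  by_cases h2 : 2 ∣ Nat.card A
  · left
    haveI : Fact (Nat.Prime 2) := ⟨Nat.prime_two⟩
    let T : Subgroup G :=
      { carrier := {r | r ∈ A ∧ r * r = 1}
        one_mem' := ⟨A.one_mem, one_mul 1⟩
        mul_mem' := fun {p q} hp hq => ⟨A.mul_mem hp.1 hq.1, by
          rw [show p * q * (p * q) = p * (q * p) * q by group, (hc q hq.1 p hp.1).eq,
            show p * (p * q) * q = p * p * (q * q) by group, hp.2, hq.2, one_mul]⟩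
        inv_mem' := fun {p} hp => ⟨A.inv_mem hp.1, by rw [← mul_inv_rev, hp.2, inv_one]⟩ }
    obtain ⟨z, hz⟩ := exists_prime_orderOf_dvd_card' (G := A) 2 h2
    rw [← Subgroup.orderOf_coe] at hz
    have hzT : (z : G) ∈ T := ⟨z.2, by rw [← pow_two, ← hz]; exact pow_orderOf_eq_one _⟩
    refine E.invariant_two (T := T) (fun r => ⟨1, Subtype.ext (by simpa [pow_two] using r.2.2)⟩) (fun e => ?_)
      (fun r hr => ⟨hA.inv r hr.1, by
        rw [show x * r * x⁻¹ * (x * r * x⁻¹) = x * (r * r) * x⁻¹ by group, hr.2]; group⟩)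
      (fun p hp => Cfsg.Lib.Coprime.mem_normalizer_of_conj_mem
        (fun r hr => by rw [(hc p hp r hr.1).eq, mul_inv_cancel_right]; exact hr)
        (fun r hr => by rw [mul_assoc, (hc r hr.1 p hp).eq, inv_mul_cancel_left]; exact hr))
      hA.inv (hA.p3 E.setting.hyp)
    rw [e, mem_bot] at hzT
    rw [hzT, orderOf_one] at hz
    omega
  · exact Or.inr h2

theorem card_mul_two_pow_dvd {W : Subgroup G} (hW : IsPGroup 2 W) :
    Nat.card W ∣ 2 ^ (Nat.card G).factorization 2 := by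
  haveI : Fact (Nat.Prime 2) := ⟨Nat.prime_two⟩
  obtain ⟨S, hS⟩ := hW.exists_le_sylow
  rw [← S.card_eq_multiplicity]
  exact card_dvd_of_le hS

/-- The extension by an inverting involution. -/
theorem card_sup_tau (H : Hyp x V) (hI : Inv x M) (h2 : IsPGroup 2 M) {σ : G} (hσ : Tau x V σ)
    (hσn : σ ∈ normalizer (M : Set G)) :
    Nat.card (M ⊔ zpowers σ : Subgroup G) = 2 * Nat.card M ∧ IsPGroup 2 (M ⊔ zpowers σ : Subgroup G) := by
  haveI : Fact (Nat.Prime 2) := ⟨Nat.prime_two⟩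
  have hn : zpowers σ ≤ normalizer (M : Set G) := zpowers_le.2 hσn
  have hinf : M ⊓ zpowers σ = ⊥ := eq_bot_iff.2 fun g hg => mem_bot.2 (by
    rcases hσ.mem_zpowers hg.2 with e | e
    · exact e
    · exact absurd (e ▸ hg.1) (hσ.not_mem_of_inv H hI (P3.of_two h2)))
  have hc := Cfsg.Lib.Coprime.card_sup_mul_card_inf hn
  rw [hinf, card_bot, mul_one, hσ.card_zpowers H, mul_comm] at hc
  obtain ⟨n, hn'⟩ := IsPGroup.iff_card.1 h2
  exact ⟨hc, IsPGroup.of_card (n := n + 1) (by rw [hc, hn', pow_succ, mul_comm])⟩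

theorem eq_of_two_pow_dvd_mul {W : Subgroup G} {M : Subgroup G} (hW : IsPGroup 2 W) (hle : M ≤ W) {c : ℕ}
    (hc : c.Coprime 2) (hd : Nat.card W ∣ c * Nat.card M) : W = M := by
  haveI : Fact (Nat.Prime 2) := ⟨Nat.prime_two⟩
  obtain ⟨n, hn⟩ := IsPGroup.iff_card.1 hW
  refine (Subgroup.eq_of_le_of_card_ge hle (Nat.le_of_dvd Nat.card_pos ?_)).symm
  rw [hn] at hd ⊢
  exact (Nat.Coprime.pow_left n hc.symm).dvd_of_dvd_mul_left hd

/-- The two kinds of maximal invariant two-groups without fixed points. -/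
theorem Endgame.fpf_cases (E : Endgame x V τ F h s k) (hM : Max2 x M) (hV : M ⊓ V = ⊥) :
    (Nat.card M = 2 ^ (Nat.card G).factorization 2 ∧ Nat.card M * Nat.card M ≤ Nat.card G) ∨
      (2 * Nat.card M = 2 ^ (Nat.card G).factorization 2 ∧ ∃ σ ∈ normalizer (M : Set G), Tau x V σ) := by
  haveI : Fact (Nat.Prime 2) := ⟨Nat.prime_two⟩
  have H := E.setting.hyp
  have ht := E.toFull.toCtx.tau
  rcases hM.normalizer_cases E with ⟨hN, hinv⟩ | ⟨hN, σ, hσn, hσ⟩
  · left
    obtain ⟨S, hMS⟩ := hM.two.exists_le_sylow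
    have hSM : (S : Subgroup G) = M := by
      by_contra hne
      obtain ⟨n, hnS, hnM, hnn⟩ := exists_normalizing S.2 hMS (Ne.symm hne)
      have := eq_of_two_pow_dvd_mul (W := (S : Subgroup G) ⊓ normalizer (M : Set G)) (M := M)
        (IsPGroup.to_le S.2 inf_le_left) (le_inf hMS le_normalizer) (c := 3) (by norm_num)
        (hN ▸ card_dvd_of_le inf_le_right)
      exact hnM (this ▸ mem_inf.2 ⟨hnS, hnn⟩)
    refine ⟨by rw [← hSM]; exact S.card_eq_multiplicity, ?_⟩
    have hne : conjMap τ M ≠ M := fun e => ht.not_mem_of_inv H hM.inv (P3.of_two hM.two)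
      (hinv τ (Cfsg.Lib.Coprime.conjMap_eq_self_iff.1 e) ht.sq)
    have hbot : M ⊓ conjMap τ M = ⊥ := by
      by_contra hb
      exact hne (E.max2_unique hM (hM.conj H ht.conj_mem_zpowers) hb).symm
    have h1 := card_inf_ge (A := M) (B := conjMap τ M) (C := ⊤) le_top le_top
    rwa [hbot, card_bot, one_mul, Cfsg.Lib.Coprime.card_conjMap, card_top] at h1
  · right
    refine ⟨?_, σ, hσn, hσ⟩
    obtain ⟨hUc, hU2⟩ := card_sup_tau H hM.inv hM.two hσ hσn
    obtain ⟨S, hUS⟩ := hU2.exists_le_sylow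
    have hSU : (S : Subgroup G) = M ⊔ zpowers σ := by
      by_contra hne
      obtain ⟨n, hnS, hnU, hnn⟩ := exists_normalizing S.2 hUS (Ne.symm hne)
      have hnM : n ∈ normalizer (M : Set G) := Cfsg.Lib.Coprime.conjMap_eq_self_iff.1
        (E.sibling hM hM hV hV hσ hσ hσn hσn (Cfsg.Lib.Coprime.conjMap_eq_self hnn) rfl)
      have := eq_of_two_pow_dvd_mul (W := (S : Subgroup G) ⊓ normalizer (M : Set G)) (M := M ⊔ zpowers σ)
        (IsPGroup.to_le S.2 inf_le_left) (le_inf hUS (sup_le le_normalizer (zpowers_le.2 hσn))) (c := 3)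
        (by norm_num) (by
          rw [hUc, show 3 * (2 * Nat.card M) = 6 * Nat.card M by ring, ← hN]
          exact card_dvd_of_le inf_le_right)
      exact hnU (this ▸ mem_inf.2 ⟨hnS, hnM⟩)
    rw [← hUc, ← hSU]; exact S.card_eq_multiplicity

theorem Endgame.card_fpf_max (E : Endgame x V τ F h s k) (hM : Max2 x M) (hV : M ⊓ V = ⊥) (hM' : Max2 x M')
    (hV' : M' ⊓ V = ⊥) : Nat.card M = Nat.card M' := by
  have H := E.setting.hyp
  obtain ⟨i, hi⟩ := card_two_pow_four H hM.two hM.inv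
  obtain ⟨j, hj⟩ := card_two_pow_four H hM'.two hM'.inv
  rw [hV, card_bot, one_mul] at hi
  rw [hV', card_bot, one_mul] at hj
  have key : ∀ i j : ℕ, 4 ^ i ≠ 2 * 4 ^ j := fun i j e => by
    have e' : (2 : ℕ) ^ (2 * i) = 2 ^ (2 * j + 1) := by
      rw [pow_succ (2 : ℕ) (2 * j), pow_mul, pow_mul]; norm_num; linarith
    have := Nat.pow_right_injective le_rfl e'
    omega
  rcases E.fpf_cases hM hV with ⟨e, -⟩ | ⟨e, -⟩ <;> rcases E.fpf_cases hM' hV' with ⟨e', -⟩ | ⟨e', -⟩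
  · omega
  · exact absurd (hi ▸ hj ▸ e.trans e'.symm) (key i j)
  · exact absurd (hi ▸ hj ▸ e'.trans e.symm) (key j i)
  · omega

/-- Maximal invariant two-groups without fixed points are conjugate under the normaliser of `⟨x⟩`. -/
theorem Endgame.exists_conj_fpf (E : Endgame x V τ F h s k) (hM : Max2 x M) (hV : M ⊓ V = ⊥) (hM' : Max2 x M')
    (hV' : M' ⊓ V = ⊥) : ∃ n : G, n * x * n⁻¹ ∈ zpowers x ∧ conjMap n M = M' := by
  haveI : Fact (Nat.Prime 2) := ⟨Nat.prime_two⟩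
  have H := E.setting.hyp
  have hcc := E.card_fpf_max hM hV hM' hV'
  obtain ⟨a, ha⟩ : ∃ a, conjMap a M = M' := by
    rcases E.fpf_cases hM hV with ⟨e, -⟩ | ⟨e, σ, hσn, hσ⟩
    · obtain ⟨a, ha⟩ := MulAction.exists_smul_eq G (Sylow.ofCard M e) (Sylow.ofCard M' (hcc ▸ e))
      refine ⟨a, ?_⟩
      have := congrArg (fun S : Sylow 2 G => (S : Subgroup G)) ha
      simpa [Sylow.coe_subgroup_smul, Cfsg.Lib.Coprime.conj_smul_eq] using this
    · rcases E.fpf_cases hM' hV' with ⟨e', -⟩ | ⟨e', σ', hσn', hσ'⟩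
      · exfalso
        have := Nat.card_pos (α := M)
        omega
      obtain ⟨a, ha⟩ := MulAction.exists_smul_eq G
        (Sylow.ofCard (M ⊔ zpowers σ) ((card_sup_tau H hM.inv hM.two hσ hσn).1.trans e))
        (Sylow.ofCard (M' ⊔ zpowers σ') ((card_sup_tau H hM'.inv hM'.two hσ' hσn').1.trans e'))
      refine ⟨a, E.sibling hM hM' hV hV' hσ hσ' hσn hσn' ?_ hcc⟩
      have := congrArg (fun S : Sylow 2 G => (S : Subgroup G)) ha
      simpa [Sylow.coe_subgroup_smul, Cfsg.Lib.Coprime.conj_smul_eq] using this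
  have hy : a * x * a⁻¹ ∈ normalizer (M' : Set G) := by
    rw [← ha, Cfsg.Lib.Coprime.normalizer_conjMap, mem_conjMap,
      show a⁻¹ * (a * x * a⁻¹) * a = x by group]
    exact inv_mem_normalizer H hM.inv
  obtain ⟨b, hb, hbx⟩ := H.exists_conj_three (inv_mem_normalizer H hM'.inv) hy (by
    rw [show a * x * a⁻¹ = MulAut.conj a x from rfl, MulEquiv.orderOf_eq, H.ord])
  refine ⟨b * a, ?_, by rw [← Cfsg.Lib.Coprime.conjMap_mul, ha, Cfsg.Lib.Coprime.conjMap_eq_self hb]⟩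
  rwa [show b * a * x * (b * a)⁻¹ = b * (a * x * a⁻¹) * b⁻¹ by group]

/-- The conjugates of an invariant subgroup under the normaliser of `⟨x⟩`. -/
theorem Tau.conj_orbit (ht : Tau x V τ) (H : Hyp x V) (hI : Inv x M) {n : G} (hn : n * x * n⁻¹ ∈ zpowers x) :
    ∃ w ∈ V, conjMap n M = conjMap w M ∨ conjMap n M = conjMap (τ * w) M := by
  have key : ∀ i ∈ zpowers x, ∀ w ∈ V, conjMap (i * w) M = conjMap w M := fun i hi w hw => by
    obtain ⟨j, rfl⟩ := mem_zpowers_iff.1 hi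
    rw [((H.comm w hw).zpow_right j).symm.eq, ← Cfsg.Lib.Coprime.conjMap_mul,
      Cfsg.Lib.Coprime.conjMap_eq_self (inv_zpowers_le H hI hi)]
  rcases H.mem_three hn with e | e | e
  · exact absurd (conj_eq_one_iff.1 e) H.ne_one
  · obtain ⟨i, hi, w, hw, rfl⟩ := H.cent n (mul_inv_eq_iff_eq_mul.1 e)
    exact ⟨w, hw, Or.inl (key i hi w hw)⟩
  · obtain ⟨i, hi, w, hw, rfl⟩ := ht.mem_coset H e
    exact ⟨w, hw, Or.inr (by rw [← Cfsg.Lib.Coprime.conjMap_mul, key i hi w hw, Cfsg.Lib.Coprime.conjMap_mul])⟩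

theorem ncard_image_V (f : G → Subgroup G) : (f '' (V : Set G)).ncard ≤ Nat.card V :=
  (Set.ncard_image_le (Set.toFinite _)).trans (Nat.card_coe_set_eq (V : Set G)).ge

theorem ncard_conj_orbit (ht : Tau x V τ) (H : Hyp x V) (hI : Inv x M) {ℳ : Set (Subgroup G)}
    (hℳ : ∀ M' ∈ ℳ, ∃ n : G, n * x * n⁻¹ ∈ zpowers x ∧ conjMap n M = M') : ℳ.ncard ≤ 2 * Nat.card V := by
  refine (Set.ncard_le_ncard (t := (fun w => conjMap w M) '' (V : Set G) ∪
    (fun w => conjMap (τ * w) M) '' (V : Set G)) (fun M' hM' => ?_) (Set.toFinite _)).trans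
    ((Set.ncard_union_le _ _).trans ((add_le_add (ncard_image_V _) (ncard_image_V _)).trans (two_mul _).ge))
  obtain ⟨n, hn, rfl⟩ := hℳ M' hM'
  obtain ⟨w, hw, e | e⟩ := ht.conj_orbit H hI hn
  · exact Or.inl ⟨w, hw, e.symm⟩
  · exact Or.inr ⟨w, hw, e.symm⟩

/-- The number of nontrivial solutions in maximal invariant two-groups. -/
theorem Endgame.two_count (E : Endgame x V τ F h s k) :
    {a ∈ triangle x | a ≠ 1 ∧ ∃ M : Subgroup G, Max2 x M ∧ a ∈ M}.ncard ≤
      pureBound (Nat.card G) (Nat.card V) := by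
  classical
  haveI : Fact (Nat.Prime 2) := ⟨Nat.prime_two⟩
  have H := E.setting.hyp
  have ht := E.toFull.toCtx.tau
  obtain ⟨P, hP, hVP, hτP, hall⟩ := E.exists_pv
  set S := 2 ^ (Nat.card G).factorization 2 with hS
  have hPS : Nat.card P ≤ S / 2 := by
    obtain ⟨hc, h2⟩ := card_sup_tau H hP.inv hP.two ht hτP
    have := Nat.le_of_dvd (pow_pos (by norm_num) _) (card_mul_two_pow_dvd h2)
    rw [hc] at this
    omega
  set ℱ := {M : Subgroup G | Max2 x M ∧ M ⊓ V = ⊥}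
  have hℱf : ℱ.Finite := Set.toFinite _
  have hsub : {a ∈ triangle x | a ≠ 1 ∧ ∃ M : Subgroup G, Max2 x M ∧ a ∈ M} ⊆
      ((P : Set G) \ {1}) ∪ ⋃ M ∈ hℱf.toFinset, ((M : Set G) \ {1}) := by
    rintro a ⟨-, ha1, M, hM, haM⟩
    by_cases hV : M ⊓ V = ⊥
    · exact Or.inr (Set.mem_iUnion₂.2 ⟨M, hℱf.mem_toFinset.2 ⟨hM, hV⟩, haM, ha1⟩)
    · exact Or.inl ⟨hall M hM.two hM.inv hV haM, ha1⟩
  have hone : ∀ M : Subgroup G, ((M : Set G) \ {1}).ncard = Nat.card M - 1 := fun M => by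
    rw [Set.ncard_sdiff_singleton_of_mem M.one_mem, ← Nat.card_coe_set_eq]; rfl
  have hcount : {a ∈ triangle x | a ≠ 1 ∧ ∃ M : Subgroup G, Max2 x M ∧ a ∈ M}.ncard ≤
      S / 2 + ∑ M ∈ hℱf.toFinset, (Nat.card M - 1) := by
    refine ((Set.ncard_le_ncard hsub (Set.toFinite _)).trans (Set.ncard_union_le _ _)).trans
      (add_le_add ((hone P).trans_le (by omega)) ?_)
    refine (Finset.set_ncard_biUnion_le _ _).trans (le_of_eq ?_)
    exact Finset.sum_congr rfl fun M _ => hone M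
  refine hcount.trans ?_
  show _ ≤ if S * S ≤ Nat.card G then max ((Nat.card V + 1) * S / 2) (2 * Nat.card V * S + S / 2)
    else (Nat.card V + 1) * S / 2
  rcases hℱf.toFinset.eq_empty_or_nonempty with e | ⟨M, hM⟩
  · rw [e, Finset.sum_empty, add_zero]
    have h1 : S / 2 ≤ (Nat.card V + 1) * S / 2 :=
      Nat.div_le_div_right (Nat.le_mul_of_pos_left _ (Nat.succ_pos _))
    split
    · exact h1.trans (le_max_left _ _)
    · exact h1
  obtain ⟨hM, hMV⟩ := hℱf.mem_toFinset.1 hM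
  have hsum : ∑ M' ∈ hℱf.toFinset, (Nat.card M' - 1) ≤ ℱ.ncard * Nat.card M := by
    rw [Set.ncard_eq_toFinset_card ℱ hℱf, ← smul_eq_mul]
    refine Finset.sum_le_card_nsmul _ _ _ fun M' hM' => ?_
    obtain ⟨hM', hMV'⟩ := hℱf.mem_toFinset.1 hM'
    rw [E.card_fpf_max hM hMV hM' hMV']
    exact Nat.sub_le _ _
  have horb : ∀ M' ∈ ℱ, ∃ n : G, n * x * n⁻¹ ∈ zpowers x ∧ conjMap n M = M' := fun M' hM' =>
    E.exists_conj_fpf hM hMV hM'.1 hM'.2
  rcases E.fpf_cases hM hMV with ⟨e, hsq⟩ | ⟨e, σ, hσn, hσ⟩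
  · rw [← hS] at e
    rw [e] at hsum hsq
    rw [if_pos hsq]
    refine (Nat.add_le_add_left hsum _).trans (le_max_of_le_right ?_)
    have := Nat.mul_le_mul_right S (ncard_conj_orbit ht H hM.inv horb)
    omega
  · rw [← hS] at e
    obtain ⟨i, hi, w₀, hw₀, e₀⟩ := ht.mem_coset H hσ.conj
    have h0 : conjMap (τ * w₀) M = M := by
      obtain ⟨j, rfl⟩ := mem_zpowers_iff.1 hi
      have e1 : σ = τ * w₀ * x ^ j := by rw [e₀, ((H.comm w₀ hw₀).zpow_right j).symm.eq, mul_assoc]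
      have h1 := Cfsg.Lib.Coprime.conjMap_eq_self hσn
      rwa [e1, ← Cfsg.Lib.Coprime.conjMap_mul,
        Cfsg.Lib.Coprime.conjMap_eq_self (inv_zpowers_le H hM.inv (zpow_mem (mem_zpowers x) j))] at h1
    have hle : ℱ.ncard ≤ Nat.card V := by
      refine (Set.ncard_le_ncard (t := (fun w => conjMap w M) '' (V : Set G)) (fun M' hM' => ?_)
        (Set.toFinite _)).trans (ncard_image_V _)
      obtain ⟨n, hn, rfl⟩ := horb M' hM'
      obtain ⟨w, hw, e' | e'⟩ := ht.conj_orbit H hM.inv hn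
      · exact ⟨w, hw, e'.symm⟩
      · refine ⟨w * w₀, V.mul_mem hw hw₀, ?_⟩
        rw [e']
        show conjMap (w * w₀) M = _
        conv_lhs => rw [← h0, Cfsg.Lib.Coprime.conjMap_mul]
        congr 1
        calc w * w₀ * (τ * w₀) = w * (w₀ * τ) * w₀ := by group
          _ = w * τ * (w₀ * w₀) := by rw [(ht.fix w₀ hw₀).symm.eq]; group
          _ = τ * w := by rw [H.sq w₀ hw₀, mul_one, (ht.fix w hw).eq]
    have hfin : S / 2 + ℱ.ncard * Nat.card M ≤ (Nat.card V + 1) * S / 2 := by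
      have h1 : (Nat.card V + 1) * S / 2 = (Nat.card V + 1) * Nat.card M := by
        rw [← e, Nat.mul_left_comm, Nat.mul_div_cancel_left _ (by norm_num)]
      have h2 : S / 2 = Nat.card M := by omega
      rw [h1, h2]
      nlinarith [Nat.mul_le_mul_right (Nat.card M) hle]
    refine (Nat.add_le_add_left hsum _).trans ?_
    split
    · exact hfin.trans (le_max_left _ _)
    · exact hfin

end Cfsg.Lib.ThreeFour
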