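import Cfsg.Agent.ThreeFour.Local.Counting
import Cfsg.Agent.ThreeFour.Local.ChiefFactor

/-!
A four-group of operators permuted by `x` centralises a group of odd order on which `x` has no fixed points,
abelian or not.
-/

set_option autoImplicit false
set_option linter.unusedSectionVars false
set_option linter.style.haveILetI false

namespace Cfsg.Lib.ThreeFour

open Subgroup
open Cfsg.Lib.SelfCentThree (Inv P3)
open scoped IsMulCommutative commutatorElement

universe u

variable {G : Type u} [Group G] [Finite G] {x : G} {V R : Subgroup G} {f : G}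

/-- The centre of `R` as a subgroup of the whole group. -/
abbrev centerIn (R : Subgroup G) : Subgroup G := (center R).map R.subtype

/-- Modulo the centre an involutory operator with trivial product of conjugates is trivial. -/
theorem Fpf.commutator_mem_center (h : Hyp x V) (hR : Fpf x R) (hR2 : ¬ 2 ∣ Nat.card R)
    (hf : f ∈ normalizer (R : Set G)) (hff : ∀ r ∈ R, f * f * r * (f * f)⁻¹ = r)
    (hp : ∀ r ∈ R, f * (x * f * x⁻¹) * (x⁻¹ * f * x) * r * (f * (x * f * x⁻¹) * (x⁻¹ * f * x))⁻¹ = r) :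
    ∀ r ∈ R, f * r * f⁻¹ * r⁻¹ ∈ centerIn R := by
  classical
  set Z := centerIn R with hZ
  set N := normalizer (R : Set G) with hN
  have hNZ : N ≤ normalizer (Z : Set G) := normalizer_le_char (center R)
  haveI : (Z.subgroupOf R).Normal :=
    (normal_subgroupOf_iff_le_normalizer (map_subtype_le _)).2 (le_normalizer.trans hNZ)
  haveI hcomm : IsMulCommutative (Factor Z R) := by
    refine ⟨⟨fun a b => ?_⟩⟩
    obtain ⟨a, rfl⟩ := QuotientGroup.mk_surjective a
    obtain ⟨b, rfl⟩ := QuotientGroup.mk_surjective b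
    rw [← QuotientGroup.mk_mul, ← QuotientGroup.mk_mul, QuotientGroup.eq, mem_subgroupOf]
    refine ⟨(a * b)⁻¹ * (b * a), mem_center_iff.2 fun c => ?_, rfl⟩
    rw [show (a * b)⁻¹ * (b * a) = ⁅b⁻¹, a⁻¹⁆ by rw [commutatorElement_def]; group]
    refine Subtype.ext ?_
    exact (hR.class_two h (R.inv_mem b.2) (R.inv_mem a.2) c.2).symm.eq
  let act : N →* AddMonoid.End (Additive (Factor Z R)) :=
    (toEnd (Factor Z R)).comp (factorAct hNZ (le_refl N))
  have happ : ∀ (g : N) (d : R), act g (Additive.ofMul (QuotientGroup.mk d)) =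
      Additive.ofMul (QuotientGroup.mk (R.normalizerMonoidHom g d)) := fun _ _ => rfl
  have hext : ∀ g g' : N, (∀ r ∈ R, (g : G) * r * (g : G)⁻¹ = g' * r * (g' : G)⁻¹) → act g = act g' :=
    fun g g' e => AddMonoidHom.ext fun w => by
      obtain ⟨d, hd⟩ := QuotientGroup.mk_surjective w.toMul
      obtain rfl : w = Additive.ofMul (QuotientGroup.mk d) := by rw [hd]; rfl
      exact (happ g d).trans ((congrArg (fun q : R => Additive.ofMul (QuotientGroup.mk q : Factor Z R))
        (Subtype.ext (e d d.2))).trans (happ g' d).symm)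
  set xe : N := ⟨x, inv_mem_normalizer h hR.inv⟩ with hxe
  set a : N := ⟨f, hf⟩ with ha
  set X := act xe
  set E := act a with hE
  set E' := act (xe * a * xe⁻¹)
  set E'' := act (xe⁻¹ * a * xe)
  have h1 : E * E = 1 := by
    rw [hE, ← map_mul, ← map_one act]
    refine hext _ _ fun r hr => ?_
    show f * f * r * (f * f)⁻¹ = 1 * r * (1 : G)⁻¹
    rw [hff r hr]; simp
  have h2 : E' * E' = 1 := by
    rw [← map_mul, show xe * a * xe⁻¹ * (xe * a * xe⁻¹) = xe * (a * a) * xe⁻¹ by group, map_mul, map_mul,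
      map_mul act a a, h1, mul_one, ← map_mul, mul_inv_cancel, map_one]
  have h3 : E'' * E'' = 1 := by
    rw [← map_mul, show xe⁻¹ * a * xe * (xe⁻¹ * a * xe) = xe⁻¹ * (a * a) * xe by group, map_mul, map_mul,
      map_mul act a a, h1, mul_one, ← map_mul, inv_mul_cancel, map_one]
  have hc3 : xe * xe * xe = 1 := Subtype.ext (by show x * x * x = 1; rw [h.mul_self, inv_mul_cancel])
  have hxi : xe * xe = xe⁻¹ := eq_inv_of_mul_eq_one_left hc3
  have c1 : X * E = E' * X := by rw [← map_mul, ← map_mul]; exact congrArg _ (by group)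
  have c2 : X * E' = E'' * X := by
    rw [← map_mul, ← map_mul]
    refine congrArg _ ?_
    rw [← mul_assoc, ← mul_assoc, hxi, mul_assoc (xe⁻¹ * a) xe xe, hxi]
  have c3 : X * E'' = E * X := by rw [← map_mul, ← map_mul]; exact congrArg _ (by group)
  have hprod : E * E' * E'' = 1 := by
    rw [← map_mul, ← map_mul, ← map_one act]
    refine hext _ _ fun r hr => ?_
    show f * (x * f * x⁻¹) * (x⁻¹ * f * x) * r * (f * (x * f * x⁻¹) * (x⁻¹ * f * x))⁻¹ = 1 * r * (1 : G)⁻¹
    rw [hp r hr]; simp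
  have p : E * E' = E'' := by
    calc E * E' = E * E' * (E'' * E'') := by rw [h3, mul_one]
      _ = E'' := by rw [← mul_assoc, hprod, one_mul]
  have hX : 1 + X + X * X = 0 := AddMonoidHom.ext fun w => by
    obtain ⟨d, hd⟩ := QuotientGroup.mk_surjective w.toMul
    rw [show w = Additive.ofMul (QuotientGroup.mk d) by rw [hd]; rfl]
    show Additive.ofMul (QuotientGroup.mk d) + act xe (Additive.ofMul (QuotientGroup.mk d)) +
      act xe (act xe (Additive.ofMul (QuotientGroup.mk d))) = (0 : Additive (Factor Z R))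
    rw [happ, happ, ← ofMul_mul, ← ofMul_mul, ← QuotientGroup.mk_mul, ← QuotientGroup.mk_mul]
    refine congrArg Additive.ofMul ((QuotientGroup.eq_one_iff _).2 ?_)
    rw [mem_subgroupOf]
    show (d : G) * (x * d * x⁻¹) * (x * (x * d * x⁻¹) * x⁻¹) ∈ Z
    rw [h.conj_conj, hR.prod_three h d.2]
    exact Z.one_mem
  have h4 := four_smul_eq hX h1 h2 h3 c1 c2 c3 p
  have hco : (Nat.card (Additive (Factor Z R))).Coprime 4 := by
    show (Nat.card (Factor Z R)).Coprime (2 ^ 2)
    exact Nat.Coprime.pow_right 2 (Nat.prime_two.coprime_iff_not_dvd.2 fun e =>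
      hR2 (e.trans (card_quotient_dvd_card _))).symm
  intro r hr
  have e : (4 : ℕ) • E (Additive.ofMul (QuotientGroup.mk ⟨r, hr⟩)) =
      (4 : ℕ) • Additive.ofMul (QuotientGroup.mk ⟨r, hr⟩ : Factor Z R) := by
    have e' := DFunLike.congr_fun h4 (Additive.ofMul (QuotientGroup.mk ⟨r, hr⟩ : Factor Z R))
    have hfour : ∀ v, (4 : AddMonoid.End (Additive (Factor Z R))) v = (4 : ℕ) • v :=
      fun v => AddMonoid.End.natCast_apply 4 v
    exact ((hfour _).symm.trans e').trans (hfour _)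
  have e2 : E (Additive.ofMul (QuotientGroup.mk ⟨r, hr⟩)) = Additive.ofMul (QuotientGroup.mk ⟨r, hr⟩ : Factor Z R) :=
    (nsmulCoprime hco).injective (show (nsmulCoprime hco) (E (Additive.ofMul (QuotientGroup.mk ⟨r, hr⟩))) =
      (nsmulCoprime hco) (Additive.ofMul (QuotientGroup.mk ⟨r, hr⟩ : Factor Z R)) from e)
  rw [hE, happ, Equiv.apply_eq_iff_eq, eq_comm, QuotientGroup.eq,
    Subgroup.Normal.mem_comm_iff (H := Z.subgroupOf R) inferInstance, mem_subgroupOf] at e2
  exact e2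

/-- The same for an abelian group, with hypotheses on the action only. -/
theorem Fpf.centralizes_abelian (h : Hyp x V) {W : Subgroup G} [IsMulCommutative W] (hW : Fpf x W)
    (hW2 : ¬ 2 ∣ Nat.card W) (hf : f ∈ normalizer (W : Set G)) (hff : ∀ r ∈ W, f * f * r * (f * f)⁻¹ = r)
    (hp : ∀ r ∈ W, f * (x * f * x⁻¹) * (x⁻¹ * f * x) * r * (f * (x * f * x⁻¹) * (x⁻¹ * f * x))⁻¹ = r)
    {w : G} (hw : w ∈ W) : f * w * f⁻¹ = w := by
  rcases pm_of_four h hW hW2 hf (Or.inl hff) hff (Or.inl hp) with e | e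
  · exact e w hw
  have hc : ∀ v ∈ W, (x * f * x⁻¹) * v * (x * f * x⁻¹)⁻¹ = v⁻¹ := fun v hv => by
    rw [show (x * f * x⁻¹) * v * (x * f * x⁻¹)⁻¹ = x * (f * (x⁻¹ * v * x) * f⁻¹) * x⁻¹ by group,
      e _ (inv_back h hW.inv hv)]
    group
  have hc' : ∀ v ∈ W, (x⁻¹ * f * x) * v * (x⁻¹ * f * x)⁻¹ = v⁻¹ := fun v hv => by
    rw [show (x⁻¹ * f * x) * v * (x⁻¹ * f * x)⁻¹ = x⁻¹ * (f * (x * v * x⁻¹) * f⁻¹) * x by group,
      e _ (hW.inv v hv)]
    group
  have h7 := hp w hw
  rw [show ∀ a b c : G, a * b * c * w * (a * b * c)⁻¹ = a * (b * (c * w * c⁻¹) * b⁻¹) * a⁻¹ from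
    fun a b c => by group, hc' w hw, hc _ (inv_mem hw), inv_inv, e w hw] at h7
  exact (e w hw).trans h7

/-- A four-group of operators permuted by `x` centralises. -/
theorem Fpf.centralizes_four (h : Hyp x V) (hR : Fpf x R) (hR2 : ¬ 2 ∣ Nat.card R)
    (hf : f ∈ normalizer (R : Set G)) {n : ℕ} (hn : f ^ 2 ^ n = 1) (hff : ∀ r ∈ R, f * f * r * (f * f)⁻¹ = r)
    (hp : ∀ r ∈ R, f * (x * f * x⁻¹) * (x⁻¹ * f * x) * r * (f * (x * f * x⁻¹) * (x⁻¹ * f * x))⁻¹ = r) :
    f ∈ centralizer (R : Set G) := by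
  set Z := centerIn R with hZ
  have hZR : Z ≤ R := map_subtype_le _
  haveI : IsMulCommutative Z := ⟨⟨fun a b => by
    obtain ⟨_, a, ha, rfl⟩ := a
    obtain ⟨_, b, -, rfl⟩ := b
    exact Subtype.ext (congrArg Subtype.val (mem_center_iff.1 ha b)).symm⟩⟩
  have hZn : normalizer (R : Set G) ≤ normalizer (Z : Set G) := normalizer_le_char _
  have hZI : Inv x Z := SelfCentThree.inv_of_mem_normalizer (hZn (inv_mem_normalizer h hR.inv))
  have h1 : f ∈ centralizer (Z : Set G) := mem_centralizer_iff.2 fun z hz =>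
    (mul_inv_eq_iff_eq_mul.1 (Fpf.centralizes_abelian h (hR.anti hZI hZR) (fun e => hR2 (e.trans (card_dvd_of_le hZR)))
      (hZn hf) (fun r hr => hff r (hZR hr)) (fun r hr => hp r (hZR hr)) hz)).symm
  have h2 := Fpf.commutator_mem_center h hR hR2 hf hff hp
  -- the commutator map is a homomorphism on the powers of `f`
  intro r hr
  have hc : ∀ m : ℕ, f ^ m * r * (f ^ m)⁻¹ = (f * r * f⁻¹ * r⁻¹) ^ m * r := fun m => by
    induction m with
    | zero => simp
    | succ m ih =>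
      have hfz : Commute f ((f * r * f⁻¹ * r⁻¹) ^ m) :=
        (show Commute f (f * r * f⁻¹ * r⁻¹) from ((mem_centralizer_iff.1 h1) _ (h2 r hr)).symm).pow_right m
      rw [pow_succ', show f * f ^ m * r * (f * f ^ m)⁻¹ = f * (f ^ m * r * (f ^ m)⁻¹) * f⁻¹ by group, ih, pow_succ]
      calc f * ((f * r * f⁻¹ * r⁻¹) ^ m * r) * f⁻¹ = f * (f * r * f⁻¹ * r⁻¹) ^ m * r * f⁻¹ := by group
        _ = (f * r * f⁻¹ * r⁻¹) ^ m * f * r * f⁻¹ := by rw [hfz.eq]
        _ = _ := by group
  have h3 := hc (2 ^ n)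
  rw [hn, one_mul, inv_one, mul_one] at h3
  have h4 : f * r * f⁻¹ * r⁻¹ = 1 := by
    rw [← orderOf_eq_one_iff]
    refine Nat.Coprime.eq_one_of_dvd ?_ (orderOf_dvd_of_pow_eq_one (mul_eq_right.1 h3.symm))
    exact Nat.Coprime.pow_right n (Nat.prime_two.coprime_iff_not_dvd.2 fun e => hR2
      (e.trans (Subgroup.orderOf_dvd_natCard R (hZR (h2 r hr))))).symm
  exact (mul_inv_eq_iff_eq_mul.1 (mul_inv_eq_one.1 h4)).symm

end Cfsg.Lib.ThreeFour
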