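import Cfsg.Agent.ThreeFour.Basic
import Cfsg.Agent.Small.OrdersOneToFour
import Cfsg.Agent.SolvStruct.NilpotentHall

/-!
Subgroups invariant under `x` on which `x` acts without fixed points.
-/

set_option autoImplicit false
set_option linter.unusedSectionVars false
set_option linter.style.haveILetI false

namespace Cfsg.Lib.ThreeFour

open Subgroup
open Cfsg.Lib.SelfCentThree (Inv P3)
open scoped commutatorElement

universe u

variable {G : Type u} [Group G] {x : G} {V R S : Subgroup G}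

/-- `R` is invariant under `x` and contains no nontrivial element commuting with `x`. -/
structure Fpf (x : G) (R : Subgroup G) : Prop where
  inv : Inv x R
  fix : ∀ r ∈ R, Commute r x → r = 1

theorem inv_back (h : Hyp x V) (hI : Inv x R) {r : G} (hr : r ∈ R) : x⁻¹ * r * x ∈ R := by
  rw [← h.conj_conj]; exact hI _ (hI r hr)

theorem inv_mem_normalizer (h : Hyp x V) (hI : Inv x R) : x ∈ normalizer (R : Set G) := by
  rw [mem_set_normalizer_iff]
  exact fun r => ⟨fun hr => hI r hr, fun hr => by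
    have := inv_back h hI hr
    rwa [show x⁻¹ * (x * r * x⁻¹) * x = r by group] at this⟩

theorem inv_zpowers_le (h : Hyp x V) (hI : Inv x R) : zpowers x ≤ normalizer (R : Set G) :=
  zpowers_le.2 (inv_mem_normalizer h hI)

theorem inv_of_le_normalizer (hx : zpowers x ≤ normalizer (R : Set G)) : Inv x R :=
  SelfCentThree.inv_of_mem_normalizer (hx (mem_zpowers x))

theorem inv_centralizer (h : Hyp x V) (hI : Inv x R) : Inv x (centralizer (R : Set G)) := by
  intro c hc
  rw [mem_centralizer_iff] at hc ⊢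
  intro r hr
  have h1 := hc _ (inv_back h hI hr)
  calc r * (x * c * x⁻¹) = x * ((x⁻¹ * r * x) * c) * x⁻¹ := by group
    _ = x * (c * (x⁻¹ * r * x)) * x⁻¹ := by rw [h1]
    _ = x * c * x⁻¹ * r := by group

theorem inv_normalizer (h : Hyp x V) (hI : Inv x R) : Inv x (normalizer (R : Set G)) := fun _ hc =>
  mul_mem (mul_mem (inv_mem_normalizer h hI) hc) (inv_mem (inv_mem_normalizer h hI))

theorem coprime_zpowers (h : Hyp x V) (hP : P3 R) : (Nat.card (zpowers x)).Coprime (Nat.card R) := by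
  rw [Nat.card_zpowers, h.ord]
  exact Nat.prime_three.coprime_iff_not_dvd.2 hP

theorem solvable_zpowers (x : G) : Group.IsSolvable (zpowers x) :=
  Group.isSolvable_of_comm fun a b => mul_comm' a b

/-- The fixed points of `x` in a subgroup of order prime to three lie in `V`. -/
theorem mem_V_of_fixed (h : Hyp x V) (hP : P3 R) {r : G} (hr : r ∈ R) (hc : Commute r x) : r ∈ V := by
  obtain ⟨i, hi, u, hu, rfl⟩ := h.cent r hc
  have h1 : (i * u) ^ 2 = i ^ 2 := by
    obtain ⟨k, rfl⟩ := mem_zpowers_iff.1 hi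
    rw [((h.comm u hu).symm.zpow_left k).mul_pow, pow_two u, h.sq u hu, mul_one]
  have h2 : i ^ 2 ∈ R := h1 ▸ pow_mem hr 2
  have h3 : i ^ 2 ∈ zpowers x := pow_mem hi 2
  have h4 : i ^ 3 = 1 := by
    obtain ⟨k, rfl⟩ := mem_zpowers_iff.1 hi
    rw [← zpow_natCast, ← zpow_mul, mul_comm, zpow_mul, zpow_natCast, h.pow3, one_zpow]
  have hi2 : i ^ 2 = 1 := by
    have ha : orderOf (i ^ 2) ∣ 3 := h.ord ▸ (by
      have := orderOf_dvd_natCard (⟨i ^ 2, h3⟩ : zpowers x)
      rwa [Subgroup.orderOf_mk, Nat.card_zpowers] at this)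
    rcases (Nat.dvd_prime Nat.prime_three).1 ha with e | e
    · exact orderOf_eq_one_iff.1 e
    · exact absurd (e ▸ Subgroup.orderOf_dvd_natCard R h2) hP
  have h5 : i = 1 := by
    calc i = i ^ 3 / i ^ 2 := by rw [pow_succ i 2, div_eq_mul_inv, hi2]; group
      _ = 1 := by rw [h4, hi2, div_one]
  rw [h5, one_mul]
  exact hu

theorem fpf_of (h : Hyp x V) (hI : Inv x R) (hP : P3 R) (hV : R ⊓ V = ⊥) : Fpf x R :=
  ⟨hI, fun r hr hc => mem_bot.1 (hV ▸ ⟨hr, mem_V_of_fixed h hP hr hc⟩)⟩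

theorem Fpf.inf_V (hR : Fpf x R) (h : Hyp x V) : R ⊓ V = ⊥ :=
  eq_bot_iff.2 fun r hr => mem_bot.2 (hR.fix r hr.1 (h.comm r hr.2))

theorem Fpf.anti (hR : Fpf x R) (hI : Inv x S) (hSR : S ≤ R) : Fpf x S :=
  ⟨hI, fun s hs => hR.fix s (hSR hs)⟩

/-- Conjugation by `x`. -/
def Fpf.hom (hR : Fpf x R) : R →* R where
  toFun r := ⟨x * r * x⁻¹, hR.inv r r.2⟩
  map_one' := Subtype.ext (by simp)
  map_mul' a b := Subtype.ext (by simp)

theorem Fpf.hom_fpf (hR : Fpf x R) : MonoidHom.FixedPointFree hR.hom := by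
  intro r hr
  refine Subtype.ext (hR.fix r r.2 ?_)
  have : x * (r : G) * x⁻¹ = r := congrArg Subtype.val hr
  exact (mul_inv_eq_iff_eq_mul.1 this).symm

theorem Fpf.hom_cube (hR : Fpf x R) (h : Hyp x V) : (hR.hom)^[3] = _root_.id := by
  funext r
  refine Subtype.ext ?_
  show x * (x * (x * (r : G) * x⁻¹) * x⁻¹) * x⁻¹ = r
  rw [h.conj_conj]; group

variable [Finite G]

theorem Fpf.isNilpotent (hR : Fpf x R) (h : Hyp x V) : Group.IsNilpotent R :=
  Cfsg.Lib.Thompson.isNilpotent_of_fpf hR.hom hR.hom_fpf Nat.prime_three (hR.hom_cube h)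

theorem Fpf.card_mod_three (hR : Fpf x R) (h : Hyp x V) : Nat.card R % 3 = 1 := by
  classical
  haveI := Fintype.ofFinite R
  haveI : Fact (Nat.Prime 3) := ⟨Nat.prime_three⟩
  let f : Function.End R := fun r => hR.hom r
  have hf : f ^ 3 ^ 1 = 1 := by
    funext r
    exact congrFun (hR.hom_cube h) r
  have h1 := Equiv.Perm.card_fixedPoints_modEq (p := 3) (n := 1) hf
  have h2 : ∀ r : R, r ∈ Function.fixedPoints f ↔ r = 1 := fun r =>
    ⟨fun hr => hR.hom_fpf r hr, fun hr => hr ▸ map_one hR.hom⟩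
  have h3 : Fintype.card (Function.fixedPoints f) = 1 :=
    Fintype.card_eq_one_iff.2 ⟨⟨1, (h2 1).2 rfl⟩, fun r => Subtype.ext ((h2 r.1).1 r.2)⟩
  rw [Nat.card_eq_fintype_card]
  rw [h3] at h1
  exact h1

theorem Fpf.p3 (hR : Fpf x R) (h : Hyp x V) : P3 R := fun h3 => by
  have := hR.card_mod_three h
  omega

theorem Fpf.prod_three (hR : Fpf x R) (h : Hyp x V) {a : G} (ha : a ∈ R) :
    a * (x * a * x⁻¹) * (x⁻¹ * a * x) = 1 := by
  have h1 := congrArg Subtype.val (hR.hom_fpf.prod_pow_eq_one (hR.hom_cube h) ⟨a, ha⟩)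
  have h2 : a * ((x * a * x⁻¹) * (x * (x * a * x⁻¹) * x⁻¹)) = 1 := by
    simpa [List.range_succ, Fpf.hom, mul_assoc] using h1
  rw [← h.conj_conj, mul_assoc]
  exact h2

theorem Fpf.comm_self (hR : Fpf x R) (h : Hyp x V) {a : G} (ha : a ∈ R) : Commute a (x * a * x⁻¹) := by
  have h1 : a * (x * a * x⁻¹) * (x⁻¹ * a * x) = 1 := hR.prod_three h ha
  have h2 : a⁻¹ * (x * a * x⁻¹)⁻¹ * (x⁻¹ * a * x)⁻¹ = 1 := by
    rw [← hR.prod_three h (R.inv_mem ha)]; group
  rw [eq_inv_of_mul_eq_one_right h1, inv_inv] at h2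
  set a' := x * a * x⁻¹
  show a * a' = a' * a
  calc a * a' = (a' * a) * (a⁻¹ * a'⁻¹ * (a * a')) := by group
    _ = a' * a := by rw [h2, mul_one]

/-- Commuting elements commute with each other's conjugates under `x`. -/
theorem Fpf.comm_conj (hR : Fpf x R) (h : Hyp x V) {a b : G} (ha : a ∈ R) (hb : b ∈ R) (hab : Commute a b) :
    Commute a (x * b * x⁻¹) := by
  set a' := x * a * x⁻¹ with ha'
  set b' := x * b * x⁻¹ with hb'
  have h1 : a * a' * (x⁻¹ * a * x) = 1 := hR.prod_three h ha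
  have h2 : b * b' * (x⁻¹ * b * x) = 1 := hR.prod_three h hb
  have h3 := hR.prod_three h (R.mul_mem ha hb)
  have hab' : a' * b' = b' * a' := by
    calc a' * b' = x * (a * b) * x⁻¹ := by rw [ha', hb']; group
      _ = x * (b * a) * x⁻¹ := by rw [hab.eq]
      _ = b' * a' := by rw [ha', hb']; group
  rw [show x * (a * b) * x⁻¹ = a' * b' by rw [ha', hb']; group,
    show x⁻¹ * (a * b) * x = (x⁻¹ * a * x) * (x⁻¹ * b * x) by group,
    eq_inv_of_mul_eq_one_right h1, eq_inv_of_mul_eq_one_right h2] at h3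
  have key : Commute a (b * b') := by
    rw [hab'] at h3
    have h4 : a * (b * b') * a⁻¹ * (b * b')⁻¹ = 1 := by rw [← h3]; group
    exact mul_inv_eq_iff_eq_mul.1 (mul_inv_eq_one.1 h4)
  have := hab.inv_right.mul_right key
  rwa [show b⁻¹ * (b * b') = b' by group] at this

/-- A fixed-point-free subgroup has class at most two. -/
theorem Fpf.class_two (hR : Fpf x R) (h : Hyp x V) {a b c : G} (ha : a ∈ R) (hb : b ∈ R) (hc : c ∈ R) :
    Commute ⁅a, b⁆ c := by
  have hP := hR.p3 h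
  have hE : ∀ p w : R, Commute p (w * p * w⁻¹) := by
    intro p w
    have hinj : Function.Injective fun u : R =>
        (⟨x⁻¹ * u * x * (u : G)⁻¹, mul_mem (inv_back h hR.inv u.2) (inv_mem u.2)⟩ : R) := by
      intro r s e
      have e' : x⁻¹ * (r : G) * x * (r : G)⁻¹ = x⁻¹ * s * x * (s : G)⁻¹ := congrArg Subtype.val e
      have h2 : Commute ((s : G)⁻¹ * r) x := by
        show (s : G)⁻¹ * r * x = x * ((s : G)⁻¹ * r)
        calc (s : G)⁻¹ * r * x = (s : G)⁻¹ * x * (x⁻¹ * r * x * (r : G)⁻¹) * r := by group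
          _ = (s : G)⁻¹ * x * (x⁻¹ * s * x * (s : G)⁻¹) * r := by rw [e']
          _ = x * ((s : G)⁻¹ * r) := by group
      exact Subtype.ext (inv_mul_eq_one.1 (hR.fix _ (mul_mem (inv_mem s.2) r.2) h2)).symm
    obtain ⟨⟨u, hu⟩, huw⟩ := Finite.surjective_of_injective hinj w
    have hw : x⁻¹ * u * x * u⁻¹ = (w : G) := congrArg Subtype.val huw
    -- the conjugate `u * x * u⁻¹` of `x` also acts without fixed points
    set d := u⁻¹ * (p : G) * u with hd
    have hdR : d ∈ R := mul_mem (mul_mem (inv_mem hu) p.2) hu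
    have k1 : Commute (p : G) (u * (x * d * x⁻¹) * u⁻¹) := by
      have k0 := (hR.comm_self h hdR).map (MulAut.conj u).toMonoidHom
      simp only [MulEquiv.coe_toMonoidHom, MulAut.conj_apply] at k0
      rwa [show u * d * u⁻¹ = p by rw [hd]; group] at k0
    have hbR : u * (x * d * x⁻¹) * u⁻¹ ∈ R := mul_mem (mul_mem hu (hR.inv d hdR)) (inv_mem hu)
    have k2 := hR.comm_conj h p.2 hbR k1
    have k3 := hR.comm_conj h p.2 (hR.inv _ hbR) k2
    rw [h.conj_conj, hd] at k3
    refine Subtype.ext ?_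
    show (p : G) * (w * p * (w : G)⁻¹) = w * p * (w : G)⁻¹ * p
    rw [show (w : G) * p * (w : G)⁻¹ = x⁻¹ * (u * (x * (u⁻¹ * (p : G) * u) * x⁻¹) * u⁻¹) * x by
      rw [← hw]; group]
    exact k3.eq
  have := Cfsg.Lib.OrdersOneFour.engel_class_two hE (fun g hg => by
    by_contra hne
    have h1 : orderOf g = 3 := orderOf_eq_prime hg hne
    exact hP (h1 ▸ orderOf_dvd_natCard g)) ⟨a, ha⟩ ⟨b, hb⟩ ⟨c, hc⟩
  exact congrArg Subtype.val this.eq

end Cfsg.Lib.ThreeFour
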