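import Cfsg.Agent.ThreeFour.Local.Factor
import Cfsg.Agent.ThreeFour.Module.Frobenius
import Cfsg.Agent.ThreeFour.Module.PowSeven

/-!
A faithful irreducible action of a nonsolvable subgroup on an elementary abelian two-group in which `x` has
at most four fixed points.
-/

set_option autoImplicit false
set_option linter.unusedSectionVars false
set_option linter.style.haveILetI false

namespace Cfsg.Lib.ThreeFour

open Subgroup
open Cfsg.Lib.SelfCentThree (Inv P3)
open scoped IsMulCommutative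

universe u w

variable {G : Type u} [Group G] {x : G} {V H K L : Subgroup G}
  {W : Type w} [AddCommGroup W] {act : H →* AddMonoid.End W}

/-- An irreducible action with kernel inside `K`. -/
structure Rep (x : G) (K : Subgroup G) (act : H →* AddMonoid.End W) : Prop where
  mem : x ∈ H
  two : ∀ w : W, w + w = 0
  ker : ∀ g : H, act g = 1 → (g : G) ∈ K
  irr : ∀ S : AddSubgroup W, (∀ g : H, ∀ w ∈ S, act g w ∈ S) → S = ⊥ ∨ S = ⊤
  small : Nat.card {w : W // act ⟨x, mem⟩ w = w} ≤ 4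

/-- The fixed points of `x`. -/
abbrev Rep.fix (R : Rep x K act) : AddSubgroup W := Frob.fixX (act ⟨x, R.mem⟩)

variable [Finite G] [Finite W]

/-- With two fixed points the elements of odd fixed-point-free subgroups have seventh power acting trivially. -/
theorem Rep.pow_seven (h : Hyp x V) (R : Rep x K act) (h2 : Nat.card R.fix ≤ 2) {P : Subgroup G} (hP : Fpf x P)
    (hPH : P ≤ H) (hP2 : ¬ 2 ∣ Nat.card P) {b : G} (hb : b ∈ P) : act ⟨b, hPH hb⟩ ^ 7 = 1 := by
  set c := x * b * x⁻¹ with hc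
  have hbc : Commute b c := hP.comm_self h hb
  set A := closure ({b, c} : Set G) with hA
  have hAP : A ≤ P := (closure_le P).2 (by
    rintro a (rfl | rfl)
    · exact hb
    · exact hP.inv b hb)
  haveI : IsMulCommutative A := Subgroup.isMulCommutative_closure (by
    rintro p (rfl | rfl) q (rfl | rfl)
    · rfl
    · exact hbc.eq
    · exact hbc.symm.eq
    · rfl)
  have hbA : b ∈ A := subset_closure (Or.inl rfl)
  have hcA : c ∈ A := subset_closure (Or.inr rfl)
  have hAI : Inv x A := fun a ha => by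
    induction ha using Subgroup.closure_induction with
    | mem a ha =>
      rcases ha with rfl | rfl
      · exact hcA
      · rw [hc, h.conj_conj, eq_inv_of_mul_eq_one_right (hP.prod_three h hb)]
        exact inv_mem (mul_mem hbA hcA)
    | one => simp
    | mul p q _ _ hp hq => rw [show x * (p * q) * x⁻¹ = x * p * x⁻¹ * (x * q * x⁻¹) by group]; exact mul_mem hp hq
    | inv p _ hp => rw [← conj_inv]; exact inv_mem hp
  have hAf : Fpf x A := hP.anti hAI hAP
  set ρ : A →* AddMonoid.End W := act.comp (inclusion (hAP.trans hPH))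
  have D : Mod.Data ρ (act ⟨x, R.mem⟩) hAf.hom := by
    refine ⟨R.two, fun h' => hP2 (h'.trans (card_dvd_of_le hAP)), hAf.p3 h, ?_,
      fun a => congrFun (hAf.hom_cube h) a, hAf.hom_fpf, fun a => ?_, R.small⟩
    · rw [← map_mul, ← map_mul, ← map_one act]
      exact congrArg _ (Subtype.ext (by simpa [pow_succ] using h.pow3))
    · rw [MonoidHom.comp_apply, MonoidHom.comp_apply, ← map_mul, ← map_mul]
      exact congrArg _ (Subtype.ext (by simp [Fpf.hom, inclusion]))
  exact D.pow_seven h2 ⟨b, hbA⟩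

/-- An element of order seven modulo `K` which `x` or its inverse sends to its square. -/
theorem Rep.exists_frob (h : Hyp x V) (T : Top x V H K L) (R : Rep x K act) (h168 : Nat.card L = 168 * Nat.card K)
    (hexp : ∀ (g : H), (g : G) ^ 7 ∈ K → ∀ P : Subgroup G, Fpf x P → (g : G) ∈ P → ¬ 2 ∣ Nat.card P →
      act g ^ 7 = 1) :
    ∃ y a : H, ((y : G) = x ∨ (y : G) = x⁻¹) ∧ (a : G) ∈ L ∧ (a : G) ∉ K ∧ (a : G) ^ 7 ∈ K ∧
      Frob.Pre (act y) (act a) := by
  obtain ⟨P, hPL, hPp, hPf, hPK⟩ := T.exists_odd h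
  have hp : topPrime K L = 7 := if_pos h168
  rw [hp] at hPp
  haveI : Fact (Nat.Prime 7) := ⟨by norm_num⟩
  obtain ⟨b, hb, hbK⟩ := SetLike.not_le_iff_exists.1 hPK
  have hP2 : ¬ 2 ∣ Nat.card P := fun h2 => by
    obtain ⟨n, hn⟩ := IsPGroup.iff_card.1 hPp
    rw [hn] at h2
    have := (Nat.prime_dvd_prime_iff_eq Nat.prime_two (by norm_num : Nat.Prime 7)).1 (Nat.prime_two.dvd_of_dvd_pow h2)
    omega
  have hPH : P ≤ H := hPL.trans T.leL
  -- seventh powers lie in `K`
  have h7K : ∀ g ∈ P, g ^ 7 ∈ K := fun g hg => by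
    haveI := T.normal_subgroupOf
    set f := QuotientGroup.mk' (K.subgroupOf L)
    have hq : Nat.card (L ⧸ K.subgroupOf L) = 168 := by
      have h1 := Subgroup.card_eq_card_quotient_mul_card_subgroup (K.subgroupOf L)
      rw [Nat.card_congr (subgroupOfEquivOfLe T.leK).toEquiv, h168] at h1
      exact (Nat.eq_of_mul_eq_mul_right Nat.card_pos h1).symm
    obtain ⟨i, hi⟩ := IsPGroup.iff_orderOf.1 hPp ⟨g, hg⟩
    rw [Subgroup.orderOf_mk] at hi
    have h1 : orderOf (f ⟨g, hPL hg⟩) ∣ Nat.gcd (7 ^ i) 168 := Nat.dvd_gcd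
      ((orderOf_map_dvd f _).trans (by rw [Subgroup.orderOf_mk, hi])) (hq ▸ orderOf_dvd_natCard _)
    obtain ⟨j, -, hj⟩ := (Nat.dvd_prime_pow (by norm_num : Nat.Prime 7)).1 (h1.trans (Nat.gcd_dvd_left _ _))
    have hj1 : j ≤ 1 := by
      by_contra hj2
      have := ((pow_dvd_pow 7 (not_le.1 hj2)).trans (hj ▸ h1)).trans (Nat.gcd_dvd_right _ _)
      norm_num at this
    have h2 : f ⟨g, hPL hg⟩ ^ 7 = 1 := orderOf_dvd_iff_pow_eq_one.1 (hj ▸ by interval_cases j <;> norm_num)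
    rw [← map_pow] at h2
    exact mem_subgroupOf.1 ((QuotientGroup.eq_one_iff _).1 h2)
  have hact : ∀ g : H, (g : G) ∈ P → act g ^ 7 = 1 := fun g hg => hexp g (h7K _ hg) P hPf hg hP2
  set c := x * b * x⁻¹ with hc
  have hbc : Commute b c := hPf.comm_self h hb
  have hcP : c ∈ P := hPf.inv b hb
  have hxc : x * c * x⁻¹ = b⁻¹ * c⁻¹ := by
    rw [hc, h.conj_conj, eq_inv_of_mul_eq_one_right (hPf.prod_three h hb), mul_inv_rev]
    exact (hbc.inv_inv).eq.symm
  have hz : ∀ i j k l : ℤ, b ^ i * c ^ j * (b ^ k * c ^ l) = b ^ (i + k) * c ^ (j + l) := fun i j k l => by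
    rw [zpow_add, zpow_add, mul_assoc, ← mul_assoc (c ^ j), (hbc.zpow_zpow k j).symm.eq, mul_assoc, ← mul_assoc]
  have hrel : ∀ m n : ℕ, (m = 2 ∧ n = 4 ∨ m = 4 ∧ n = 2) →
      x * (c * (b ^ m)⁻¹) * x⁻¹ * ((c * (b ^ m)⁻¹) ^ n)⁻¹ = b ^ 7 * (c ^ 7)⁻¹ := by
    intro m n hmn
    have e1 : x * (c * (b ^ m)⁻¹) * x⁻¹ = b ^ (-1 : ℤ) * c ^ (-1 - (m : ℤ)) := by
      rw [show x * (c * (b ^ m)⁻¹) * x⁻¹ = (x * c * x⁻¹) * ((x * b * x⁻¹) ^ m)⁻¹ by rw [conj_pow]; group, hxc, ← hc]
      rw [zpow_neg_one, zpow_sub, zpow_neg_one, zpow_natCast, mul_assoc]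
    have e0 : c * (b ^ m)⁻¹ = b ^ (-(m : ℤ)) * c ^ (1 : ℤ) := by
      rw [zpow_neg, zpow_natCast, zpow_one, (hbc.pow_left m).inv_left.eq]
    have e2 : ∀ n : ℕ, (c * (b ^ m)⁻¹) ^ n = b ^ (-((m : ℤ) * n)) * c ^ (n : ℤ) := fun n => by
      induction n with
      | zero => simp
      | succ n ih => rw [pow_succ, ih, e0, hz]; push_cast; ring_nf
    have e3 : ∀ i j : ℤ, (b ^ i * c ^ j)⁻¹ = b ^ (-i) * c ^ (-j) := fun i j => by
      rw [mul_inv_rev, ← zpow_neg, ← zpow_neg]; exact ((hbc.zpow_zpow (-i) (-j)).symm).eq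
    rw [e1, e2, e3, hz, show b ^ 7 * (c ^ 7)⁻¹ = b ^ (7 : ℤ) * c ^ (-7 : ℤ) by
      rw [zpow_neg]; norm_num [zpow_ofNat]]
    rcases hmn with ⟨rfl, rfl⟩ | ⟨rfl, rfl⟩ <;> norm_num
  have hker : act ⟨b ^ 7 * (c ^ 7)⁻¹, hPH (mul_mem (pow_mem hb 7) (inv_mem (pow_mem hcP 7)))⟩ = 1 := by
    have e : (⟨b ^ 7 * (c ^ 7)⁻¹, hPH (mul_mem (pow_mem hb 7) (inv_mem (pow_mem hcP 7)))⟩ : H) =
        ⟨b, hPH hb⟩ ^ 7 * (⟨c⁻¹, hPH (inv_mem hcP)⟩ : H) ^ 7 := Subtype.ext (by simp [inv_pow])
    rw [e, map_mul, map_pow, map_pow, hact _ hb, hact _ (inv_mem hcP), one_mul]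
  have hcube : ∀ y : H, ((y : G) = x ∨ (y : G) = x⁻¹) → act y * act y * act y = 1 := fun y hy => by
    rw [← map_mul, ← map_mul, ← map_one act]
    refine congrArg _ (Subtype.ext ?_)
    rcases hy with e | e <;> simp only [Subgroup.coe_mul, e, OneMemClass.coe_one]
    · rw [h.mul_self, inv_mul_cancel]
    · rw [← mul_inv_rev, h.mul_self, inv_inv, mul_inv_cancel]
  -- the two candidates
  have hcand : ∀ m n : ℕ, (m = 2 ∧ n = 4 ∨ m = 4 ∧ n = 2) → ∀ hm : c * (b ^ m)⁻¹ ∈ P,
      act ⟨x, R.mem⟩ * act ⟨_, hPH hm⟩ = act ⟨_, hPH hm⟩ ^ n * act ⟨x, R.mem⟩ := by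
    intro m n hmn hm
    have e : (⟨x, R.mem⟩ : H) * ⟨_, hPH hm⟩ =
        ⟨b ^ 7 * (c ^ 7)⁻¹, hPH (mul_mem (pow_mem hb 7) (inv_mem (pow_mem hcP 7)))⟩ *
          ⟨_, hPH hm⟩ ^ n * ⟨x, R.mem⟩ := Subtype.ext (by
      simp only [Subgroup.coe_mul, SubgroupClass.coe_pow]
      rw [← hrel m n hmn]; group)
    rw [← map_mul, e, map_mul, map_mul, hker, one_mul, map_pow]
  have hmem : ∀ m : ℕ, c * (b ^ m)⁻¹ ∈ P := fun m => mul_mem hcP (inv_mem (pow_mem hb m))
  by_cases h2K : c * (b ^ 2)⁻¹ ∈ K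
  · have h4K : c * (b ^ 4)⁻¹ ∉ K := fun hK' => hbK (by
      have h1 : b ^ 2 ∈ K := by
        have := mul_mem (inv_mem hK') h2K
        rwa [show (c * (b ^ 4)⁻¹)⁻¹ * (c * (b ^ 2)⁻¹) = b ^ 2 by group] at this
      have h2 := mul_mem (pow_mem h1 4) (inv_mem (h7K b hb))
      rwa [show (b ^ 2) ^ 4 * (b ^ 7)⁻¹ = b by group] at h2)
    refine ⟨⟨x, R.mem⟩, ⟨_, hPH (hmem 4)⟩, Or.inl rfl, hPL (hmem 4), h4K, h7K _ (hmem 4), R.two,
      hcube _ (Or.inl rfl), ?_, hcand 4 2 (Or.inr ⟨rfl, rfl⟩) (hmem 4)⟩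
    exact hact _ (hmem 4)
  · set X₁ := act ⟨x, R.mem⟩
    set A₁ := act ⟨_, hPH (hmem 2)⟩
    have hAX : X₁ * A₁ = A₁ ^ 4 * X₁ := hcand 2 4 (Or.inl ⟨rfl, rfl⟩) (hmem 2)
    have h7 : A₁ ^ 7 = 1 := hact _ (hmem 2)
    have hpow : ∀ j, X₁ * A₁ ^ j = A₁ ^ (4 * j) * X₁ := fun j => by
      induction j with
      | zero => simp
      | succ j ih => rw [pow_succ, ← mul_assoc, ih, mul_assoc, hAX, ← mul_assoc, ← pow_add, mul_add, mul_one]
    have hxx : act (⟨x, R.mem⟩⁻¹ : H) = X₁ * X₁ := by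
      rw [← map_mul]
      exact congrArg _ (Subtype.ext (show x⁻¹ = x * x from h.mul_self.symm))
    refine ⟨⟨x, R.mem⟩⁻¹, ⟨_, hPH (hmem 2)⟩, Or.inr rfl, hPL (hmem 2), h2K, h7K _ (hmem 2), R.two,
      hcube _ (Or.inr rfl), h7, ?_⟩
    rw [hxx, mul_assoc, hAX, ← mul_assoc, hpow, mul_assoc, show (4 * 4) = 7 + 7 + 2 by norm_num, pow_add, pow_add,
      h7, one_mul, one_mul]

theorem Rep.fix_eq (h : Hyp x V) (R : Rep x K act) {y : H} (hy : (y : G) = x ∨ (y : G) = x⁻¹) :
    Frob.fixX (act y) = R.fix := by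
  rcases hy with e | e
  · rw [show y = ⟨x, R.mem⟩ from Subtype.ext e]
  · rw [show y = ⟨x, R.mem⟩ * ⟨x, R.mem⟩ from Subtype.ext (e.trans h.mul_self.symm), map_mul]
    refine Frob.Pre.fixX_sq ⟨R.two, ?_, one_pow 7, by simp⟩
    rw [← map_mul, ← map_mul, ← map_one act]
    exact congrArg _ (Subtype.ext (show x * x * x = 1 by rw [h.mul_self, inv_mul_cancel]))

/-- The shape of the module. -/
theorem Rep.card_shape (h : Hyp x V) (T : Top x V H K L) (R : Rep x K act) (h168 : Nat.card L = 168 * Nat.card K)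
    {y a : H} (hy : (y : G) = x ∨ (y : G) = x⁻¹) (haL : (a : G) ∈ L) (haK : (a : G) ∉ K) (ha7 : (a : G) ^ 7 ∈ K)
    (D : Frob.Data (act y) (act a)) :
    ∃ n, Nat.card W = Nat.card (Frob.span (act y) (act a)) * n ∧ n % 3 = 1 ∧
      n * Nat.card R.fix ≤ Nat.card (Frob.span (act y) (act a)) ∧ n = Nat.card (Frob.fixA (act a)) := by
  refine ⟨_, D.card_eq, D.card_fixA_mod, ?_, rfl⟩
  obtain ⟨g, hgL, hg⟩ := T.inverter
  set s : H := ⟨g, T.leL hgL⟩ with hs
  set a' : H := s * a * s⁻¹ with ha'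
  have hsy : s * y * s⁻¹ = y * y := by
    refine Subtype.ext ?_
    show g * (y : G) * g⁻¹ = (y : G) * y
    rcases hy with e | e <;> rw [e]
    · rw [hg, h.mul_self]
    · rw [← mul_inv_rev, h.mul_self, inv_inv, ← conj_inv, hg, inv_inv]
  have hs1 : ∀ w, act s (act s⁻¹ w) = w := fun w => by
    show (act s * act s⁻¹) w = w
    rw [← map_mul, mul_inv_cancel, map_one]; rfl
  have hyy : act y * act y * (act y * act y) = act y := by rw [← mul_assoc, D.cube, one_mul]
  have hfy : ∀ w, (act y * act y) w = w → act y w = w := fun w hw => by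
    have := (Frob.mem_fixX (X := act y * act y)).2 hw
    rw [D.fixX_sq] at this
    exact this
  have hsX : ∀ w, act y w = w → act y (act s⁻¹ w) = act s⁻¹ w := fun w hw => by
    show (act y * act s⁻¹) w = act s⁻¹ w
    rw [← map_mul, show y * s⁻¹ = s⁻¹ * (y * y) by rw [← hsy]; group, map_mul, map_mul]
    show act s⁻¹ (act y (act y w)) = _
    rw [hw, hw]
  have D' : Frob.Data (act y * act y) (act a') := by
    refine ⟨⟨R.two, ?_, ?_, ?_⟩, ?_, fun w hw1 hw2 => ?_⟩
    · rw [hyy]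
      exact D.cube
    · rw [← map_pow, ha', conj_pow, map_mul, map_mul, map_pow, D.seven, mul_one, ← map_mul, mul_inv_cancel, map_one]
    · rw [← map_mul, ← map_pow, ← map_mul, ← map_mul, ← hsy, ha', conj_pow]
      rw [show s * y * s⁻¹ * (s * a * s⁻¹) = s * (y * a) * s⁻¹ by group,
        show s * a ^ 2 * s⁻¹ * (s * y * s⁻¹) = s * (a ^ 2 * y) * s⁻¹ by group, map_mul, map_mul, map_mul, map_mul,
        map_mul, map_mul, map_pow, D.comm]
    · have e : Frob.fixX (act y * act y) = Frob.fixX (act y) := D.fixX_sq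
      have := D.small
      calc Nat.card {w : W // (act y * act y) w = w} = Nat.card (Frob.fixX (act y * act y)) := rfl
        _ = Nat.card (Frob.fixX (act y)) := by rw [e]
        _ ≤ 4 := this
    · have hv := D.free (act s⁻¹ w) (hsX w (hfy w hw1)) (by
        show (act a * act s⁻¹) w = act s⁻¹ w
        rw [← map_mul, show a * s⁻¹ = s⁻¹ * a' by rw [ha']; group, map_mul]
        show act s⁻¹ (act a' w) = _
        rw [hw2])
      rw [← hs1 w, hv, map_zero]
  -- the two fixed-point groups meet trivially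
  have hdis : Frob.fixA (act a) ⊓ Frob.fixA (act a') = ⊥ := by
    set F := Frob.fixA (act a) ⊓ Frob.fixA (act a')
    let Y : Subgroup G :=
      { carrier := {g | ∃ hg : g ∈ H, g ∈ L ∧ ∀ w ∈ F, act ⟨g, hg⟩ w = w}
        one_mem' := ⟨one_mem _, one_mem _, fun w _ => by
          rw [show (⟨1, one_mem _⟩ : H) = 1 from rfl, map_one]; rfl⟩
        mul_mem' := by
          rintro p q ⟨hp, hp', e⟩ ⟨hq, hq', e'⟩
          refine ⟨mul_mem hp hq, mul_mem hp' hq', fun w hw => ?_⟩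
          rw [show (⟨p * q, mul_mem hp hq⟩ : H) = ⟨p, hp⟩ * ⟨q, hq⟩ from rfl, map_mul]
          show act ⟨p, hp⟩ (act ⟨q, hq⟩ w) = w
          rw [e' w hw, e w hw]
        inv_mem' := by
          rintro p ⟨hp, hp', e⟩
          refine ⟨inv_mem hp, inv_mem hp', fun w hw => ?_⟩
          have e1 := e w hw
          conv_lhs => rw [← e1]
          show (act (⟨p, hp⟩⁻¹ : H) * act ⟨p, hp⟩) w = w
          rw [← map_mul, inv_mul_cancel, map_one]; rfl }
    have ha'L : (a' : G) ∈ L := mul_mem (mul_mem hgL haL) (inv_mem hgL)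
    have hgK : ∀ z ∈ K, g * z * g⁻¹ ∈ K := fun z hz => ((mem_set_normalizer_iff.1 (T.normK (T.leL hgL))) z).1 hz
    have ha'7 : (a' : G) ^ 7 ∈ K := by
      show (g * (a : G) * g⁻¹) ^ 7 ∈ K
      rw [conj_pow]; exact hgK _ ha7
    have haY : (a : G) ∈ Y := ⟨a.2, haL, fun w hw => hw.1⟩
    have ha'Y : (a' : G) ∈ Y := ⟨a'.2, ha'L, fun w hw => hw.2⟩
    have hyY : ∀ w, w ∈ F → act y w ∈ F := by
      intro w hw
      refine ⟨?_, ?_⟩
      · show (act a * act y) w = act y w
        have e : act a * act y = act y * act a ^ 4 := by rw [D.comm_pow, D.pow_mod (2 * 4)]; norm_num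
        rw [e, show act a ^ 4 = act a * act a * act a * act a by simp [pow_succ]]
        show act y (act a (act a (act a (act a w)))) = _
        have h1 : act a w = w := hw.1
        rw [h1, h1, h1, h1]
      · show (act a' * act y) w = act y w
        have e : act a' * act y = act y * act a' ^ 2 := by
          have e4 := D'.comm_pow_two 4
          rw [hyy, D'.pow_mod (4 * 4)] at e4
          have e2 := D'.comm_pow_two 2
          rw [hyy, D'.pow_mod (4 * 2)] at e2
          rw [e2]; norm_num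
        rw [e, pow_two]
        show act y (act a' (act a' w)) = _
        have h1 : act a' w = w := hw.2
        rw [h1, h1]
    have hKL : K ≤ L := T.leK
    set Z := Y ⊔ K with hZ
    have hZL : Z ≤ L := sup_le (fun z hz => hz.choose_spec.1) hKL
    -- forty-nine cosets
    have hinj : ∀ i j i' j' : Fin 7, ∀ k ∈ K, ∀ k' ∈ K,
        (a : G) ^ i.1 * (a' : G) ^ j.1 * k = (a : G) ^ i'.1 * (a' : G) ^ j'.1 * k' → i = i' ∧ j = j' ∧ k = k' := by
      haveI := T.normal_subgroupOf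
      set f := QuotientGroup.mk' (K.subgroupOf L)
      set α := f ⟨a, haL⟩
      set β := f ⟨a', ha'L⟩
      have hone : ∀ (z : G) (hz : z ∈ L), f ⟨z, hz⟩ = 1 ↔ z ∈ K := fun z hz =>
        (QuotientGroup.eq_one_iff _).trans mem_subgroupOf
      have hα : orderOf α = 7 := orderOf_eq_prime (hp := ⟨by norm_num⟩)
        (by rw [← map_pow]; exact (hone _ (pow_mem haL 7)).2 ha7) fun e => haK ((hone _ haL).1 e)
      have hβ : orderOf β = 7 := orderOf_eq_prime (hp := ⟨by norm_num⟩)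
        (by rw [← map_pow]; exact (hone _ (pow_mem ha'L 7)).2 ha'7) fun e => by
          have h1 := (hone _ ha'L).1 e
          apply haK
          have hgi : g⁻¹ * (a' : G) * g⁻¹⁻¹ ∈ K :=
            ((mem_set_normalizer_iff.1 (inv_mem (T.normK (T.leL hgL)))) _).1 h1
          rw [show (a' : G) = g * (a : G) * g⁻¹ from rfl,
            show g⁻¹ * (g * (a : G) * g⁻¹) * g⁻¹⁻¹ = (a : G) by group] at hgi
          exact hgi
      have hyL : (y : G) ∈ L := by
        rcases hy with e | e <;> rw [e]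
        · exact T.mem
        · exact inv_mem T.mem
      set η := f ⟨y, hyL⟩
      have hD : ∀ p q : H, ∀ (hp : (p : G) ∈ L) (hq : (q : G) ∈ L), act p = act q → f ⟨p, hp⟩ = f ⟨q, hq⟩ := by
        intro p q hp hq e
        have h1 := R.ker (p⁻¹ * q) (by rw [map_mul, ← e, ← map_mul, inv_mul_cancel, map_one])
        exact inv_mul_eq_one.1 (by rw [← map_inv, ← map_mul]; exact (hone _ (mul_mem (inv_mem hp) hq)).2 h1)
      have hr1 : η * α = α ^ 2 * η := by
        rw [← map_mul, ← map_pow, ← map_mul]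
        exact hD (y * a) (a ^ 2 * y) _ _ (by rw [map_mul, map_mul, map_pow, D.comm])
      have hr2 : η * β = β ^ 4 * η := by
        rw [← map_mul, ← map_pow, ← map_mul]
        refine hD (y * a') (a' ^ 4 * y) _ _ ?_
        have := D'.comm_pow_two 1
        rw [hyy, pow_one] at this
        calc act (y * a') = act y * act a' := map_mul _ _ _
          _ = act a' ^ (4 * 1) * act y := this
          _ = act (a' ^ 4 * y) := by rw [map_mul _ (a' ^ 4) y, map_pow, mul_one]
      have hpw : ∀ (u : L ⧸ K.subgroupOf L) (r : ℕ), η * u = u ^ r * η → ∀ n : ℕ, η * u ^ n = u ^ (r * n) * η := by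
        intro u r hu n
        induction n with
        | zero => simp
        | succ n ih => rw [pow_succ, ← mul_assoc, ih, mul_assoc, hu, ← mul_assoc, ← pow_add, mul_add, mul_one]
      have hdisj : ∀ m n : ℕ, α ^ m = β ^ n → 7 ∣ m ∧ 7 ∣ n := by
        intro m n e
        have h1 := hpw α 2 hr1 m
        have h2 := hpw β 4 hr2 n
        rw [e, h2] at h1
        have h3 : β ^ (4 * n) = β ^ (2 * n) := by
          rw [mul_right_cancel h1, mul_comm 2 m, pow_mul, e, ← pow_mul, mul_comm n 2]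
        have h4 := pow_eq_pow_iff_modEq.1 h3
        rw [hβ] at h4
        have h5 : 7 ∣ n := by
          unfold Nat.ModEq at h4
          omega
        have h6 : β ^ n = 1 := orderOf_dvd_iff_pow_eq_one.1 (hβ.symm ▸ h5)
        exact ⟨hα ▸ orderOf_dvd_of_pow_eq_one (e.trans h6), h5⟩
      intro i j i' j' k hk k' hk' e
      have ef : α ^ i.1 * β ^ j.1 = α ^ i'.1 * β ^ j'.1 := by
        have := congrArg f (show (⟨a, haL⟩ : L) ^ i.1 * ⟨a', ha'L⟩ ^ j.1 * ⟨k, hKL hk⟩ =
          ⟨a, haL⟩ ^ i'.1 * ⟨a', ha'L⟩ ^ j'.1 * ⟨k', hKL hk'⟩ from Subtype.ext e)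
        simp only [map_mul, map_pow, (hone _ (hKL hk)).2 hk, (hone _ (hKL hk')).2 hk', mul_one] at this
        exact this
      have hαp : α ^ 7 = 1 := hα ▸ pow_orderOf_eq_one α
      have hβp : β ^ 7 = 1 := hβ ▸ pow_orderOf_eq_one β
      have e2 : α ^ (i.1 + (7 - i'.1)) = β ^ (j'.1 + (7 - j.1)) := by
        calc α ^ (i.1 + (7 - i'.1)) = α ^ (7 - i'.1) * α ^ i.1 := by rw [← pow_add, add_comm]
          _ = α ^ (7 - i'.1) * (α ^ i.1 * β ^ j.1) * β ^ (7 - j.1) := by
            rw [mul_assoc, mul_assoc (α ^ i.1), ← pow_add β, Nat.add_sub_cancel' j.2.le, hβp, mul_one]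
          _ = α ^ (7 - i'.1) * (α ^ i'.1 * β ^ j'.1) * β ^ (7 - j.1) := by rw [ef]
          _ = β ^ (j'.1 + (7 - j.1)) := by
            rw [← mul_assoc, ← pow_add, Nat.sub_add_cancel i'.2.le, hαp, one_mul, ← pow_add]
      obtain ⟨d1, d2⟩ := hdisj _ _ e2
      have hi : i = i' := Fin.ext (by have := i.2; have := i'.2; omega)
      have hj : j = j' := Fin.ext (by have := j.2; have := j'.2; omega)
      subst hi hj
      exact ⟨rfl, rfl, mul_left_cancel e⟩
    have h49 : 49 * Nat.card K ≤ Nat.card Z := by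
      let f : (Fin 7 × Fin 7) × K → Z := fun p => ⟨(a : G) ^ p.1.1.1 * (a' : G) ^ p.1.2.1 * p.2,
        mul_mem (mul_mem (pow_mem (mem_sup_left haY) _) (pow_mem (mem_sup_left ha'Y) _)) (mem_sup_right p.2.2)⟩
      have hf : Function.Injective f := fun p q e => by
        obtain ⟨e1, e2, e3⟩ := hinj _ _ _ _ _ p.2.2 _ q.2.2 (congrArg Subtype.val e)
        exact Prod.ext (Prod.ext e1 e2) (Subtype.ext e3)
      have := Nat.card_le_card_of_injective f hf
      simpa [Nat.card_prod] using this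
    have hZtop : Z = L := T.eq_of_large h h168 le_sup_right hZL (by
      have := Nat.card_pos (α := K)
      omega)
    have hxF : ∀ w ∈ F, act ⟨x, R.mem⟩ w ∈ F := fun w hw => by
      rcases hy with e | e
      · rw [show (⟨x, R.mem⟩ : H) = y from Subtype.ext e.symm]; exact hyY w hw
      · rw [show (⟨x, R.mem⟩ : H) = y * y from Subtype.ext (by
          show x = (y : G) * y
          rw [e, ← mul_inv_rev, h.mul_self, inv_inv]), map_mul]
        exact hyY _ (hyY w hw)
    have hxY : Inv x Y := by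
      rintro p ⟨hp, hpL, e⟩
      refine ⟨mul_mem (mul_mem R.mem hp) (inv_mem R.mem), mul_mem (mul_mem T.mem hpL) (inv_mem T.mem), fun w hw => ?_⟩
      set X := (⟨x, R.mem⟩ : H)
      have hmem : act X⁻¹ w ∈ F := by
        rw [show X⁻¹ = X * X from Subtype.ext h.mul_self.symm, map_mul]
        exact hxF _ (hxF w hw)
      rw [show (⟨x * p * x⁻¹, _⟩ : H) = X * ⟨p, hp⟩ * X⁻¹ from rfl, map_mul, map_mul]
      show act X (act ⟨p, hp⟩ (act X⁻¹ w)) = w
      rw [e _ hmem]
      show (act X * act X⁻¹) w = w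
      rw [← map_mul, mul_inv_cancel, map_one]; rfl
    have hxmem : x ∈ Y := by
      have h3 : 3 ∣ Nat.card Y := by
        by_contra h3
        have hP3 : P3 Y := h3
        have hYn : Y ≤ normalizer (K : Set G) := fun z hz => T.normK hz.choose
        have h1 := Cfsg.Lib.Coprime.card_sup_mul_card_inf (N := K) hYn
        rw [sup_comm] at h1
        have h2 : 3 ∣ Nat.card Z := by rw [hZtop, h168]; exact Dvd.dvd.mul_right (by norm_num) _
        rcases (Nat.Prime.dvd_mul Nat.prime_three).1 (h1 ▸ h2.mul_right _ : 3 ∣ Nat.card K * Nat.card Y) with e | e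
        · exact T.three e
        · exact h3 e
      set M := Y ⊔ zpowers x
      haveI : (Y.subgroupOf M).Normal := (normal_subgroupOf_iff_le_normalizer le_sup_left).2
        (sup_le le_normalizer (inv_zpowers_le h hxY))
      have hm := mem_of_three_dvd (Q := M) (y := ⟨x, mem_sup_right (mem_zpowers x)⟩) (M := Y.subgroupOf M)
        (fun h9 => h.not_nine (h9.trans (card_subgroup_dvd_card M)))
        (by rwa [Nat.card_congr (subgroupOfEquivOfLe (le_sup_left : Y ≤ M)).toEquiv])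
        (by rw [Subgroup.orderOf_mk, h.ord])
      exact mem_subgroupOf.1 hm
    refine eq_bot_iff.2 fun w hw => AddSubgroup.mem_bot.2 (D.free w ?_ hw.1)
    obtain ⟨hxH, -, e⟩ := hxmem
    have hxw : act ⟨x, R.mem⟩ w = w := e w hw
    rcases hy with e' | e'
    · rw [show y = ⟨x, R.mem⟩ from Subtype.ext e']; exact hxw
    · rw [show y = ⟨x, R.mem⟩ * ⟨x, R.mem⟩ from Subtype.ext (e'.trans h.mul_self.symm), map_mul]
      show act ⟨x, R.mem⟩ (act ⟨x, R.mem⟩ w) = w
      rw [hxw, hxw]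
  have h1 := D.card_fixA_le D' hdis
  rw [R.fix_eq h hy] at h1
  refine h1.trans (le_of_eq ?_)
  have hc := D'.card_span
  have hc2 := D.card_span
  rw [D.fixX_sq] at hc
  omega

end Cfsg.Lib.ThreeFour
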