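import Cfsg.Agent.ThreeFour.Local.Natural

/-!
With two fixed points the module is the natural module of the linear group of order 168; with four fixed
points and a trivial core there are three possible orders.
-/

set_option autoImplicit false
set_option linter.unusedSectionVars false
set_option linter.style.haveILetI false

namespace Cfsg.Lib.ThreeFour

open Subgroup
open Cfsg.Lib.SelfCentThree (Inv P3)

universe u w

variable {G : Type u} [Group G] {x : G} {V H K L : Subgroup G}
  {W : Type w} [AddCommGroup W] [Finite W] {act : H →* AddMonoid.End W}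

theorem card_fixed_set {O : Set W} {E : AddMonoid.End W} {p : ℕ} [Fact p.Prime] (hE : E ^ p = 1)
    (hO : ∀ w ∈ O, E w ∈ O) : O.ncard % p = {w ∈ O | E w = w}.ncard % p := by
  classical
  haveI := Fintype.ofFinite O
  let f : Function.End O := fun s => ⟨E s, hO s s.2⟩
  have hit : ∀ n : ℕ, ∀ s : O, ((f^[n]) s : W) = (E ^ n) s := fun n => by
    induction n with
    | zero => intro s; rfl
    | succ n ih => intro s; rw [Function.iterate_succ_apply', pow_succ']; show E ((f^[n]) s : W) = _; rw [ih]; rfl
  have hf : f ^ p ^ 1 = 1 := by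
    rw [pow_one]
    have e : ∀ n, (f ^ n : Function.End O) = f^[n] := fun n => by
      induction n with
      | zero => rfl
      | succ n ih => rw [pow_succ, ih, Function.iterate_succ]; rfl
    rw [e]
    funext s
    exact Subtype.ext (by rw [hit, hE]; rfl)
  have h1 := Equiv.Perm.card_fixedPoints_modEq (p := p) (n := 1) hf
  rw [← Nat.card_eq_fintype_card, ← Nat.card_eq_fintype_card] at h1
  rw [← Nat.card_coe_set_eq, ← Nat.card_coe_set_eq, h1]
  exact congrArg (· % p) (Nat.card_congr
    { toFun := fun s => ⟨s.1.1, s.1.2, congrArg Subtype.val (s.2 : f s.1 = s.1)⟩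
      invFun := fun w => ⟨⟨w.1, w.2.1⟩, Subtype.ext w.2.2⟩
      left_inv := fun _ => rfl
      right_inv := fun _ => rfl })

theorem eq_of_card_le_two {S : AddSubgroup W} (h2 : Nat.card S ≤ 2) {u w : W} (hu : u ∈ S) (hw : w ∈ S)
    (hu0 : u ≠ 0) (hw0 : w ≠ 0) : u = w := by
  classical
  by_contra hne
  haveI := Fintype.ofFinite S
  have h3 : ({0, ⟨u, hu⟩, ⟨w, hw⟩} : Finset S).card = 3 := by
    rw [Finset.card_eq_three]
    exact ⟨_, _, _, fun e => hu0 (congrArg Subtype.val e).symm, fun e => hw0 (congrArg Subtype.val e).symm,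
      fun e => hne (congrArg Subtype.val e), rfl⟩
  have h := Finset.card_le_univ ({0, ⟨u, hu⟩, ⟨w, hw⟩} : Finset S)
  rw [h3, ← Nat.card_eq_fintype_card] at h
  omega

variable [Finite G]

theorem Top.card_dvd (T : Top x V H K L) : Nat.card H ∣ Nat.card L * Nat.card V := by
  have hle : H = L ⊔ (V ⊓ H) := le_antisymm (fun g hg => by
    obtain ⟨l, hl, u, hu, rfl⟩ := T.cover g hg
    exact mul_mem (mem_sup_left hl) (mem_sup_right hu)) (sup_le T.leL inf_le_right)
  have h1 := Cfsg.Lib.Coprime.card_sup_mul_card_inf (N := L) (H := V ⊓ H) (inf_le_right.trans T.normL)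
  rw [← hle] at h1
  exact (Dvd.intro _ h1).trans (Nat.mul_dvd_mul_left _ (card_dvd_of_le inf_le_left))

theorem Rep.not_dvd_index (h : Hyp x V) (T : Top x V H K L) (R : Rep x K act) (h2 : Nat.card R.fix ≤ 2)
    {p : ℕ} [Fact p.Prime] (hp : 11 ≤ p) (h168 : Nat.card L = 168 * Nat.card K) : ¬ p ∣ act.ker.index := by
  set e := (Nat.card K).factorization p
  obtain ⟨P, hPK, -, hPp, hPI, hPc⟩ := exists_inv_sylow_ge h (inv_of_le_normalizer (zpowers_le.2 T.mem_normK))
    T.three p (bot_le : (⊥ : Subgroup G) ≤ K) IsPGroup.of_bot (fun r hr => by rw [mem_bot.1 hr]; simp)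
  have hP2 : ¬ 2 ∣ Nat.card P := fun h2' => by
    rw [hPc] at h2'
    have := (Nat.prime_dvd_prime_iff_eq Nat.prime_two (Fact.out : p.Prime)).1 (Nat.prime_two.dvd_of_dvd_pow h2')
    omega
  have hPf : Fpf x P := fpf_of h hPI (T.three.anti hPK) (eq_bot_iff.2 fun a ha => mem_bot.2 (by
    by_contra ha1
    have h2' : orderOf a = 2 := orderOf_eq_prime (by rw [pow_two]; exact h.sq a ha.2) ha1
    exact hP2 (h2' ▸ Subgroup.orderOf_dvd_natCard P ha.1)))
  have hPH : P ≤ H := hPK.trans T.leH
  have hker : P.subgroupOf H ≤ act.ker := fun b hb => MonoidHom.mem_ker.2 (by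
    have h1 := R.pow_seven h h2 hPf hPH hP2 (mem_subgroupOf.1 hb)
    obtain ⟨i, hi⟩ := IsPGroup.iff_orderOf.1 hPp ⟨b, mem_subgroupOf.1 hb⟩
    rw [Subgroup.orderOf_mk, Subgroup.orderOf_coe] at hi
    have h3 : act b ^ p ^ i = 1 := by rw [← map_pow, ← hi, pow_orderOf_eq_one, map_one]
    have h4 := pow_gcd_eq_one.2 ⟨h1, h3⟩
    rwa [Nat.Coprime.gcd_eq_one (Nat.Coprime.pow_right _
      ((Nat.coprime_primes (by norm_num) (Fact.out : p.Prime)).2 (by omega))), pow_one] at h4)
  intro hd
  have h3 : p ^ (e + 1) ∣ Nat.card H := by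
    rw [← act.ker.card_mul_index, pow_succ]
    refine Nat.mul_dvd_mul ?_ hd
    rw [← hPc, ← Nat.card_congr (subgroupOfEquivOfLe hPH).toEquiv]
    exact card_dvd_of_le hker
  have h4 : p ^ (e + 1) ∣ Nat.card K * (168 * Nat.card V) := by
    refine h3.trans (T.card_dvd.trans (dvd_of_eq ?_))
    rw [h168]; ring
  have hco : (p ^ (e + 1)).Coprime (168 * Nat.card V) := by
    refine Nat.Coprime.pow_left _ ((Fact.out : p.Prime).coprime_iff_not_dvd.2 fun hh => ?_)
    rcases (Fact.out : p.Prime).dvd_mul.1 hh with hh | hh
    · have hm : p ∈ Nat.primeFactors 168 := Nat.mem_primeFactors.2 ⟨Fact.out, hh, by norm_num⟩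
      rw [show Nat.primeFactors 168 = {2, 3, 7} by decide +kernel] at hm
      simp only [Finset.mem_insert, Finset.mem_singleton] at hm
      omega
    · have := Nat.le_of_dvd Nat.card_pos hh
      rcases h.card with e | e <;> omega
  exact Nat.pow_succ_factorization_not_dvd Nat.card_pos.ne' (Fact.out : p.Prime) (hco.dvd_of_dvd_mul_right h4)

/-- Two fixed points give the natural module. -/
theorem Rep.natural (h : Hyp x V) (h5 : ¬ 5 ∣ Nat.card G) (T : Top x V H K L) (R : Rep x K act)
    (h2 : Nat.card R.fix ≤ 2) :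
    Nat.card L = 168 * Nat.card K ∧ Nat.card W = 8 ∧ Nat.card R.fix = 2 ∧ H = L ∧
      ∀ g : H, (g : G) ∈ K → act g = 1 := by
  classical
  obtain ⟨P, hPL, hPp, hPf, hPK⟩ := T.exists_odd h
  have hPH : P ≤ H := hPL.trans T.leL
  have h168 : Nat.card L = 168 * Nat.card K := by
    rcases T.topPrime_cases with ⟨-, e⟩ | ⟨e, -⟩
    · exact e
    exfalso
    apply hPK
    intro b hb
    rw [e] at hPp
    haveI : Fact (Nat.Prime 13) := ⟨by norm_num⟩
    obtain ⟨n, hn⟩ := IsPGroup.iff_card.1 hPp
    have hP2 : ¬ 2 ∣ Nat.card P := fun h2' => by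
      rw [hn] at h2'
      have := (Nat.prime_dvd_prime_iff_eq Nat.prime_two (by norm_num : Nat.Prime 13)).1 (Nat.prime_two.dvd_of_dvd_pow h2')
      omega
    have h7 : b ^ 7 ∈ K := R.ker (⟨b, hPH hb⟩ ^ 7) (by rw [map_pow]; exact R.pow_seven h h2 hPf hPH hP2 hb)
    obtain ⟨i, hi⟩ := IsPGroup.iff_orderOf.1 hPp ⟨b, hb⟩
    rw [Subgroup.orderOf_mk] at hi
    haveI : (K.subgroupOf H).Normal := (normal_subgroupOf_iff_le_normalizer T.leH).2 T.normK
    set q := QuotientGroup.mk' (K.subgroupOf H) ⟨b, hPH hb⟩
    have q1 : q ^ 7 = 1 := by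
      rw [← map_pow]; exact (QuotientGroup.eq_one_iff _).2 (mem_subgroupOf.2 h7)
    have q2 : q ^ 13 ^ i = 1 := by
      rw [← map_pow, show (⟨b, hPH hb⟩ : H) ^ 13 ^ i = 1 from Subtype.ext (by
        show b ^ 13 ^ i = 1
        rw [← hi, pow_orderOf_eq_one]), map_one]
    have q3 := pow_gcd_eq_one.2 ⟨q1, q2⟩
    rw [Nat.Coprime.gcd_eq_one (Nat.Coprime.pow_right _ (by norm_num : Nat.Coprime 7 13)), pow_one] at q3
    exact mem_subgroupOf.1 ((QuotientGroup.eq_one_iff _).1 q3)
  have hexp : ∀ (g : H), (g : G) ^ 7 ∈ K → ∀ P : Subgroup G, Fpf x P → (g : G) ∈ P → ¬ 2 ∣ Nat.card P →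
      act g ^ 7 = 1 := by
    intro g _ Q hQ hgQ hQ2
    set Q' := Q ⊓ H with hQ'
    have hxn : Inv x Q' := fun r hr => ⟨hQ.inv r hr.1, H.mul_mem (H.mul_mem R.mem hr.2) (H.inv_mem R.mem)⟩
    exact R.pow_seven h h2 (hQ.anti hxn inf_le_left) inf_le_right
      (fun h' => hQ2 (h'.trans (card_dvd_of_le inf_le_left))) (⟨hgQ, g.2⟩ : (g : G) ∈ Q')
  obtain ⟨y, a, hy, haL, haK, ha7, D0⟩ := R.exists_frob h T h168 hexp
  have hfixy : Frob.fixX (act y) = R.fix := R.fix_eq h hy
  have D : Frob.Data (act y) (act a) := by
    refine ⟨D0, ?_, fun w hw1 hw2 => ?_⟩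
    · show Nat.card (Frob.fixX (act y)) ≤ 4
      rw [hfixy]; omega
    by_contra hw0
    apply haK
    refine R.ker a (AddMonoidHom.ext fun v => D0.eq_one (fun u hu => ?_) v)
    rcases eq_or_ne u 0 with rfl | hu0
    · exact map_zero _
    have huw : u = w := eq_of_card_le_two (by rw [hfixy]; omega) hu hw1 hu0 hw0
    rw [huw]; exact hw2
  obtain ⟨n, hW, hn3, hnle, hnC⟩ := R.card_shape h T h168 hy haL haK ha7 D
  have hspan : Nat.card R.fix = 2 ∧ Nat.card (Frob.span (act y) (act a)) = 8 := by
    rcases D.card_span with ⟨e, e'⟩ | ⟨e, e'⟩ | ⟨e, -⟩ <;> rw [hfixy] at e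
    · exfalso
      rw [e, e', mul_one] at hnle
      rw [e', one_mul] at hW
      have : Subsingleton W := (Finite.card_le_one_iff_subsingleton).1 (by omega)
      exact haK (R.ker a (AddMonoidHom.ext fun v => Subsingleton.elim _ _))
    · exact ⟨e, e'⟩
    · omega
  rw [hspan.2, hspan.1] at hnle
  rw [hspan.2] at hW
  obtain ⟨⟨u, hu⟩, hu0⟩ : ∃ u : R.fix, u ≠ 0 := by
    haveI : Nontrivial R.fix := Finite.one_lt_card_iff_nontrivial.1 (by omega)
    exact exists_ne 0
  have huy : act y u = u := by
    have : u ∈ Frob.fixX (act y) := by rw [hfixy]; exact hu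
    exact this
  have hu0' : u ≠ 0 := fun e => hu0 (Subtype.ext e)
  have hall : ∀ w ∈ Frob.fixX (act y), w = 0 ∨ w = u := fun w hw => by
    by_cases hw0 : w = 0
    · exact Or.inl hw0
    · exact Or.inr (eq_of_card_le_two (by rw [hfixy]; omega) hw huy hw0 hu0')
  have hn : n = 1 := by
    rcases (show n = 1 ∨ n = 4 by omega) with e | e
    · exact e
    exfalso
    subst e
    set S := Frob.span (act y) (act a)
    set C := Frob.fixA (act a)
    set O : Set W := Set.range fun g : H => act g u
    have hOg : ∀ g : H, ∀ w ∈ O, act g w ∈ O := by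
      rintro g _ ⟨k, rfl⟩
      exact ⟨g * k, by show act (g * k) u = act g (act k u); rw [map_mul]; rfl⟩
    have hO0 : (0 : W) ∉ O := by
      rintro ⟨k, hk⟩
      apply hu0'
      have h1 : (act k⁻¹ * act k) u = u := by rw [← map_mul, inv_mul_cancel, map_one]; rfl
      rw [← h1]
      show act k⁻¹ (act k u) = 0
      rw [show act k u = 0 from hk, map_zero]
    have huO : u ∈ O := ⟨1, by show act 1 u = u; rw [map_one]; rfl⟩
    haveI : Fact (Nat.Prime 3) := ⟨Nat.prime_three⟩
    haveI : Fact (Nat.Prime 7) := ⟨by norm_num⟩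
    have hy3 : act y ^ 3 = 1 := by rw [pow_succ, pow_two]; exact D.cube
    have hO3 : O.ncard % 3 = 1 := by
      rw [card_fixed_set (E := act y) (p := 3) hy3 (hOg y),
        show {w ∈ O | act y w = w} = {u} from Set.ext fun w => ⟨fun hw => (hall w hw.2).resolve_left
          (fun e => hO0 (e ▸ hw.1)), fun e => by rw [Set.mem_singleton_iff] at e; rw [e]; exact ⟨huO, huy⟩⟩,
        Set.ncard_singleton]
    have hO7 : O.ncard % 7 = (O ∩ C).ncard % 7 := card_fixed_set (E := act a) (p := 7) D.seven (hOg a)
    have hC : (C : Set W).ncard = 4 := by rw [← Nat.card_coe_set_eq]; exact hnC.symm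
    have hOC : (O ∩ C).ncard = 0 ∨ (O ∩ C).ncard = 3 := by
      have h1 : (O ∩ C).ncard % 3 = 0 := by
        have hCy : ∀ c ∈ C, act y c ∈ C := fun c hc => by
          show (act a * act y) c = act y c
          have e : act a * act y = act y * act a ^ 4 := by rw [D.comm_pow, D.pow_mod (2 * 4)]; norm_num
          rw [e, show act a ^ 4 = act a * act a * act a * act a by simp [pow_succ]]
          show act y (act a (act a (act a (act a c)))) = _
          have h1 : act a c = c := hc
          rw [h1, h1, h1, h1]
        rw [card_fixed_set (O := O ∩ (C : Set W)) (E := act y) (p := 3) hy3 fun w hw => ⟨hOg y w hw.1, hCy w hw.2⟩,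
          show {w ∈ O ∩ C | act y w = w} = ∅ from Set.eq_empty_iff_forall_notMem.2 fun w hw =>
            hO0 (D.free w hw.2 hw.1.2 ▸ hw.1.1), Set.ncard_empty]
      have h2' : (O ∩ C).ncard < 4 := hC ▸ Set.ncard_lt_ncard
        ⟨Set.inter_subset_right, fun hsub => hO0 (hsub C.zero_mem).1⟩ (Set.toFinite _)
      omega
    have hO32 : O.ncard ≤ 31 := by
      have h1 := Set.ncard_lt_ncard (s := O) (t := Set.univ)
        ⟨Set.subset_univ _, fun hsub => hO0 (hsub trivial)⟩ (Set.toFinite _)
      rw [Set.ncard_univ, hW] at h1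
      omega
    have hpos : 0 < O.ncard := (Set.ncard_pos (Set.toFinite _)).2 ⟨u, huO⟩
    have hidx : O.ncard ∣ act.ker.index := by
      let St : Subgroup H :=
        { carrier := {g | act g u = u}
          one_mem' := by show act 1 u = u; rw [map_one]; rfl
          mul_mem' := fun {p q} hp hq => by
            show act (p * q) u = u
            rw [map_mul]
            show act p (act q u) = u
            rw [show act q u = u from hq, show act p u = u from hp]
          inv_mem' := fun {p} hp => by
            show act p⁻¹ u = u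
            conv_lhs => rw [← (show act p u = u from hp)]
            show (act p⁻¹ * act p) u = u
            rw [← map_mul, inv_mul_cancel, map_one]; rfl }
      have hle : act.ker ≤ St := fun g hg => by
        show act g u = u
        rw [MonoidHom.mem_ker.1 hg]; rfl
      refine dvd_trans (dvd_of_eq ?_) (index_dvd_of_le hle)
      rw [Subgroup.index, ← Nat.card_coe_set_eq]
      refine (Nat.card_congr (Equiv.ofBijective (Quotient.lift (fun g : H => (⟨act g u, g, rfl⟩ : O)) ?_) ?_)).symm
      · intro p q hpq
        have hm : p⁻¹ * q ∈ St := QuotientGroup.leftRel_apply.1 hpq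
        refine Subtype.ext ?_
        show act p u = act q u
        conv_lhs => rw [← (show act (p⁻¹ * q) u = u from hm)]
        show (act p * act (p⁻¹ * q)) u = act q u
        rw [← map_mul, mul_inv_cancel_left]
      · refine ⟨fun p q e => ?_, fun w => ?_⟩
        · induction p using Quotient.inductionOn
          induction q using Quotient.inductionOn
          rename_i p q
          refine Quotient.sound (QuotientGroup.leftRel_apply.2 ?_)
          show act (p⁻¹ * q) u = u
          have e' : act p u = act q u := congrArg Subtype.val e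
          rw [map_mul]
          show act p⁻¹ (act q u) = u
          rw [← e']
          show (act p⁻¹ * act p) u = u
          rw [← map_mul, inv_mul_cancel, map_one]; rfl
        · obtain ⟨_, g, rfl⟩ := w
          exact ⟨Quotient.mk _ g, rfl⟩
    have hd : O.ncard ∣ Nat.card G :=
      (hidx.trans (index_dvd_card _)).trans (card_subgroup_dvd_card H)
    haveI : Fact (Nat.Prime 31) := ⟨by norm_num⟩
    rcases (show O.ncard = 7 ∨ O.ncard = 10 ∨ O.ncard = 28 ∨ O.ncard = 31 by omega) with e | e | e | e
    · -- the orbit lies in the span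
      have hOS : O ⊆ S := by
        have h1 : (O ∩ S).ncard % 7 = 0 := by
          rw [card_fixed_set (O := O ∩ (S : Set W)) (E := act a) (p := 7) D.seven fun w hw => ⟨hOg a w hw.1, D.map_span hw.2⟩,
            show {w ∈ O ∩ S | act a w = w} = ∅ from Set.eq_empty_iff_forall_notMem.2 fun w hw => by
              have h1 := D.avg_span hw.1.2
              rw [D.avg_self hw.2] at h1
              exact hO0 (h1 ▸ hw.1.1), Set.ncard_empty]
        have h2' : 0 < (O ∩ S).ncard :=
          (Set.ncard_pos (Set.toFinite _)).2 ⟨u, huO, Frob.fixX_le_span huy⟩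
        intro w hw
        have heq : O ∩ S = O := Set.eq_of_subset_of_ncard_le Set.inter_subset_left (by omega) (Set.toFinite _)
        exact (heq.symm ▸ hw : w ∈ O ∩ S).2
      set J := AddSubgroup.closure O
      rcases R.irr J (fun g w hw => by
        induction hw using AddSubgroup.closure_induction with
        | mem w hw => exact AddSubgroup.subset_closure (hOg g w hw)
        | zero => rw [map_zero]; exact zero_mem _
        | add p q _ _ hp hq => rw [map_add]; exact add_mem hp hq
        | neg p _ hp => rw [map_neg]; exact neg_mem hp) with e' | e'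
      · exact hu0' (AddSubgroup.mem_bot.1 (e' ▸ AddSubgroup.subset_closure huO))
      · have h1 : (⊤ : AddSubgroup W) ≤ S := e' ▸ (AddSubgroup.closure_le S).2 hOS
        have h2' := AddSubgroup.card_dvd_of_le h1
        rw [AddSubgroup.card_top, hW, hspan.2] at h2'
        norm_num at h2'
    · exact h5 ((by norm_num : 5 ∣ 10).trans (e ▸ hd))
    · -- the complement of the orbit is invariant
      have hOC0 : (O ∩ C).ncard = 0 := by omega
      have hdis : ∀ w ∈ O, w ∉ C := fun w hw hwC =>
        (Set.eq_empty_iff_forall_notMem.1 ((Set.ncard_eq_zero (Set.toFinite _)).1 hOC0)) w ⟨hw, hwC⟩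
      have heq : O = (C : Set W)ᶜ := Set.eq_of_subset_of_ncard_le (fun w hw => hdis w hw) (by
        rw [Set.ncard_compl, hC, hW]; omega) (Set.toFinite _)
      rcases R.irr C (fun g w hw => by
        by_contra hne
        have h1 : act g w ∈ O := by rw [heq]; exact hne
        have h2' := hOg g⁻¹ _ h1
        rw [show act g⁻¹ (act g w) = (act g⁻¹ * act g) w from rfl, ← map_mul, inv_mul_cancel, map_one] at h2'
        exact hdis w h2' hw) with e' | e'
      · rw [e', AddSubgroup.coe_bot, Set.ncard_singleton] at hC; omega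
      · exact hdis u huO (e' ▸ AddSubgroup.mem_top u)
    · exact R.not_dvd_index h T h2 (p := 31) (by norm_num) h168 (e ▸ hidx)
  rw [hn, mul_one] at hW
  -- the image has order at most 168
  have hidx : act.ker.index ≤ 168 := by
    set au := act a u
    set aau := act a au
    have hcov : ∀ w : W, w ∈ Frob.span (act y) (act a) := fun w => by
      have : Frob.span (act y) (act a) = ⊤ := AddSubgroup.eq_top_of_card_eq _ (by rw [hspan.2, hW])
      rw [this]; exact AddSubgroup.mem_top w
    have hdet : ∀ p q : W →+ W, p u = q u → p au = q au → p aau = q aau → p = q := by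
      intro p q e1 e2 e3
      refine AddMonoidHom.ext fun w => ?_
      obtain ⟨b₀, hb₀, b₁, hb₁, b₂, hb₂, rfl⟩ := Frob.mem_span_iff.1 (hcov w)
      rw [map_add, map_add, map_add, map_add]
      have e3' : p ((act a ^ 2) u) = q ((act a ^ 2) u) := by rw [pow_two]; exact e3
      have e2' : p (act a u) = q (act a u) := e2
      have e3'' : p (act a (act a u)) = q (act a (act a u)) := e3
      rcases hall b₀ hb₀ with rfl | rfl <;> rcases hall b₁ hb₁ with rfl | rfl <;>
        rcases hall b₂ hb₂ with rfl | rfl <;> simp [e1, e2', e3', e3'']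
    have hinv : ∀ (g : H) (v : W), act g v = 0 → v = 0 := fun g v hv => by
      have h1 : (act g⁻¹ * act g) v = v := by rw [← map_mul, inv_mul_cancel, map_one]; rfl
      rw [← h1]
      show act g⁻¹ (act g v) = 0
      rw [hv, map_zero]
    -- independence
    have hind : au ≠ 0 ∧ au ≠ u ∧ aau ∉ ({0, u, au, u + au} : Finset W) := by
      have hcount : Nat.card (Frob.span (act y) (act a)) = 8 := hspan.2
      by_contra hne
      have hle : ∀ w, w ∈ Finset.image (fun b : Bool × Bool =>
          (if b.1 then u else 0) + (if b.2 then au else 0)) Finset.univ ∪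
          Finset.image (fun b : Bool × Bool => (if b.1 then u else 0) + (if b.2 then au else 0) + aau) Finset.univ := by
        intro w
        obtain ⟨b₀, hb₀, b₁, hb₁, b₂, hb₂, rfl⟩ := Frob.mem_span_iff.1 (hcov w)
        have e2 : (act a ^ 2) u = aau := by rw [pow_two]; rfl
        rw [Finset.mem_union, Finset.mem_image, Finset.mem_image]
        rcases hall b₂ hb₂ with rfl | rfl
        · refine Or.inl ?_
          rcases hall b₀ hb₀ with rfl | rfl <;> rcases hall b₁ hb₁ with rfl | rfl
          · exact ⟨(false, false), Finset.mem_univ _, by simp⟩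
          · exact ⟨(false, true), Finset.mem_univ _, by simp [au]⟩
          · exact ⟨(true, false), Finset.mem_univ _, by simp⟩
          · exact ⟨(true, true), Finset.mem_univ _, by simp [au]⟩
        · refine Or.inr ?_
          rcases hall b₀ hb₀ with rfl | rfl <;> rcases hall b₁ hb₁ with rfl | rfl
          · exact ⟨(false, false), Finset.mem_univ _, by simp [e2]⟩
          · exact ⟨(false, true), Finset.mem_univ _, by simp [e2, au]⟩
          · exact ⟨(true, false), Finset.mem_univ _, by simp [e2]⟩
          · exact ⟨(true, true), Finset.mem_univ _, by simp [e2, au]⟩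
      set B := Finset.image (fun b : Bool × Bool => (if b.1 then u else 0) + (if b.2 then au else 0)) Finset.univ
      have hB : ∀ b : Bool × Bool, (if b.1 then u else 0) + (if b.2 then au else 0) ∈ B := fun b =>
        Finset.mem_image_of_mem _ (Finset.mem_univ b)
      haveI := Fintype.ofFinite W
      have h8 : Fintype.card W = 8 := by rw [← Nat.card_eq_fintype_card, hW]
      have hsub : Finset.univ ⊆ B ∪ B.image (· + aau) := fun w _ => by
        have := hle w
        simp only [Finset.mem_union, Finset.mem_image] at this ⊢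
        rcases this with h' | ⟨b, -, rfl⟩
        · exact Or.inl h'
        · exact Or.inr ⟨_, hB b, rfl⟩
      have hc := Finset.card_le_card hsub
      rw [Finset.card_univ, h8] at hc
      have h4 : B.card ≤ 4 := Finset.card_image_le.trans (le_of_eq (by simp))
      have h4' : (B.image (· + aau)).card ≤ B.card := Finset.card_image_le
      have hBsub : B ⊆ ({0, u, au, u + au} : Finset W) := by
        intro w hw
        obtain ⟨⟨b, b'⟩, -, rfl⟩ := Finset.mem_image.1 hw
        cases b <;> cases b' <;> simp
      have hB4 : B.card = 4 := by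
        have := Finset.card_union_le B (B.image (· + aau))
        omega
      apply hne
      refine ⟨fun e => ?_, fun e => ?_, fun e => ?_⟩
      · have : B ⊆ {0, u} := by
          intro w hw
          have := hBsub hw
          simp only [Finset.mem_insert, Finset.mem_singleton, e, add_zero] at this ⊢
          tauto
        have := (Finset.card_le_card this).trans Finset.card_le_two
        omega
      · have : B ⊆ {0, u} := by
          intro w hw
          have := hBsub hw
          simp only [Finset.mem_insert, Finset.mem_singleton, e, R.two] at this ⊢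
          tauto
        have := (Finset.card_le_card this).trans Finset.card_le_two
        omega
      · have hmem : aau ∈ B := by
          simp only [Finset.mem_insert, Finset.mem_singleton] at e
          rcases e with e | e | e | e <;> rw [e]
          · simpa using hB (false, false)
          · simpa using hB (true, false)
          · simpa using hB (false, true)
          · simpa using hB (true, true)
        have hsub2 : B.image (· + aau) ⊆ B := by
          intro w hw
          obtain ⟨v, hv, rfl⟩ := Finset.mem_image.1 hw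
          obtain ⟨⟨b, b'⟩, -, rfl⟩ := Finset.mem_image.1 hv
          obtain ⟨⟨c, c'⟩, -, hc'⟩ := Finset.mem_image.1 hmem
          rw [← hc']
          have e4 : (if b then u else 0) + (if b' then au else 0) + ((if c then u else 0) + (if c' then au else 0)) =
              (if xor b c then u else 0) + (if xor b' c' then au else 0) := by
            rw [add_add_add_comm]
            cases b <;> cases c <;> cases b' <;> cases c' <;> simp [R.two]
          simp only [Prod.fst, Prod.snd] at e4 ⊢
          rw [e4]
          exact hB (xor b c, xor b' c')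
        rw [Finset.union_eq_left.2 hsub2] at hc
        omega
    haveI := Fintype.ofFinite W
    have h8 : Fintype.card W = 8 := by rw [← Nat.card_eq_fintype_card, hW]
    let s₂ : W → Finset W := fun p => Finset.univ \ {0, p}
    let s₃ : W × W → Finset W := fun p => Finset.univ \ {0, p.1, p.2, p.1 + p.2}
    let Tri : Finset ((W × W) × W) := ((((Finset.univ : Finset W).erase 0).biUnion
      fun p => (s₂ p).image (Prod.mk p))).biUnion fun p => (s₃ p).image (Prod.mk p)
    let f : H ⧸ act.ker → Tri := Quotient.lift (fun g : H => (⟨((act g u, act g au), act g aau), by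
      have hne : ∀ v : W, v ≠ 0 → act g v ≠ 0 := fun v hv e => hv (hinv g v e)
      have hne2 : ∀ v v' : W, v ≠ v' → act g v ≠ act g v' := fun v v' hv e => by
        apply hv
        have h1 := hinv g (v + v') (by rw [map_add, e, R.two])
        rw [eq_neg_of_add_eq_zero_left h1, D.neg_mem_eq]
      obtain ⟨i1, i2, i3⟩ := hind
      simp only [Finset.mem_insert, Finset.mem_singleton, not_or] at i3
      refine Finset.mem_biUnion.2 ⟨(act g u, act g au), Finset.mem_biUnion.2 ⟨act g u,
        Finset.mem_erase.2 ⟨hne u hu0', Finset.mem_univ _⟩, Finset.mem_image_of_mem _ ?_⟩,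
        Finset.mem_image_of_mem _ ?_⟩
      · simp only [s₂, Finset.mem_sdiff, Finset.mem_univ, Finset.mem_insert, Finset.mem_singleton, true_and, not_or]
        exact ⟨hne au i1, hne2 au u i2⟩
      · simp only [s₃, Finset.mem_sdiff, Finset.mem_univ, Finset.mem_insert, Finset.mem_singleton, true_and, not_or]
        exact ⟨hne aau i3.1, hne2 aau u i3.2.1, hne2 aau au i3.2.2.1, by rw [← map_add]; exact hne2 _ _ i3.2.2.2⟩⟩ : Tri))
      (fun p q hpq => by
        have hm : act (p⁻¹ * q) = 1 := MonoidHom.mem_ker.1 (QuotientGroup.leftRel_apply.1 hpq)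
        have e : act p = act q := by
          rw [← mul_one (act p), ← hm, ← map_mul, mul_inv_cancel_left]
        simp only [e])
    have hf : Function.Injective f := fun p q e => by
      induction p using Quotient.inductionOn
      induction q using Quotient.inductionOn
      rename_i p q
      refine Quotient.sound (QuotientGroup.leftRel_apply.2 (MonoidHom.mem_ker.2 ?_))
      have e' := congrArg Subtype.val e
      simp only [f, Quotient.lift_mk, Prod.mk.injEq] at e'
      rw [map_mul, ← hdet _ _ e'.1.1 e'.1.2 e'.2, ← map_mul, inv_mul_cancel, map_one]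
    rw [Subgroup.index]
    have h1 := Nat.card_le_card_of_injective f hf
    rw [Nat.card_eq_fintype_card (α := Tri), Fintype.card_coe] at h1
    refine h1.trans ?_
    show Tri.card ≤ 168
    refine Finset.card_biUnion_le_card_mul _ _ 4 (fun p hp => ?_) |>.trans ?_
    · obtain ⟨p1, hp1, hp'⟩ := Finset.mem_biUnion.1 hp
      obtain ⟨p2, hp2, rfl⟩ := Finset.mem_image.1 hp'
      simp only [Finset.mem_erase] at hp1
      simp only [s₂, Finset.mem_sdiff, Finset.mem_univ, Finset.mem_insert, Finset.mem_singleton, true_and, not_or] at hp2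
      refine Finset.card_image_le.trans ?_
      have e4 : ({0, p1, p2, p1 + p2} : Finset W).card = 4 := by
        rw [Finset.card_eq_four]
        refine ⟨_, _, _, _, hp1.1.symm, Ne.symm hp2.1, ?_, Ne.symm hp2.2, ?_, ?_, rfl⟩
        · intro e; exact hp2.2 ((eq_neg_of_add_eq_zero_left e.symm).trans (D.neg_mem_eq p2)).symm
        · intro e; exact hp2.1 (left_eq_add.1 e)
        · intro e; exact hp1.1 (right_eq_add.1 e)
      rw [show s₃ (p1, p2) = Finset.univ \ {0, p1, p2, p1 + p2} from rfl,
        Finset.card_sdiff_of_subset (Finset.subset_univ _), e4, Finset.card_univ, h8]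
    · refine (Nat.mul_le_mul_right 4 (Finset.card_biUnion_le_card_mul _ _ 6 fun p hp => ?_)).trans ?_
      · refine Finset.card_image_le.trans ?_
        simp only [Finset.mem_erase] at hp
        rw [show s₂ p = Finset.univ \ {0, p} from rfl, Finset.card_sdiff_of_subset (Finset.subset_univ _),
          Finset.card_pair hp.1.symm, Finset.card_univ, h8]
      · rw [Finset.card_erase_of_mem (Finset.mem_univ _), Finset.card_univ, h8]
  have hkerK : act.ker ≤ K.subgroupOf H := fun g hg => mem_subgroupOf.2 (R.ker g (MonoidHom.mem_ker.1 hg))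
  have hKH : Nat.card (K.subgroupOf H) = Nat.card K := Nat.card_congr (subgroupOfEquivOfLe T.leH).toEquiv
  have h1 : Nat.card act.ker ≤ Nat.card K := hKH ▸ Nat.le_of_dvd Nat.card_pos (card_dvd_of_le hkerK)
  have h2' : Nat.card L ≤ Nat.card H := Nat.le_of_dvd Nat.card_pos (card_dvd_of_le T.leL)
  have h3 : Nat.card H ≤ 168 * Nat.card act.ker := by
    rw [← act.ker.card_mul_index, mul_comm]
    exact Nat.mul_le_mul_right _ hidx
  have hHL : H = L := (Subgroup.eq_of_le_of_card_ge T.leL (by omega)).symm
  have hkeq : act.ker = K.subgroupOf H := Subgroup.eq_of_le_of_card_ge hkerK (by rw [hKH]; omega)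
  refine ⟨h168, hW, hspan.1, hHL, fun g hg => MonoidHom.mem_ker.1 ?_⟩
  rw [hkeq]
  exact mem_subgroupOf.2 hg

/-- With four fixed points and trivial core there are three possible orders. -/
theorem Rep.four (h : Hyp x V) (T : Top x V H K L) (R : Rep x K act) (h168 : Nat.card L = 168 * Nat.card K)
    (h4 : Nat.card R.fix = 4) (hK : ∀ g : H, (g : G) ∈ K → act g = 1)
    (hfree : ∀ a : H, (a : G) ∈ L → (a : G) ∉ K → (a : G) ^ 7 ∈ K → ∀ w ∈ R.fix, act a w = w → w = 0) :
    Nat.card W = 64 ∨ Nat.card W = 256 ∨ Nat.card W = 1024 := by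
  have hexp : ∀ (g : H), (g : G) ^ 7 ∈ K → ∀ P : Subgroup G, Fpf x P → (g : G) ∈ P → ¬ 2 ∣ Nat.card P →
      act g ^ 7 = 1 := fun g hg _ _ _ _ => by rw [← map_pow]; exact hK _ hg
  obtain ⟨y, a, hy, haL, haK, ha7, D0⟩ := R.exists_frob h T h168 hexp
  have hfixy : Frob.fixX (act y) = R.fix := R.fix_eq h hy
  have D : Frob.Data (act y) (act a) := ⟨D0, by
    show Nat.card (Frob.fixX (act y)) ≤ 4
    rw [hfixy, h4], fun w hw1 hw2 => hfree a haL haK ha7 w (hfixy ▸ hw1) hw2⟩
  obtain ⟨n, hW, hn3, hnle, hnC⟩ := R.card_shape h T h168 hy haL haK ha7 D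
  have hspan : Nat.card (Frob.span (act y) (act a)) = 64 := by
    rcases D.card_span with ⟨e, -⟩ | ⟨e, -⟩ | ⟨-, e⟩
    · rw [hfixy, h4] at e; omega
    · rw [hfixy, h4] at e; omega
    · exact e
  rw [hspan, h4] at hnle
  rw [hspan] at hW
  obtain ⟨m, hm⟩ := D.card_eq_two_pow (Frob.fixA (act a))
  rw [← hnC] at hm
  have hm4 : m ≤ 4 := (Nat.pow_le_pow_iff_right (by norm_num : 1 < 2)).1 (by rw [← hm]; omega)
  interval_cases m <;> subst hm <;> norm_num at * <;> omega

end Cfsg.Lib.ThreeFour
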