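import Cfsg.Agent.ThreeFour.Local.QuatShape
import Cfsg.Agent.S1203
import Cfsg.Agent.S1207
import Cfsg.Agent.TwoFusion.AutomizerIndex

/-!
The quaternion case does not occur.
-/

set_option autoImplicit false
set_option linter.unusedSectionVars false
set_option linter.style.haveILetI false

namespace Cfsg.Lib.ThreeFour

open Subgroup
open Cfsg.Lib.SelfCentThree (Inv P3)

universe u

/-- The arithmetic of a centraliser of order 48 with all involutions conjugate. -/
theorem quat_numeric {g s F : ℕ} (hcl : Cls g 2 2 s F 2 48) (hg : 3 * 2 ^ 2 * g = s ^ 2 * F * (F + 1) * 2)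
    (h5 : ¬ 5 ∣ g) (h3 : 3 ∣ s ∧ ¬ 9 ∣ s) (hm : F % 3 = 1) (h16 : 16 ∣ g) (h32 : ¬ 32 ∣ g)
    (hck : Checks g F [48]) : False := by
  obtain ⟨-, L, D⟩ := hcl
  obtain ⟨j, rfl⟩ := h3.1
  have heq := D.eqn
  have hjL : j * L = 96 := by
    have e : 3 * j * 2 * L = 6 * (j * L) := by ring
    omega
  obtain ⟨l, rfl⟩ := D.four
  have hjl : j * l = 24 := by
    have e : j * (4 * l) = 4 * (j * l) := by ring
    omega
  have hjd : j ∣ 24 := Dvd.intro l hjl
  have hj24 : j ≤ 24 := Nat.le_of_dvd (by norm_num) hjd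
  have hsq := D.sq_le
  have hlo : (4 * l : ℤ) ≤ F + 5 := by push_cast at hsq; nlinarith [hsq]
  have hhi : (F : ℤ) ≤ 4 * l + 4 := by push_cast at hsq; nlinarith [hsq]
  have hlo' : 4 * l ≤ F + 5 := by omega
  have hhi' : F ≤ 4 * l + 4 := by omega
  have key : g = 12144 ∧ F = 22 := by
    have h9 := h3.2
    interval_cases j <;> try omega
    all_goals
      obtain ⟨hFlo, hFhi⟩ : 4 * l - 5 ≤ F ∧ F ≤ 4 * l + 4 := ⟨by omega, hhi'⟩
      rcases (show l = 24 ∨ l = 12 ∨ l = 6 ∨ l = 3 by omega) with rfl | rfl | rfl | rfl <;> try omega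
      norm_num at hFlo hFhi
      interval_cases F <;> norm_num at hg <;> omega
  obtain ⟨rfl, rfl⟩ := key
  obtain ⟨kk, E, hd, hrest, hk2, hk10, -, hE3, hev, hsep⟩ :=
    hck.2 11 (by norm_num) (by norm_num) (by norm_num) (by norm_num)
  have hE2 : ¬ 2 ∣ E := fun e => by
    obtain ⟨a, ha, hd'⟩ := hev e
    rw [List.mem_singleton] at ha
    subst ha
    norm_num at hd'
  have hkk : kk = 2 := by
    have hk : kk ≤ 10 := Nat.le_of_dvd (by norm_num) hk10
    have h1 : kk ∣ 1104 := by
      have h2 : 11 * kk ∣ 11 * 1104 := (dvd_mul_right _ E).trans hd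
      exact Nat.dvd_of_mul_dvd_mul_left (by norm_num) h2
    interval_cases kk <;> omega
  subst hkk
  have hEd : E ∣ 552 := Nat.dvd_of_mul_dvd_mul_left (show 0 < 22 by norm_num) (by simpa using hd)
  have hEn : E ∈ Nat.divisors 552 := Nat.mem_divisors.2 ⟨hEd, by norm_num⟩
  have hcases : E = 1 ∨ E = 23 := by
    have : ∀ e ∈ Nat.divisors 552, ¬ 2 ∣ e → ¬ 3 ∣ e → e = 1 ∨ e = 23 := by decide +kernel
    exact this E hEn hE2 hE3
  rcases hcases with rfl | rfl
  · norm_num at hrest
  · refine (hsep 23 (by norm_num) dvd_rfl).1 ⟨by norm_num, by norm_num, ?_, ?_⟩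
    · rw [show (12144 : ℕ) = 11 * 1104 by norm_num, show (22 : ℕ) = 11 * 2 by norm_num,
        Nat.factorization_mul (by norm_num) (by norm_num), Nat.factorization_mul (by norm_num) (by norm_num),
        Finsupp.add_apply, Finsupp.add_apply,
        Nat.factorization_eq_zero_of_not_dvd (show ¬ 11 ∣ 1104 by norm_num),
        Nat.factorization_eq_zero_of_not_dvd (show ¬ 11 ∣ 2 by norm_num)]
    · rw [show (12144 : ℕ) = 23 * 528 by norm_num, show (22 + 1 : ℕ) = 23 * 1 by norm_num,
        Nat.factorization_mul (by norm_num) (by norm_num), Nat.factorization_mul (by norm_num) (by norm_num),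
        Finsupp.add_apply, Finsupp.add_apply,
        Nat.factorization_eq_zero_of_not_dvd (show ¬ 23 ∣ 528 by norm_num),
        Nat.factorization_eq_zero_of_not_dvd (show ¬ 23 ∣ 1 by norm_num)]

variable {G : Type u} [Group G] [Finite G] {x τ σ : G} {V K Q : Subgroup G} {u : G} {F s k : ℕ} {h : G → ℤ}

/-- Some element conjugates an inverting involution to its product with `u`. -/
theorem Quat.isConj_mul (T : Quat x V Q u) (H : Hyp x V) (hσ : Tau x V σ) (hσQ : σ ∈ normalizer (Q : Set G)) :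
    IsConj σ (σ * u) := by
  obtain ⟨a, ha, -, e⟩ := T.exists_inverted H hσ hσQ
  refine isConj_iff.2 ⟨a, ?_⟩
  have hu' : u⁻¹ = u := H.inv_eq T.mem
  calc a * σ * a⁻¹ = a * (σ * a * σ⁻¹)⁻¹ * σ := by group
    _ = a * u⁻¹ * a⁻¹ * σ := by rw [e]; group
    _ = σ * u := by rw [hu', (T.cent a ha).eq, mul_inv_cancel_right, (hσ.fix u T.mem).eq]

/-- All involutions are conjugate in the quaternion case. -/
theorem Full.quat_two (f : Full x V τ F h s k) (T : Quat x V Q u) (hσ : Tau x V σ)
    (hσQ : σ ∈ normalizer (Q : Set G)) :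
    k = 2 ∧ (∀ t : G, orderOf t = 2 → IsConj t u) ∧ Cls (Nat.card G) 2 2 s F 2 (cen u) ∧
      Checks (Nat.card G) F [cen u] := by
  classical
  have H := f.setting.hyp
  refine (f.two_lists T.v2 T.mem T.ne).resolve_right fun ⟨hk, _, _⟩ => ?_
  obtain ⟨i, hi, w, hw, e⟩ := f.toCtx.tau.mem_coset H hσ.conj
  have h1 : IsConj (τ * w) (τ * (w * u)) := by
    refine (f.toCtx.tau.isConj_coset H hi hw).trans ((e ▸ T.isConj_mul H hσ hσQ :
      IsConj (τ * (i * w)) (τ * (i * w) * u)).trans ?_)
    rw [show τ * (i * w) * u = τ * (i * (w * u)) by group]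
    exact (f.toCtx.tau.isConj_coset H hi (V.mul_mem hw T.mem)).symm
  have hwu : w * u ≠ w := fun e => T.ne (mul_eq_left.1 e)
  haveI := Fintype.ofFinite V
  have hV : Fintype.card V = 2 := by rw [← Nat.card_eq_fintype_card, T.v2]
  have hall : ∀ a : V, (a : G) = w ∨ (a : G) = w * u := fun a => by
    by_contra hno
    push Not at hno
    have h3 : ({a, ⟨w, hw⟩, ⟨w * u, V.mul_mem hw T.mem⟩} : Finset V).card = 3 := by
      repeat' rw [Finset.card_insert_of_notMem]
      · rfl
      all_goals simp [Subtype.ext_iff, hno.1, hno.2, Ne.symm hwu]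
    have := Finset.card_le_univ ({a, ⟨w, hw⟩, ⟨w * u, V.mul_mem hw T.mem⟩} : Finset V)
    omega
  obtain ⟨t, -, hodd⟩ := f.norm.mu_one hk
  have hpos : 0 < mu V τ t := by omega
  rw [mu, Nat.card_pos_iff] at hpos
  obtain ⟨⟨a₀, ha₀⟩⟩ := hpos.1
  have hevery : ∀ a : V, IsConj t (τ * (a : G)) := fun a => by
    have h0 : IsConj t (τ * w) := by
      rcases hall a₀ with e' | e' <;> rw [e'] at ha₀
      · exact ha₀
      · exact ha₀.trans h1.symm
    rcases hall a with e' | e' <;> rw [e']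
    · exact h0
    · exact h0.trans h1
  have hmu : mu V τ t = 2 := by
    rw [mu, ← T.v2]
    exact Nat.card_congr (Equiv.subtypeUnivEquiv hevery)
  omega

/-- The quaternion case does not occur. -/
theorem Full.not_quat (f : Full x V τ F h s k) (C : Core x V τ u K) (T : Quat x V Q u) (hQK : Q ≤ K)
    (hKc : (Nat.card K).factorization 2 = 3) : False := by
  classical
  haveI : Fact (Nat.Prime 2) := ⟨Nat.prime_two⟩
  have H := f.setting.hyp
  have hQc : Nat.card Q = 2 ^ (Nat.card K).factorization 2 := by rw [T.card, hKc]; rfl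
  obtain ⟨σ, hσ, hσK, hσQ⟩ := exists_tau_normalizing H f.toCtx.tau C.three C.inv C.tau hQK T.inv hQc
  obtain ⟨R, hRK, hR2, hKR, hRn, hodd⟩ := exists_complement T H C hQK hKc
  obtain ⟨hk, hall, hcls, hck⟩ := f.quat_two T hσ hσQ
  obtain ⟨hS16, hQD⟩ := quasiDihedral_sup T H hσ hσQ
  set Y := centralizer ({u} : Set G) with hY
  have hσY : σ ∈ Y := mem_centralizer_singleton_iff.2 (hσ.fix u T.mem).eq
  have hQY : Q ≤ Y := hQK.trans C.sub
  have hcu : cen u = 48 * Nat.card R := by
    rw [cen, C.card, hKR]; ring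
  -- the Sylow two-subgroups have order sixteen
  have h16 : 16 ∣ Nat.card G := hS16 ▸ card_subgroup_dvd_card _
  have h32 : ¬ 32 ∣ Nat.card G := fun h32 => by
    obtain ⟨a, ha, hdiv⟩ := hck.1
    rw [List.mem_singleton] at ha
    rw [ha, hcu] at hdiv
    have h5 : 2 ^ 5 ∣ 48 * Nat.card R := ((pow_dvd_pow 2 ((Nat.Prime.pow_dvd_iff_le_factorization Nat.prime_two
      Nat.card_pos.ne').1 (show 2 ^ 5 ∣ Nat.card G from h32)))).trans hdiv
    omega
  have hg2 : (Nat.card G).factorization 2 = 4 := by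
    refine le_antisymm ?_ ((Nat.Prime.pow_dvd_iff_le_factorization Nat.prime_two Nat.card_pos.ne').1 h16)
    by_contra hlt
    exact h32 ((Nat.Prime.pow_dvd_iff_le_factorization Nat.prime_two Nat.card_pos.ne').2
      (show 5 ≤ _ by omega))
  -- the odd part is trivial
  have hR : R = ⊥ := by
    have hxY : x ∈ Y := f.toCtx.x_mem_cent T.mem
    have hRI : Inv x R := SelfCentThree.inv_of_mem_normalizer (hRn hxY)
    have hRf : Fpf x R := fpf_of_odd H hRI hR2 fun hx => C.three (H.ord ▸ Subgroup.orderOf_dvd_natCard K (hRK hx))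
    by_cases hbot : R ⊓ centralizer ({σ} : Set G) = ⊥
    · have hi := inverts_of_inf_bot hσ.sq (hRn hσY) hbot
      refine eq_bot_iff.2 fun r hr => mem_bot.2 (hRf.fix r hr ?_)
      have hxσ : σ * x = x⁻¹ * σ := by rw [← hσ.conj]; group
      have e1 : (x * σ * x⁻¹) * r * (x * σ * x⁻¹)⁻¹ = r⁻¹ := by
        rw [show x * σ * x⁻¹ * r * (x * σ * x⁻¹)⁻¹ = x * (σ * (x⁻¹ * r * x) * σ⁻¹) * x⁻¹ by group,
          hi _ (inv_back H hRI hr)]
        group
      have e2 : x * σ * x⁻¹ = x⁻¹ * σ := by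
        calc x * σ * x⁻¹ = x * (σ * x⁻¹ * σ⁻¹) * σ := by group
          _ = x⁻¹ * σ := by rw [hσ.conj_inv_x, H.mul_self]
      rw [e2, show x⁻¹ * σ * r * (x⁻¹ * σ)⁻¹ = x⁻¹ * (σ * r * σ⁻¹) * x by group, hi r hr] at e1
      have e3 : x⁻¹ * r * x = r := by
        have := congrArg Inv.inv e1
        simpa [mul_assoc] using this
      show r * x = x * r
      calc r * x = x * (x⁻¹ * r * x) := by group
        _ = x * r := by rw [e3]
    exfalso
    obtain ⟨r, hr, hr1⟩ := SetLike.not_le_iff_exists.1 fun hle : R ⊓ centralizer ({σ} : Set G) ≤ ⊥ =>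
      hbot (le_bot_iff.1 hle)
    rw [mem_bot] at hr1
    set Z := centralizer ({r} : Set G) with hZ
    have hQR := quat_centralizes T H C hQK hRK hR2 hRn
    have hrσ : r * σ = σ * r := mem_centralizer_singleton_iff.1 hr.2
    have hQZ : Q ≤ Z := fun q hq =>
      mem_centralizer_singleton_iff.2 ((mem_centralizer_iff.1 (hQR hq)) r hr.1).symm
    have hσZ : σ ∈ Z := mem_centralizer_singleton_iff.2 hrσ.symm
    have hSZ : Q ⊔ zpowers σ ≤ Z := sup_le hQZ (zpowers_le.2 hσZ)
    have hro : ¬ 2 ∣ orderOf r := fun e => hR2 (e.trans (Subgroup.orderOf_dvd_natCard R hr.1))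
    have hr3 : ¬ 3 ∣ orderOf r := fun e =>
      C.three (e.trans (Subgroup.orderOf_dvd_natCard K (hRK hr.1)))
    have hZ3 : ¬ 3 ∣ Nat.card Z := fun h3 => by
      haveI : Fact (Nat.Prime 3) := ⟨Nat.prime_three⟩
      obtain ⟨⟨y, hy⟩, ho⟩ := exists_prime_orderOf_dvd_card' (G := Z) 3 h3
      rw [Subgroup.orderOf_mk] at ho
      obtain ⟨g, hg⟩ := H.exists_conj_mem ho
      have hyr : y * r = r * y := mem_centralizer_singleton_iff.1 hy
      have hc : Commute (g⁻¹ * r * g) x := by
        have h1 : Commute (g⁻¹ * r * g) (g⁻¹ * y * g) := by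
          show g⁻¹ * r * g * (g⁻¹ * y * g) = g⁻¹ * y * g * (g⁻¹ * r * g)
          rw [show g⁻¹ * r * g * (g⁻¹ * y * g) = g⁻¹ * (r * y) * g by group, ← hyr]; group
        rcases hg with e | e <;> rw [e] at h1
        · exact h1
        · exact inv_inv x ▸ h1.inv_right
      obtain ⟨i, hi, v, hv, e⟩ := H.cent _ hc
      have h6 : (g⁻¹ * r * g) ^ 6 = 1 := by
        rw [e, show (6 : ℕ) = 3 * 2 from rfl, pow_mul, H.cube hi hv, pow_two, H.sq v hv]
      have h7 : r ^ 6 = 1 := by
        calc r ^ 6 = g * (g⁻¹ * r * g) ^ 6 * g⁻¹ := by rw [← conj_pow]; congr 1; group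
          _ = 1 := by rw [h6]; group
      have h8 := orderOf_dvd_of_pow_eq_one h7
      have h9 : orderOf r ≤ 6 := Nat.le_of_dvd (by norm_num) h8
      have h10 : orderOf r ≠ 1 := fun e' => hr1 (orderOf_eq_one_iff.1 e')
      have h11 := orderOf_pos r
      interval_cases orderOf r <;> omega
    have hSc : Nat.card ((Q ⊔ zpowers σ).subgroupOf Z) = 2 ^ (Nat.card Z).factorization 2 := by
      rw [Nat.card_congr (subgroupOfEquivOfLe hSZ).toEquiv, hS16]
      refine le_antisymm ?_ ?_
      · refine (show 16 = 2 ^ 4 from rfl).le.trans (Nat.pow_le_pow_right (by norm_num)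
          ((Nat.Prime.pow_dvd_iff_le_factorization Nat.prime_two Nat.card_pos.ne').1 ?_))
        rw [show (2 : ℕ) ^ 4 = Nat.card (Q ⊔ zpowers σ : Subgroup G) from hS16.symm]
        exact card_dvd_of_le hSZ
      · rw [show 16 = 2 ^ 4 from rfl, ← hg2]
        exact Nat.pow_le_pow_right (by norm_num) ((Nat.factorization_le_iff_dvd Nat.card_pos.ne' Nat.card_pos.ne').2
          (card_subgroup_dvd_card Z) 2)
    let S : Sylow 2 Z := Sylow.ofCard ((Q ⊔ zpowers σ).subgroupOf Z) hSc
    have hSQ : Cfsg.IsQuasiDihedral (S : Subgroup Z) := by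
      obtain ⟨n, hn, hcard, a, b, ha, hb, hab⟩ := hQD
      let e : (Q ⊔ zpowers σ : Subgroup G) ≃* (S : Subgroup Z) := (subgroupOfEquivOfLe hSZ).symm
      refine ⟨n, hn, (Nat.card_congr e.toEquiv).symm.trans hcard, e a, e b, ?_, ?_, ?_⟩
      · rw [MulEquiv.orderOf_eq, ha]
      · rw [MulEquiv.orderOf_eq, hb]
      · rw [← map_inv, ← map_mul, ← map_mul, ← map_pow, hab]
    obtain ⟨eQ⟩ := T.equiv H
    let eQZ : (Q.subgroupOf Z) ≃* QuaternionGroup 2 := (subgroupOfEquivOfLe hQZ).trans eQ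
    have hQS : Q.subgroupOf Z ≤ (S : Subgroup Z) := fun a ha => mem_sup_left (mem_subgroupOf.1 ha)
    -- the four-group
    have huZ : u ∈ Z := hQZ T.inQ
    set uZ : Z := ⟨u, huZ⟩
    set σZ : Z := ⟨σ, hσZ⟩
    set A : Subgroup Z := closure {uZ, σZ} with hA
    have huσ : Commute uZ σZ := Subtype.ext (hσ.fix u T.mem).eq.symm
    have hu2 : uZ * uZ = 1 := Subtype.ext (H.sq u T.mem)
    have hσ2 : σZ * σZ = 1 := Subtype.ext hσ.sq
    have hmemA : ∀ a : Z, a ∈ A → a = 1 ∨ a = uZ ∨ a = σZ ∨ a = uZ * σZ := fun a ha => by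
      induction ha using closure_induction with
      | mem a ha => rcases ha with rfl | rfl <;> simp
      | one => simp
      | mul a b _ _ ha hb =>
        have e1 : σZ * uZ = uZ * σZ := huσ.eq.symm
        rcases ha with rfl | rfl | rfl | rfl <;> rcases hb with rfl | rfl | rfl | rfl <;>
          simp [e1, hu2, hσ2, mul_assoc, ← mul_assoc uZ uZ, ← mul_assoc σZ σZ, ← mul_assoc σZ uZ]
      | inv a _ ha =>
        have e1 : σZ⁻¹ = σZ := inv_eq_of_mul_eq_one_left hσ2
        have e2 : uZ⁻¹ = uZ := inv_eq_of_mul_eq_one_left hu2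
        rcases ha with rfl | rfl | rfl | rfl <;> simp [e1, e2, huσ.eq]
    have hAk : IsKleinFour A := by
      have hne1 : uZ ≠ 1 := fun e => T.ne (congrArg Subtype.val e)
      have hne2 : σZ ≠ 1 := fun e => hσ.ne_one H (congrArg Subtype.val e)
      have hne3 : σZ ≠ uZ := fun e => hσ.not_commute H (by
        rw [show σ = u from congrArg Subtype.val e]; exact H.comm u T.mem)
      have hsetA : (A : Set Z) = {1, uZ, σZ, uZ * σZ} := by
        ext a
        refine ⟨fun ha => by simpa using hmemA a ha, ?_⟩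
        rintro (rfl | rfl | rfl | rfl)
        · exact A.one_mem
        · exact subset_closure (by simp)
        · exact subset_closure (by simp)
        · exact A.mul_mem (subset_closure (by simp)) (subset_closure (by simp))
      have hc4 : Nat.card A = 4 := by
        rw [show Nat.card A = (A : Set Z).ncard from Nat.card_coe_set_eq _, hsetA,
          Set.ncard_insert_of_notMem (by
            simp only [Set.mem_insert_iff, Set.mem_singleton_iff, not_or]
            refine ⟨Ne.symm hne1, Ne.symm hne2, fun e => hne3 ?_⟩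
            rw [eq_inv_of_mul_eq_one_right e.symm, inv_eq_of_mul_eq_one_left hu2]) (Set.toFinite _),
          Set.ncard_insert_of_notMem (by
            simp only [Set.mem_insert_iff, Set.mem_singleton_iff, not_or]
            exact ⟨Ne.symm hne3, fun e => hne2 (mul_eq_left.1 e.symm)⟩) (Set.toFinite _),
          Set.ncard_insert_of_notMem (by
            simp only [Set.mem_singleton_iff]
            exact fun e => hne1 (mul_eq_right.1 e.symm)) (Set.toFinite _), Set.ncard_singleton]
      haveI : Nontrivial A := Finite.one_lt_card_iff_nontrivial.1 (by omega)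
      refine ⟨hc4, (Monoid.exponent_eq_prime_iff Nat.prime_two).2 ?_⟩
      · intro a ha1
        refine orderOf_eq_prime ?_ ha1
        have hsq : ∀ b : Z, b ∈ A → b ^ 2 = 1 := fun b hb => by
          rcases hmemA b hb with rfl | rfl | rfl | rfl
          · exact one_pow 2
          · rw [pow_two, hu2]
          · rw [pow_two, hσ2]
          · rw [huσ.mul_pow, pow_two, pow_two, hu2, hσ2, one_mul]
        exact Subtype.ext (by rw [Subgroup.coe_pow]; exact hsq a a.2)
    have hAS : A ≤ (S : Subgroup Z) := (closure_le _).2 (by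
      rintro a (rfl | rfl)
      · exact mem_sup_left T.inQ
      · exact mem_sup_right (mem_zpowers σ))
    obtain ⟨h1, h2⟩ := Cfsg.Agent.S1203.result S hSQ A hAk hAS (Q.subgroupOf Z) hQS eQZ
    have h6 : ∀ B C : Subgroup Z, B.relIndex C ≠ 6 := fun B C e => hZ3 ((show (3 : ℕ) ∣ 6 by norm_num).trans
      (e ▸ (B.subgroupOf C).index_dvd_card.trans (card_subgroup_dvd_card C)))
    obtain ⟨⟨P, N, hN, hc⟩, -, -⟩ := Cfsg.Agent.S1207.result S hSQ A hAk hAS (Q.subgroupOf Z) hQS eQZ
      (h1.resolve_right (h6 _ _)) (h2.resolve_right (h6 _ _))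
    haveI := hN
    -- the element `σ` is a square
    obtain ⟨g, hg⟩ := isConj_iff.1 (hall σ (hσ.orderOf_eq H)).symm
    have hr' : g⁻¹ * r * g ∈ Y := mem_centralizer_singleton_iff.2 (by
      calc g⁻¹ * r * g * u = g⁻¹ * (r * (g * u * g⁻¹)) * g := by group
        _ = g⁻¹ * ((g * u * g⁻¹) * r) * g := by rw [hg, hrσ]
        _ = u * (g⁻¹ * r * g) := by group)
    have hr'o : orderOf (g⁻¹ * r * g) = orderOf r := by
      rw [show g⁻¹ * r * g = MulAut.conj g⁻¹ r by simp, MulEquiv.orderOf_eq]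
    have hr'R : g⁻¹ * r * g ∈ R := by
      refine hodd _ (C.mem_of_coprime hr' ?_) (by rw [hr'o]; exact hro)
      rw [hr'o, show (6 : ℕ) = 2 * 3 by norm_num]
      exact Nat.Coprime.mul_right (Nat.prime_two.coprime_iff_not_dvd.2 hro).symm
        (Nat.prime_three.coprime_iff_not_dvd.2 hr3).symm
    obtain ⟨a, ha, hau, -⟩ := T.exists_inverted H hσ hσQ
    have hb : g * a * g⁻¹ ∈ Z := mem_centralizer_singleton_iff.2 (by
      have e := (mem_centralizer_iff.1 (hQR ha)) _ hr'R
      calc g * a * g⁻¹ * r = g * (a * (g⁻¹ * r * g)) * g⁻¹ := by group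
        _ = g * ((g⁻¹ * r * g) * a) * g⁻¹ := by rw [e]
        _ = r * (g * a * g⁻¹) := by group)
    set b : Z := ⟨g * a * g⁻¹, hb⟩
    have hbσ : b * b = σZ := Subtype.ext (by
      show g * a * g⁻¹ * (g * a * g⁻¹) = σ
      rw [← hg, ← T.sq a ha hau]; group)
    -- in the quotient by the complement
    have hcm := hc.card_mul
    have hSP : Nat.card S = Nat.card P := by rw [S.card_eq_multiplicity, P.card_eq_multiplicity]
    have hπS : ∀ a ∈ (S : Subgroup Z), a ∈ N → a = 1 := fun a ha haN => by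
      have h1 : orderOf a ∣ Nat.card S := Subgroup.orderOf_dvd_natCard _ ha
      have h2 : orderOf a ∣ Nat.card N := Subgroup.orderOf_dvd_natCard N haN
      have hcop : (Nat.card S).Coprime (Nat.card N) := by
        rw [S.card_eq_multiplicity]
        refine Nat.Coprime.pow_left _ (Nat.prime_two.coprime_iff_not_dvd.2 fun e2 => ?_)
        have h5 : 2 ^ ((Nat.card Z).factorization 2 + 1) ∣ Nat.card N * Nat.card P := by
          rw [pow_succ', ← P.card_eq_multiplicity]
          exact Nat.mul_dvd_mul_right e2 _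
        rw [hcm] at h5
        rw [Nat.Prime.pow_dvd_iff_le_factorization Nat.prime_two Nat.card_pos.ne'] at h5
        omega
      exact orderOf_eq_one_iff.1 (Nat.eq_one_of_dvd_coprimes hcop h1 h2)
    let π := QuotientGroup.mk' N
    have hπsurj : ∀ q : Z ⧸ N, ∃ a ∈ (S : Subgroup Z), π a = q := by
      intro q
      let φ : (S : Subgroup Z) →* Z ⧸ N := π.comp (S : Subgroup Z).subtype
      have hφi : Function.Injective φ := (injective_iff_map_eq_one φ).2 fun a ha =>
        Subtype.ext (hπS a a.2 ((QuotientGroup.eq_one_iff (a : Z)).1 ha))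
      have hcardq : Nat.card (Z ⧸ N) = Nat.card (S : Subgroup Z) := by
        have e := Subgroup.card_eq_card_quotient_mul_card_subgroup N
        rw [← hcm, mul_comm] at e
        exact (Nat.eq_of_mul_eq_mul_right Nat.card_pos e).symm.trans hSP.symm
      obtain ⟨a, rfl⟩ := (Nat.bijective_iff_injective_and_card φ).2 ⟨hφi, hcardq.symm⟩ |>.2 q
      exact ⟨a, a.2, rfl⟩
    obtain ⟨c, hcS, hcb⟩ := hπsurj (π b)
    have hceq : c * c = σZ := by
      have hm : c * c * σZ⁻¹ ∈ N := (QuotientGroup.eq_one_iff _).1 (by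
        show π (c * c * σZ⁻¹) = 1
        rw [map_mul, map_mul, hcb, ← map_mul, hbσ, map_inv, mul_inv_cancel])
      exact mul_inv_eq_one.1 (hπS _ (mul_mem (mul_mem hcS hcS) (inv_mem (mem_sup_right (mem_zpowers σ)))) hm)
    -- no element of `Q⟨σ⟩` squares to `σ`
    have hcm' : (c : G) ∈ Q ⊔ zpowers σ := hcS
    have hc2 : (c : G) * c = σ := congrArg Subtype.val hceq
    rw [← SetLike.mem_coe, coe_mul_of_right_le_normalizer_left _ _ (zpowers_le.2 hσQ)] at hcm'
    obtain ⟨q, hq, z, hz, e⟩ := hcm'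
    have hσnQ : σ ∉ Q := fun hm => hσ.not_commute H (by
      rcases T.sq_u H hm with ⟨-, h'⟩ | ⟨h', -⟩
      · rcases (T.mem_zpowers_iff H).1 h' with e' | e' <;> rw [e']
        · exact Commute.one_left x
        · exact H.comm u T.mem
      · exact absurd (h'.symm.trans hσ.sq) T.ne)
    obtain ⟨m, rfl⟩ := mem_zpowers_iff.1 hz
    have hσzz : σ ^ (2 : ℤ) = 1 := by rw [zpow_two, hσ.sq]
    have hn := mem_set_normalizer_iff.1 hσQ
    refine hσnQ ?_
    rw [← hc2, ← e]
    rcases Int.even_or_odd m with ⟨l, rfl⟩ | ⟨l, rfl⟩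
    · have e' : σ ^ (l + l) = 1 := by rw [← two_mul, zpow_mul, hσzz, one_zpow]
      simp only [e', mul_one]
      exact Q.mul_mem hq hq
    · have e' : σ ^ (2 * l + 1) = σ := by rw [zpow_add, zpow_mul, hσzz, one_zpow, one_mul, zpow_one]
      simp only [e']
      rw [show q * σ * (q * σ) = q * (σ * q * σ⁻¹) * (σ * σ) by group, hσ.sq, mul_one]
      exact Q.mul_mem hq ((hn q).1 hq)
  refine quat_numeric (g := Nat.card G) (s := s) (F := F) ?_ ?_ f.setting.five f.norm.three f.prin.mod_three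
    h16 h32 ?_
  · rwa [hcu, hR, card_bot, mul_one] at hcls
  · have e := f.norm.card_eq
    rwa [hk, T.v2] at e
  · rwa [hcu, hR, card_bot, mul_one] at hck

end Cfsg.Lib.ThreeFour
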