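import Cfsg.Agent.ThreeFour.Local.CentralFour

/-!
The core of the solvable centraliser of an element of `V`.
-/

set_option autoImplicit false
set_option linter.unusedSectionVars false
set_option linter.style.haveILetI false

namespace Cfsg.Lib.ThreeFour

open Subgroup
open Cfsg.Lib.SelfCentThree (Inv P3)

universe u

variable {G : Type u} [Group G] [Finite G] {x τ : G} {V K : Subgroup G} {u : G}

/-- The core for the prime three of the centraliser of `u`. -/
structure Core (x : G) (V : Subgroup G) (τ : G) (u : G) (K : Subgroup G) : Prop where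
  mem : u ∈ V
  ne : u ≠ 1
  sub : K ≤ centralizer ({u} : Set G)
  three : P3 K
  norm : centralizer ({u} : Set G) ≤ normalizer (K : Set G)
  card : Nat.card (centralizer ({u} : Set G)) = 6 * Nat.card K
  le : V ≤ K
  max : ∀ R ≤ centralizer ({u} : Set G), Inv x R → P3 R → R ≤ K
  inv : Inv x K
  tau : τ ∈ normalizer (K : Set G)

theorem Hyp.inv_of_le_V (h : Hyp x V) {R : Subgroup G} (hR : R ≤ V) : Inv x R := fun v hv => by
  rw [(h.comm v (hR hv)).symm.eq, mul_inv_cancel_right]; exact hv

theorem Hyp.p3_of_le_V (h : Hyp x V) {R : Subgroup G} (hR : R ≤ V) : P3 R := fun h3 =>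
  h.not_three_dvd_V (h3.trans (card_dvd_of_le hR))

theorem Ctx.exists_core (c : Ctx x V τ) (hu : u ∈ V) (hu1 : u ≠ 1)
    (hsol : Group.IsSolvable (centralizer ({u} : Set G))) : ∃ K, Core x V τ u K := by
  have h := c.set.hyp
  set Y := centralizer ({u} : Set G) with hY
  haveI := hsol
  have hxY : x ∈ Y := c.x_mem_cent hu
  have hτY : τ ∈ Y := c.tau_mem_cent hu
  obtain ⟨K, hKY, hK3, hKn, hidx, hmax⟩ := exists_solvable_core h hxY
  have hKI : Inv x K := SelfCentThree.inv_of_mem_normalizer (hKn hxY)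
  refine ⟨K, hu, hu1, hKY, hK3, hKn, ?_, hmax V (c.V_le_cent hu) (h.inv_of_le_V le_rfl) (h.p3_of_le_V le_rfl),
    hmax, hKI, hKn hτY⟩
  rcases hidx with e | e
  · exfalso
    haveI : (K.subgroupOf Y).Normal := (normal_subgroupOf_iff_le_normalizer hKY).2 hKn
    have hi : (K.subgroupOf Y).index = 3 := by
      have := (K.subgroupOf Y).card_mul_index
      rw [Nat.card_congr (subgroupOfEquivOfLe hKY).toEquiv, e] at this
      exact Nat.eq_of_mul_eq_mul_left Nat.card_pos (by rw [this]; ring)
    have h3 := Subgroup.pow_index_mem (K.subgroupOf Y) (⟨τ, hτY⟩ : Y)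
    rw [hi, mem_subgroupOf] at h3
    have hτK : τ ∈ K := by
      have : ((⟨τ, hτY⟩ : Y) ^ 3 : G) = τ := by
        show τ ^ 3 = τ
        rw [pow_succ, pow_two, c.tau.sq, one_mul]
      exact this ▸ h3
    have h1 : x * τ * x⁻¹ * τ⁻¹ ∈ K := K.mul_mem (hKI τ hτK) (K.inv_mem hτK)
    rw [show x * τ * x⁻¹ * τ⁻¹ = x * (τ * x⁻¹ * τ⁻¹) by group, c.tau.conj_inv_x, h.mul_self, inv_mem_iff] at h1
    exact hK3 (h.ord ▸ Subgroup.orderOf_dvd_natCard K h1)
  · exact e

/-- Sixth powers lie in the core. -/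
theorem Core.pow_six (C : Core x V τ u K) {g : G} (hg : g ∈ centralizer ({u} : Set G)) : g ^ 6 ∈ K := by
  haveI : (K.subgroupOf (centralizer ({u} : Set G))).Normal := (normal_subgroupOf_iff_le_normalizer C.sub).2 C.norm
  have hi : (K.subgroupOf (centralizer ({u} : Set G))).index = 6 := by
    have := (K.subgroupOf (centralizer ({u} : Set G))).card_mul_index
    rw [Nat.card_congr (subgroupOfEquivOfLe C.sub).toEquiv, C.card] at this
    exact Nat.eq_of_mul_eq_mul_left Nat.card_pos (by rw [this]; ring)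
  have h := Subgroup.pow_index_mem (K.subgroupOf (centralizer ({u} : Set G))) (⟨g, hg⟩ : centralizer ({u} : Set G))
  rw [hi, mem_subgroupOf] at h
  exact h

/-- An element of order prime to six lies in the core. -/
theorem Core.mem_of_coprime (C : Core x V τ u K) {g : G} (hg : g ∈ centralizer ({u} : Set G))
    (ho : (orderOf g).Coprime 6) : g ∈ K := by
  obtain ⟨m, hm⟩ := exists_pow_eq_self_of_coprime ho.symm
  rw [← hm]
  exact pow_mem (C.pow_six hg) m

/-- The order when the core is a two-group. -/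
theorem Core.solvU (C : Core x V τ u K) (h : Hyp x V) (h2 : IsPGroup 2 K) :
    SolvU (Nat.card V) (cen u) := by
  obtain ⟨j, hj⟩ := card_two_pow_four h h2 C.inv
  rw [inf_eq_right.2 C.le] at hj
  exact ⟨j, by rw [cen, C.card, hj]⟩

end Cfsg.Lib.ThreeFour
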