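import Cfsg.Agent.ThreeFour.Local.Rank
import Cfsg.Agent.ThreeFour.Local.SolvCentral
import Cfsg.Agent.ThreeFour.Local.FourQuot
import Cfsg.Agent.S0106
import Cfsg.Agent.PGroups.CyclicMaximal
import Cfsg.Agent.Classical.Misc.SmallPSL
import Cfsg.Prelude.Def_CaseTheorems

/-!
The quaternion case for two elements in `V`: the shape of the centraliser of `u`.
-/

set_option autoImplicit false
set_option linter.unusedSectionVars false
set_option linter.style.haveILetI false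

namespace Cfsg.Lib.ThreeFour

open Subgroup
open Cfsg.Lib.SelfCentThree (Inv P3)

universe u

variable {G : Type u} [Group G] [Finite G] {x τ σ : G} {V K Q : Subgroup G} {u a : G}

/-- The quaternion data. -/
structure Quat (x : G) (V Q : Subgroup G) (u : G) : Prop extends TwoFix x V Q u where
  card : Nat.card Q = 8
  sq : ∀ q ∈ Q, q ∉ zpowers u → q * q = u
  comm : ∀ q ∈ Q, ∀ r ∈ Q, q * r * q⁻¹ * r⁻¹ ∈ zpowers u

variable (T : Quat x V Q u) (H : Hyp x V)
include T H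

/-- The product of the conjugates of an element is a power of `u`. -/
theorem Quat.prod_mem {q : G} (hq : q ∈ Q) : q * (x * q * x⁻¹) * (x⁻¹ * q * x) ∈ zpowers u := by
  set q' := x * q * x⁻¹ with hq'
  set q'' := x⁻¹ * q * x with hq''
  have hq'Q : q' ∈ Q := T.inv q hq
  have hq''Q : q'' ∈ Q := inv_back H T.inv hq
  have hmQ : q' * q'' ∈ Q := Q.mul_mem hq'Q hq''Q
  have hxp : x * (q * q' * q'') * x⁻¹ = q' * q'' * q := by
    rw [show x * (q * q' * q'') * x⁻¹ = (x * q * x⁻¹) * (x * (x * q * x⁻¹) * x⁻¹) * (x * (x⁻¹ * q * x) * x⁻¹) by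
      rw [hq', hq'']; group, H.conj_conj]
    simp only [hq', hq'']; group
  refine T.fixed H (Q.mul_mem (Q.mul_mem hq hq'Q) hq''Q) ?_
  have hpu : q' * q'' * q = q * q' * q'' ∨ q' * q'' * q = q * q' * q'' * u := by
    rcases (T.mem_zpowers_iff H).1 (T.comm _ hmQ _ hq) with e | e
    · left
      rw [mul_inv_eq_iff_eq_mul.1 (mul_inv_eq_one.1 e)]; group
    · right
      have e' : q' * q'' * q = u * (q * (q' * q'')) := by rw [← e]; group
      rw [e', ← (T.cent _ (Q.mul_mem hq hmQ)).eq]; group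
  rcases hpu with e | e
  · rw [hxp, e]
  · exact absurd (hxp.trans e) (T.conj_ne H)

theorem Quat.sq_u {q : G} (hq : q ∈ Q) : q * q = 1 ∧ q ∈ zpowers u ∨ q * q = u ∧ q ∉ zpowers u := by
  by_cases hqu : q ∈ zpowers u
  · left
    refine ⟨?_, hqu⟩
    rcases (T.mem_zpowers_iff H).1 hqu with e | e <;> rw [e]
    · exact one_mul 1
    · exact H.sq u T.mem
  · exact Or.inr ⟨T.sq q hq hqu, hqu⟩

theorem Quat.pow_four {q : G} (hq : q ∈ Q) : q ^ 2 ^ 2 = 1 := by
  rw [show (2 : ℕ) ^ 2 = 2 * 2 from rfl, pow_mul, pow_two, pow_two]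
  rcases T.sq_u H hq with ⟨e, -⟩ | ⟨e, -⟩ <;> rw [e]
  · exact one_mul 1
  · exact H.sq u T.mem

theorem Quat.not_comm {p q : G} (hp : p ∈ Q) (hq : q ∈ Q) (hpu : p ∉ zpowers u) (hqu : q ∉ zpowers u)
    (hpq : p * q ∉ zpowers u) : q * p ≠ p * q := fun e => by
  have h2 := T.sq _ (Q.mul_mem hp hq) hpq
  rw [show p * q * (p * q) = p * (q * p) * q by group, e, show p * (p * q) * q = (p * p) * (q * q) by group,
    T.sq p hp hpu, T.sq q hq hqu, H.sq u T.mem] at h2
  exact T.ne h2.symm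

theorem Quat.comm_eq {p q : G} (hp : p ∈ Q) (hq : q ∈ Q) (hpu : p ∉ zpowers u) (hqu : q ∉ zpowers u)
    (hpq : p * q ∉ zpowers u) : q * p = p * q * u := by
  rcases (T.mem_zpowers_iff H).1 (T.comm q hq p hp) with e | e
  · exact absurd (mul_inv_eq_iff_eq_mul.1 (mul_inv_eq_one.1 e)) (T.not_comm H hp hq hpu hqu hpq)
  · rw [(T.cent _ (Q.mul_mem hp hq)).eq, ← e]; group

theorem Quat.conj_not_mem {q : G} (hqu : q ∉ zpowers u) :
    x * q * x⁻¹ ∉ zpowers u ∧ x⁻¹ * q * x ∉ zpowers u := by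
  have hu : ∀ g : G, Commute g u → g * u * g⁻¹ = u := fun g hg => by rw [hg.eq, mul_inv_cancel_right]
  have hx : ∀ g : G, Commute g u → ∀ a ∈ zpowers u, g * a * g⁻¹ ∈ zpowers u := fun g hg a ha => by
    rcases (T.mem_zpowers_iff H).1 ha with e | e <;> rw [e]
    · rw [mul_one, mul_inv_cancel]; exact one_mem _
    · rw [hu g hg]; exact mem_zpowers u
  refine ⟨fun hm => hqu ?_, fun hm => hqu ?_⟩
  · have := hx x⁻¹ (H.comm u T.mem).symm.inv_left _ hm
    rwa [show x⁻¹ * (x * q * x⁻¹) * x⁻¹⁻¹ = q by group] at this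
  · have := hx x (H.comm u T.mem).symm _ hm
    rwa [show x * (x⁻¹ * q * x) * x⁻¹ = q by group] at this

/-- An involution inverting `x` multiplies some element by `u`. -/
theorem Quat.exists_inverted (hσ : Tau x V σ) (hσQ : σ ∈ normalizer (Q : Set G)) :
    ∃ a ∈ Q, a ∉ zpowers u ∧ σ * a * σ⁻¹ = a * u := by
  have hσn := mem_set_normalizer_iff.1 hσQ
  have hne : Q ≠ zpowers u := fun e => by
    have := T.card
    rw [e, H.card_zpowers_V T.mem T.ne] at this
    omega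
  obtain ⟨b, hb, hbu⟩ := SetLike.not_le_iff_exists.1 fun hle : Q ≤ zpowers u =>
    hne (le_antisymm hle (zpowers_le.2 T.inQ))
  obtain ⟨a, ha, hau, he⟩ : ∃ a ∈ Q, a ∉ zpowers u ∧ (σ * a * σ⁻¹ = a ∨ σ * a * σ⁻¹ = a * u) := by
    set c := σ * b * σ⁻¹ with hc
    have hcQ : c ∈ Q := (hσn b).1 hb
    have hσc : σ * c * σ⁻¹ = b := by
      rw [hc, show σ * (σ * b * σ⁻¹) * σ⁻¹ = (σ * σ) * b * (σ * σ)⁻¹ by group, hσ.sq]; simp
    by_cases hbc : b * c ∈ zpowers u
    · refine ⟨b, hb, hbu, ?_⟩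
      rcases (T.mem_zpowers_iff H).1 hbc with e | e
      · right
        rw [← hc, eq_inv_of_mul_eq_one_right e]
        exact inv_eq_of_mul_eq_one_right (by rw [← mul_assoc, T.sq b hb hbu, H.sq u T.mem])
      · left
        rw [← hc]
        exact mul_left_cancel (e.trans (T.sq b hb hbu).symm)
    · refine ⟨b * c, Q.mul_mem hb hcQ, hbc, ?_⟩
      have e : σ * (b * c) * σ⁻¹ = c * b := by
        rw [show σ * (b * c) * σ⁻¹ = (σ * b * σ⁻¹) * (σ * c * σ⁻¹) by group, hσc]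
      rw [e]
      by_cases hcu : c ∈ zpowers u
      · left
        rcases (T.mem_zpowers_iff H).1 hcu with e' | e' <;> rw [e']
        · simp
        · exact (T.cent b hb).symm.eq
      · exact Or.inr (T.comm_eq H hb hcQ hbu hcu hbc)
  refine ⟨a, ha, hau, he.resolve_left fun e => ?_⟩
  set b' := x * a * x⁻¹ with hb'
  set c := x⁻¹ * a * x with hc
  have hb'Q : b' ∈ Q := T.inv a ha
  have hcQ : c ∈ Q := inv_back H T.inv ha
  have hxσ : σ * x = x⁻¹ * σ := by rw [← hσ.conj]; group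
  have hxσ' : σ * x⁻¹ = x * σ := by
    calc σ * x⁻¹ = (σ * x⁻¹ * σ⁻¹) * σ := by group
      _ = x * σ := by rw [hσ.conj_inv_x]
  have e1 : σ * b' * σ⁻¹ = c := by
    rw [hb', show σ * (x * a * x⁻¹) * σ⁻¹ = (σ * x) * a * (σ * x)⁻¹ by group, hxσ,
      show x⁻¹ * σ * a * (x⁻¹ * σ)⁻¹ = x⁻¹ * (σ * a * σ⁻¹) * x by group, e]
  have e2 : σ * c * σ⁻¹ = b' := by
    rw [hc, show σ * (x⁻¹ * a * x) * σ⁻¹ = (σ * x⁻¹) * a * (σ * x⁻¹)⁻¹ by group, hxσ',
      show x * σ * a * (x * σ)⁻¹ = x * (σ * a * σ⁻¹) * x⁻¹ by group, e]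
  have hP := T.prod_mem H ha
  rw [← hb', ← hc] at hP
  have hσu : σ * u * σ⁻¹ = u := by rw [(hσ.fix u T.mem).eq, mul_inv_cancel_right]
  have hPfix : σ * (a * b' * c) * σ⁻¹ = a * b' * c := by
    rcases (T.mem_zpowers_iff H).1 hP with e' | e' <;> rw [e']
    · simp
    · exact hσu
  rw [show σ * (a * b' * c) * σ⁻¹ = (σ * a * σ⁻¹) * (σ * b' * σ⁻¹) * (σ * c * σ⁻¹) by group, e, e1, e2,
    mul_assoc a c b', mul_assoc a b' c] at hPfix
  refine T.not_comm H hb'Q hcQ (T.conj_not_mem H hau).1 (T.conj_not_mem H hau).2 (fun hm => hau ?_)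
    (mul_left_cancel hPfix)
  have := mul_mem hP (inv_mem hm)
  rwa [mul_assoc a b' c, mul_inv_cancel_right] at this

/-- The quaternion group of order eight. -/
theorem Quat.equiv : Nonempty (Q ≃* QuaternionGroup 2) := by
  have hne : Q ≠ zpowers u := fun e => by
    have := T.card
    rw [e, H.card_zpowers_V T.mem T.ne] at this
    omega
  obtain ⟨a, ha, hau⟩ := SetLike.not_le_iff_exists.1 fun hle : Q ≤ zpowers u =>
    hne (le_antisymm hle (zpowers_le.2 T.inQ))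
  set b := x * a * x⁻¹ with hb
  have hbQ : b ∈ Q := T.inv a ha
  have hbu := (T.conj_not_mem H hau).1
  rw [← hb] at hbu
  have hao : orderOf a = 4 := by
    haveI : Fact (Nat.Prime 2) := ⟨Nat.prime_two⟩
    refine orderOf_eq_prime_pow (p := 2) (n := 1) ?_ (T.pow_four H ha)
    rw [pow_one, pow_two, T.sq a ha hau]
    exact T.ne
  have hab : b ∉ zpowers a := fun hm => by
    obtain ⟨i, hi⟩ := mem_zpowers_iff.1 hm
    have h4 : a ^ (4 : ℤ) = 1 := by
      rw [show (4 : ℤ) = ((4 : ℕ) : ℤ) from rfl, zpow_natCast, ← hao, pow_orderOf_eq_one]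
    rw [← Int.emod_add_mul_ediv i 4, zpow_add, zpow_mul, h4, one_zpow, mul_one] at hi
    rcases (by omega : i % 4 = 0 ∨ i % 4 = 1 ∨ i % 4 = 2 ∨ i % 4 = 3) with e | e | e | e <;> rw [e] at hi
    · exact hbu (hi ▸ (by rw [zpow_zero]; exact one_mem _))
    · rw [zpow_one] at hi
      exact hau (T.fixed H ha (hb ▸ hi.symm))
    · exact hbu (hi ▸ (by rw [zpow_two, T.sq a ha hau]; exact mem_zpowers u))
    · refine T.conj_ne H (q := a) ?_
      rw [← hb, ← hi, show (3 : ℤ) = 1 + 2 by norm_num, zpow_add, zpow_one, zpow_two, T.sq a ha hau]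
  have hainv : a⁻¹ = a * u := inv_eq_of_mul_eq_one_right (by rw [← mul_assoc, T.sq a ha hau, H.sq u T.mem])
  have hconj : b * a * b⁻¹ = a⁻¹ := by
    refine mul_inv_eq_iff_eq_mul.2 ?_
    rw [T.comm_eq H ha hbQ hau hbu fun hm => hab ?_, hainv, mul_assoc, (T.cent b hbQ).eq, ← mul_assoc]
    have hle : zpowers u ≤ zpowers a := zpowers_le.2 (mem_zpowers_iff.2 ⟨2, by rw [zpow_two, T.sq a ha hau]⟩)
    have := mul_mem (inv_mem (mem_zpowers a)) (hle hm)
    rwa [inv_mul_cancel_left] at this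
  have h : Cfsg.Lib.CyclicMax.TwoGen (S := Q) ⟨a, ha⟩ ⟨b, hbQ⟩ 2 (-1) (2 ^ (2 - 1)) := by
    refine ⟨by rw [Subgroup.orderOf_mk, hao]; rfl, by rw [T.card]; rfl, fun hm => ?_, ?_, ?_⟩
    · obtain ⟨i, hi⟩ := mem_zpowers_iff.1 hm
      exact hab (mem_zpowers_iff.2 ⟨i, by simpa using congrArg Subtype.val hi⟩)
    · refine Subtype.ext ?_
      simpa using hconj
    · refine Subtype.ext ?_
      simp only [Subgroup.coe_mul, SubgroupClass.coe_zpow]
      rw [T.sq b hbQ hbu, show ((2 : ℤ) ^ (2 - 1)) = 2 by norm_num, zpow_two, T.sq a ha hau]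
  exact Cfsg.Lib.CyclicMax.toQuaternion h le_rfl

omit T H in
/-- A quasi-dihedral group on `Q` and an inverting involution. -/
theorem quasiDihedral_sup (T : Quat x V Q u) (H : Hyp x V) (hσ : Tau x V σ) (hσQ : σ ∈ normalizer (Q : Set G)) :
    Nat.card (Q ⊔ zpowers σ : Subgroup G) = 16 ∧ Cfsg.IsQuasiDihedral ↥(Q ⊔ zpowers σ : Subgroup G) := by
  have hle : zpowers σ ≤ normalizer (Q : Set G) := zpowers_le.2 hσQ
  haveI : Fact (Nat.Prime 2) := ⟨Nat.prime_two⟩
  have hσnQ : σ ∉ Q := fun hm => by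
    have h1 : x * σ * x⁻¹ * σ⁻¹ ∈ Q := Q.mul_mem (T.inv σ hm) (Q.inv_mem hm)
    rw [show x * σ * x⁻¹ * σ⁻¹ = x * (σ * x⁻¹ * σ⁻¹) by group, hσ.conj_inv_x, H.mul_self, inv_mem_iff] at h1
    have h3 : 3 ∣ 8 := T.card ▸ H.ord ▸ Subgroup.orderOf_dvd_natCard Q h1
    norm_num at h3
  have hσ1 : σ ≠ 1 := hσ.ne_one H
  have hz : Nat.card (zpowers σ) = 2 := by rw [Nat.card_zpowers, hσ.orderOf_eq H]
  have hinf : Q ⊓ zpowers σ = ⊥ := eq_bot_iff.2 fun g hg => by
    obtain ⟨i, rfl⟩ := mem_zpowers_iff.1 hg.2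
    rcases Int.even_or_odd i with ⟨m, rfl⟩ | ⟨m, rfl⟩
    · rw [mem_bot, ← two_mul, zpow_mul, show σ ^ (2 : ℤ) = 1 by rw [zpow_two, hσ.sq], one_zpow]
    · exact absurd (by
        have := hg.1
        rwa [zpow_add, zpow_mul, show σ ^ (2 : ℤ) = 1 by rw [zpow_two, hσ.sq], one_zpow, one_mul, zpow_one] at this)
        hσnQ
  have hc : Nat.card (Q ⊔ zpowers σ : Subgroup G) = 16 := by
    have h1 := Cfsg.Lib.Coprime.card_sup_mul_card_inf (N := Q) (H := zpowers σ) hle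
    rw [hinf, card_bot, mul_one, T.card, hz] at h1
    exact h1
  obtain ⟨a, ha, hau, hσa⟩ := T.exists_inverted H hσ hσQ
  set b := x * a * x⁻¹ with hb
  set c := x⁻¹ * a * x with hc'
  have hbQ : b ∈ Q := T.inv a ha
  have hcQ : c ∈ Q := inv_back H T.inv ha
  have hbu := (T.conj_not_mem H hau).1
  have hcu := (T.conj_not_mem H hau).2
  rw [← hb] at hbu
  rw [← hc'] at hcu
  have hσb : σ * b * σ⁻¹ = c * u := by
    have hxσ : σ * x = x⁻¹ * σ := by rw [← hσ.conj]; group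
    rw [hb, show σ * (x * a * x⁻¹) * σ⁻¹ = (σ * x) * a * (σ * x)⁻¹ by group, hxσ,
      show x⁻¹ * σ * a * (x⁻¹ * σ)⁻¹ = x⁻¹ * (σ * a * σ⁻¹) * x by group, hσa, hc']
    rw [show x⁻¹ * (a * u) * x = (x⁻¹ * a * x) * (x⁻¹ * u * x) by group,
      show x⁻¹ * u * x = u by rw [mul_assoc, (H.comm u T.mem).eq, inv_mul_cancel_left]]
  have hP := T.prod_mem H ha
  rw [← hb, ← hc'] at hP
  have hbc : b * c ∉ zpowers u := fun hm => hau (by
    have := mul_mem hP (inv_mem hm)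
    rwa [mul_assoc a b c, mul_inv_cancel_right] at this)
  have hcb := T.comm_eq H hbQ hcQ hbu hcu hbc
  set d := b * σ with hd
  have hd2 : d * d = b * c * u := by
    calc d * d = b * (σ * b * σ⁻¹) * (σ * σ) := by rw [hd]; group
      _ = b * c * u := by rw [hσb, hσ.sq, mul_one, ← mul_assoc b c u]
  have hd2Q : d * d ∈ Q := hd2 ▸ Q.mul_mem (Q.mul_mem hbQ hcQ) T.inQ
  have hd2u : d * d ∉ zpowers u := fun hm => hbc (by
    rw [hd2] at hm
    exact (mul_mem_cancel_right (mem_zpowers u)).1 hm)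
  have hd8 : orderOf d = 2 ^ 3 := by
    refine orderOf_eq_prime_pow (p := 2) (n := 2) ?_ ?_
    · rw [show (2 : ℕ) ^ 2 = 2 * 2 from rfl, pow_mul, pow_two, pow_two, T.sq _ hd2Q hd2u]
      exact T.ne
    · rw [show (2 : ℕ) ^ (2 + 1) = 2 * 2 ^ 2 from rfl, pow_mul, pow_two]
      exact T.pow_four H hd2Q
  have hd3 : σ * d * σ⁻¹ = d ^ 3 := by
    have hcbu : Commute c u := T.cent c hcQ
    calc σ * d * σ⁻¹ = (σ * b * σ⁻¹) * σ := by rw [hd]; group
      _ = c * u * σ := by rw [hσb]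
      _ = b * c * u * b * σ := by
        congr 1
        calc c * u = u * c := hcbu.eq
          _ = b * b * c := by rw [T.sq b hbQ hbu]
          _ = b * (b * c * (u * u)) := by rw [H.sq u T.mem, mul_one, mul_assoc]
          _ = b * ((c * b) * u) := by rw [hcb]; group
          _ = b * c * (b * u) := by group
          _ = b * c * u * b := by rw [(T.cent b hbQ).eq]; group
      _ = d ^ 3 := by rw [pow_succ, pow_two, hd2, hd]; group
  refine ⟨hc, 3, le_rfl, by rw [hc]; rfl, ⟨d, mul_mem (mem_sup_left hbQ) (mem_sup_right (mem_zpowers σ))⟩,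
    ⟨σ, mem_sup_right (mem_zpowers σ)⟩, ?_, ?_, ?_⟩
  · rw [Subgroup.orderOf_mk, hd8]
  · rw [Subgroup.orderOf_mk, hσ.orderOf_eq H]
  · refine Subtype.ext ?_
    simpa using hd3

omit T H in
/-- The normal complement of the quaternion group in the core. -/
theorem exists_complement (T : Quat x V Q u) (H : Hyp x V) (C : Core x V τ u K)
    (hQK : Q ≤ K) (hKc : (Nat.card K).factorization 2 = 3) :
    ∃ R : Subgroup G, R ≤ K ∧ ¬ 2 ∣ Nat.card R ∧ Nat.card K = 8 * Nat.card R ∧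
      centralizer ({u} : Set G) ≤ normalizer (R : Set G) ∧ ∀ g ∈ K, ¬ 2 ∣ orderOf g → g ∈ R := by
  classical
  haveI : Fact (Nat.Prime 2) := ⟨Nat.prime_two⟩
  obtain ⟨e⟩ := T.equiv H
  have hQc : Nat.card (Q.subgroupOf K) = 2 ^ (Nat.card K).factorization 2 := by
    rw [Nat.card_congr (subgroupOfEquivOfLe hQK).toEquiv, T.card, hKc]; rfl
  let P : Sylow 2 K := Sylow.ofCard (Q.subgroupOf K) hQc
  rcases Cfsg.Agent.S0106.result P 1 le_rfl ⟨(subgroupOfEquivOfLe hQK).trans e⟩ with hn | ⟨A, B, hB, ⟨f⟩⟩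
  swap
  · exfalso
    have h24 : Nat.card (Matrix.SpecialLinearGroup (Fin 2) (ZMod 3)) = 24 := by
      rw [Cfsg.Lib.Classical.SLTwoTori.card_SL2]; rfl
    haveI := hB
    have h1 : Nat.card (A ⧸ B.subgroupOf A) ∣ Nat.card K :=
      (card_quotient_dvd_card _).trans (card_subgroup_dvd_card A)
    rw [Nat.card_congr f.toEquiv, h24] at h1
    exact C.three ((by norm_num : 3 ∣ 24).trans h1)
  obtain ⟨P', N, hN, hc⟩ := hn
  haveI := hN
  have hP' : Nat.card P' = 8 := by rw [P'.card_eq_multiplicity, hKc]; rfl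
  have hcm := hc.card_mul
  rw [show Nat.card (P' : Subgroup K) = 8 from hP'] at hcm
  have hN2 : ¬ 2 ∣ Nat.card N := fun h2 => by
    have h16 : 2 ^ 4 ∣ Nat.card K := hcm ▸ (mul_comm (Nat.card N) 8 ▸ (show 2 ^ 4 = 8 * 2 by rfl) ▸
      Nat.mul_dvd_mul_left 8 h2)
    rw [Nat.Prime.pow_dvd_iff_le_factorization Nat.prime_two Nat.card_pos.ne', hKc] at h16
    omega
  have hmem : ∀ g : K, ¬ 2 ∣ orderOf g → g ∈ N := fun g hg => by
    rw [← QuotientGroup.eq_one_iff, ← orderOf_eq_one_iff]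
    have h8 : Nat.card (K ⧸ N) = 2 ^ 3 := by
      have := Subgroup.card_eq_card_quotient_mul_card_subgroup N
      rw [← hcm, mul_comm] at this
      exact (Nat.eq_of_mul_eq_mul_right Nat.card_pos this).symm.trans (by rfl)
    have h1 : orderOf (QuotientGroup.mk g : K ⧸ N) ∣ 2 ^ 3 := h8 ▸ orderOf_dvd_natCard _
    have h2 : orderOf (QuotientGroup.mk g : K ⧸ N) ∣ orderOf g := orderOf_map_dvd (QuotientGroup.mk' N) g
    exact Nat.eq_one_of_dvd_coprimes (Nat.Coprime.pow_left 3 ((Nat.prime_two.coprime_iff_not_dvd).2 hg)) h1 h2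
  refine ⟨N.map K.subtype, map_subtype_le _, by rwa [card_map_of_injective K.subtype_injective],
    by rw [card_map_of_injective K.subtype_injective, ← hcm, mul_comm], ?_, fun g hg ho =>
      ⟨⟨g, hg⟩, hmem _ (by rwa [Subgroup.orderOf_mk]), rfl⟩⟩
  have key : ∀ y ∈ centralizer ({u} : Set G), ∀ r ∈ N.map K.subtype, y * r * y⁻¹ ∈ N.map K.subtype := by
    rintro y hy _ ⟨r, hr, rfl⟩
    have hm := ((mem_set_normalizer_iff.1 (C.norm hy)) (r : G)).1 r.2
    refine ⟨⟨y * r * y⁻¹, hm⟩, hmem _ fun h2 => hN2 ?_, rfl⟩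
    rw [Subgroup.orderOf_mk, show y * (r : G) * y⁻¹ = MulAut.conj y (r : G) from rfl, MulEquiv.orderOf_eq,
      Subgroup.orderOf_coe] at h2
    exact h2.trans (Subgroup.orderOf_dvd_natCard N hr)
  exact fun y hy => Cfsg.Lib.Coprime.mem_normalizer_of_conj_mem (key y hy) fun r hr => by
    simpa using key y⁻¹ (inv_mem hy) r hr

omit T H in
/-- The quaternion group centralises the odd part. -/
theorem quat_centralizes (T : Quat x V Q u) (H : Hyp x V) (C : Core x V τ u K) (hQK : Q ≤ K) {R : Subgroup G}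
    (hRK : R ≤ K) (hR2 : ¬ 2 ∣ Nat.card R) (hRn : centralizer ({u} : Set G) ≤ normalizer (R : Set G)) :
    Q ≤ centralizer (R : Set G) := by
  have hxY : x ∈ centralizer ({u} : Set G) := mem_centralizer_singleton_iff.2 (H.comm u T.mem).symm.eq
  have hRI : Inv x R := SelfCentThree.inv_of_mem_normalizer (hRn hxY)
  have hRf : Fpf x R := fpf_of_odd H hRI hR2 fun hx => C.three (H.ord ▸ Subgroup.orderOf_dvd_natCard K (hRK hx))
  have hu : ∀ g ∈ zpowers u, ∀ r ∈ R, g * r * g⁻¹ = r := fun g hg r hr => by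
    have hur : Commute u r := ((mem_centralizer_singleton_iff.1 (C.sub (hRK hr))) : r * u = u * r).symm
    rcases (T.mem_zpowers_iff H).1 hg with e | e <;> rw [e]
    · simp
    · rw [hur.eq, mul_inv_cancel_right]
  intro q hq
  refine Fpf.centralizes_four H hRf hR2 (hRn (C.sub (hQK hq))) (T.pow_four H hq) (fun r hr => ?_)
    (hu _ (T.prod_mem H hq))
  refine hu _ ?_ r hr
  rcases T.sq_u H hq with ⟨e, -⟩ | ⟨e, -⟩ <;> rw [e]
  · exact one_mem _
  · exact mem_zpowers u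

end Cfsg.Lib.ThreeFour
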