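import Cfsg.Agent.ThreeFour.Local.Counting
import Cfsg.Prelude.Def_CaseTheorems

/-!
An invariant two-group with two fixed points contains an elementary abelian group of order eight, or it is
the group of the fixed points or quaternion of order eight.
-/

set_option autoImplicit false
set_option linter.unusedSectionVars false
set_option linter.style.haveILetI false

namespace Cfsg.Lib.ThreeFour

open Subgroup
open Cfsg.Lib.SelfCentThree (Inv P3)
open scoped IsMulCommutative

universe u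

variable {G : Type u} [Group G] [Finite G] {x : G} {V Q : Subgroup G} {u : G}

/-- Three independent commuting involutions exclude 2-rank at most two. -/
theorem not_rankLE_of_three {a b c : G} (ha : a * a = 1) (hb : b * b = 1) (hc : c * c = 1) (hab : Commute a b)
    (hac : Commute a c) (hbc : Commute b c) (ha1 : a ≠ 1) (hb1 : b ≠ 1) (hc1 : c ≠ 1) (n1 : b ≠ a) (n2 : c ≠ a)
    (n3 : c ≠ b) (n4 : c ≠ a * b) : ¬ Cfsg.PRankLE 2 2 G := by
  intro hr
  set A := closure ({a, b, c} : Set G) with hA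
  have hgen : ∀ p ∈ ({a, b, c} : Set G), ∀ q ∈ ({a, b, c} : Set G), Commute p q := by
    rintro p (rfl | rfl | rfl) q (rfl | rfl | rfl)
    exacts [Commute.refl _, hab, hac, hab.symm, Commute.refl _, hbc, hac.symm, hbc.symm, Commute.refl _]
  have hcomm : ∀ p ∈ A, ∀ q ∈ A, Commute p q := fun p hp q hq =>
    closure_induction (p := fun p _ => Commute p q)
      (fun p hp => closure_induction (p := fun q _ => Commute p q) (fun q hq => hgen p hp q hq) (Commute.one_right _)
        (fun _ _ _ _ => Commute.mul_right) (fun _ _ => Commute.inv_right) hq)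
      (Commute.one_left _) (fun _ _ _ _ => Commute.mul_left) (fun _ _ => Commute.inv_left) hp
  have hsq : ∀ p ∈ A, p ^ 2 = 1 := fun p hp =>
    closure_induction (p := fun p _ => p ^ 2 = 1)
      (by rintro p (rfl | rfl | rfl) <;> rw [pow_two] <;> assumption) (one_pow 2)
      (fun p q hp hq e e' => by rw [(hcomm p hp q hq).mul_pow, e, e', one_mul])
      (fun p _ e => by rw [inv_pow, e, inv_one]) hp
  have h4 := hr A ⟨⟨fun p q => Subtype.ext (hcomm p p.2 q q.2).eq⟩⟩ hsq
  have hma : a ∈ A := subset_closure (Or.inl rfl)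
  have hmb : b ∈ A := subset_closure (Or.inr (Or.inl rfl))
  have hmc : c ∈ A := subset_closure (Or.inr (Or.inr rfl))
  have hab1 : a * b ≠ 1 := fun e => n1 (by
    have := eq_inv_of_mul_eq_one_right e
    rwa [inv_eq_of_mul_eq_one_right ha] at this)
  have h5 : ({1, a, b, c, a * b} : Set G).ncard ≤ (A : Set G).ncard := Set.ncard_le_ncard (by
    rintro p (rfl | rfl | rfl | rfl | rfl)
    exacts [A.one_mem, hma, hmb, hmc, A.mul_mem hma hmb]) (Set.toFinite _)
  rw [Set.ncard_insert_of_notMem (by simp [Ne.symm ha1, Ne.symm hb1, Ne.symm hc1, Ne.symm hab1]) (Set.toFinite _),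
    Set.ncard_insert_of_notMem (by simp [Ne.symm n1, Ne.symm n2, hb1]) (Set.toFinite _),
    Set.ncard_insert_of_notMem (by simp [Ne.symm n3, ha1]) (Set.toFinite _),
    Set.ncard_insert_of_notMem (by simp [n4]) (Set.toFinite _), Set.ncard_singleton] at h5
  have h6 : Nat.card A = (A : Set G).ncard := Nat.card_coe_set_eq _
  omega

/-- An invariant two-group in the centraliser of `u` with the fixed points `⟨u⟩`. -/
structure TwoFix (x : G) (V Q : Subgroup G) (u : G) : Prop where
  two : IsPGroup 2 Q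
  inv : Inv x Q
  v2 : Nat.card V = 2
  mem : u ∈ V
  ne : u ≠ 1
  inQ : u ∈ Q
  cent : ∀ q ∈ Q, Commute q u

theorem TwoFix.inf_V (T : TwoFix x V Q u) (h : Hyp x V) : Q ⊓ V = zpowers u := by
  refine le_antisymm ?_ (le_inf (zpowers_le.2 T.inQ) (zpowers_le.2 T.mem))
  exact le_trans inf_le_right (Subgroup.eq_of_le_of_card_ge (zpowers_le.2 T.mem)
    (by rw [h.card_zpowers_V T.mem T.ne, T.v2])).ge

theorem TwoFix.mem_zpowers_iff (T : TwoFix x V Q u) (h : Hyp x V) {k : G} : k ∈ zpowers u ↔ k = 1 ∨ k = u := by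
  refine ⟨fun hk => ?_, ?_⟩
  · by_contra hno
    push Not at hno
    have h3 : ({1, u, k} : Set G).ncard = 3 :=
      Set.ncard_eq_three.2 ⟨1, u, k, Ne.symm T.ne, Ne.symm hno.1, Ne.symm hno.2, rfl⟩
    have h2 := Set.ncard_le_ncard (s := ({1, u, k} : Set G)) (t := (zpowers u : Set G))
      (by rintro a (rfl | rfl | rfl); exacts [one_mem _, mem_zpowers _, hk]) (Set.toFinite _)
    have h4 : (zpowers u : Set G).ncard = 2 := by
      rw [← Nat.card_coe_set_eq]; exact h.card_zpowers_V T.mem T.ne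
    omega
  · rintro (rfl | rfl)
    exacts [one_mem _, mem_zpowers _]

theorem TwoFix.fixed (T : TwoFix x V Q u) (h : Hyp x V) {q : G} (hq : q ∈ Q) (hc : x * q * x⁻¹ = q) :
    q ∈ zpowers u := by
  have h3 : P3 Q := fun h3 => by
    obtain ⟨n, hn⟩ := IsPGroup.iff_card.1 T.two
    rw [hn] at h3
    have := Nat.prime_three.dvd_of_dvd_pow h3
    omega
  rw [← T.inf_V h]
  exact ⟨hq, mem_V_of_fixed h h3 hq (mul_inv_eq_iff_eq_mul.1 hc).symm⟩

/-- Conjugation by `x` does not multiply by `u`. -/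
theorem TwoFix.conj_ne (T : TwoFix x V Q u) (h : Hyp x V) {q : G} : x * q * x⁻¹ ≠ q * u := fun e => by
  have hxu : x * u * x⁻¹ = u := by rw [(h.comm u T.mem).symm.eq, mul_inv_cancel_right]
  have e2 : x * (x * q * x⁻¹) * x⁻¹ = q := by
    conv_lhs => rw [e]
    rw [show x * (q * u) * x⁻¹ = (x * q * x⁻¹) * (x * u * x⁻¹) by group, e, hxu, mul_assoc, h.sq u T.mem, mul_one]
  have e3 : x * q * x⁻¹ = q := by
    calc x * q * x⁻¹ = x * (x * (x * q * x⁻¹) * x⁻¹) * x⁻¹ := by rw [e2]
      _ = q := by rw [h.conj_conj]; group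
  exact T.ne (mul_eq_left.1 (e.symm.trans e3))

/-- An involution commuting with its conjugate under `x`. -/
theorem TwoFix.rich_of_conj (T : TwoFix x V Q u) (h : Hyp x V) {q : G} (hq : q ∈ Q) (hqu : q ∉ zpowers u)
    (hq2 : q * q = 1) (hc : Commute q (x * q * x⁻¹)) : ¬ Cfsg.PRankLE 2 2 G := by
  have hq1 : q ≠ 1 := fun e => hqu (e ▸ one_mem _)
  have hqu' : q ≠ u := fun e => hqu (e ▸ mem_zpowers u)
  have hxu : x * u * x⁻¹ = u := by rw [(h.comm u T.mem).symm.eq, mul_inv_cancel_right]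
  exact not_rankLE_of_three (a := u) (b := q) (c := x * q * x⁻¹) (h.sq u T.mem) hq2
    (by rw [show x * q * x⁻¹ * (x * q * x⁻¹) = x * (q * q) * x⁻¹ by group, hq2]; group)
    (T.cent q hq).symm (T.cent _ (T.inv q hq)).symm hc T.ne hq1 (fun e => hq1 (conj_eq_one_iff.1 e)) hqu'
    (fun e => hqu' (mul_left_cancel (mul_right_cancel (e.trans hxu.symm))))
    (fun e => hqu (T.fixed h hq e)) (fun e => T.conj_ne h (e.trans (T.cent q hq).symm.eq))

/-- The three shapes. -/
theorem TwoFix.shape (T : TwoFix x V Q u) (h : Hyp x V) :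
    ¬ Cfsg.PRankLE 2 2 G ∨ Q = zpowers u ∨
      Nat.card Q = 8 ∧ (∀ q ∈ Q, q ∉ zpowers u → q * q = u) ∧ ∀ q ∈ Q, ∀ r ∈ Q, q * r * q⁻¹ * r⁻¹ ∈ zpowers u := by
  classical
  haveI : Fact (Nat.Prime 2) := ⟨Nat.prime_two⟩
  by_cases hrich : ¬ Cfsg.PRankLE 2 2 G
  · exact Or.inl hrich
  replace hrich : Cfsg.PRankLE 2 2 G := not_not.1 hrich
  by_cases hQu : Q = zpowers u
  · exact Or.inr (Or.inl hQu)
  refine Or.inr (Or.inr ?_)
  have hus : u⁻¹ = u := h.inv_eq T.mem
  -- the centre is generated by `u`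
  have hZ : ∀ z ∈ Q, (∀ q ∈ Q, Commute z q) → z ∈ zpowers u := by
    have hinv : ∀ z ∈ Q, (∀ q ∈ Q, Commute z q) → z * z = 1 → z ∈ zpowers u := fun z hz hzc hz2 => by
      by_contra hzu
      exact T.rich_of_conj h hz hzu hz2 (hzc _ (T.inv z hz)) hrich
    intro z hz hzc
    obtain ⟨n, hn⟩ := IsPGroup.iff_orderOf.1 T.two ⟨z, hz⟩
    rw [Subgroup.orderOf_mk] at hn
    by_contra hzu
    have hn1 : 2 ≤ n := by
      by_contra hlt
      refine hzu (hinv z hz hzc ?_)
      rw [← pow_two, ← orderOf_dvd_iff_pow_eq_one, hn]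
      exact (pow_dvd_pow 2 (show n ≤ 1 by omega)).trans (by norm_num)
    set w := z ^ 2 ^ (n - 2) with hw
    have hwQ : w ∈ Q := pow_mem hz _
    have hwc : ∀ q ∈ Q, Commute w q := fun q hq => (hzc q hq).pow_left _
    have hw4 : w * w * (w * w) = 1 := by
      rw [hw, ← pow_add, ← pow_add, ← orderOf_dvd_iff_pow_eq_one, hn]
      exact dvd_of_eq (by
        conv_lhs => rw [show n = n - 2 + 2 by omega, pow_add]
        ring)
    have hw2 : w * w ≠ 1 := fun e => by
      rw [hw, ← pow_add, ← orderOf_dvd_iff_pow_eq_one, hn] at e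
      have h1 : 2 ^ (n - 2) + 2 ^ (n - 2) < 2 ^ n := by
        conv_rhs => rw [show n = n - 2 + 2 by omega, pow_add]
        have := Nat.one_le_two_pow (n := n - 2)
        omega
      have h2 : 0 < 2 ^ (n - 2) + 2 ^ (n - 2) := by positivity
      exact absurd (Nat.le_of_dvd h2 e) (not_le.2 h1)
    set w' := x * w * x⁻¹ with hw'
    have hw'Q : w' ∈ Q := T.inv w hwQ
    have hxu : x * u * x⁻¹ = u := by rw [(h.comm u T.mem).symm.eq, mul_inv_cancel_right]
    have hsq : w * w = u := ((T.mem_zpowers_iff h).1 (hinv _ (Q.mul_mem hwQ hwQ)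
      (fun q hq => (hwc q hq).mul_left (hwc q hq)) hw4)).resolve_left hw2
    have hsq' : w' * w' = u := by
      rw [hw', show x * w * x⁻¹ * (x * w * x⁻¹) = x * (w * w) * x⁻¹ by group, hsq, hxu]
    have hww : Commute w w' := hwc _ hw'Q
    have h1 : (w⁻¹ * w') * (w⁻¹ * w') = 1 := by
      rw [hww.inv_left.symm.mul_mul_mul_comm, ← mul_inv_rev, hsq, hsq', inv_mul_cancel]
    have hwc' : ∀ q ∈ Q, Commute w' q := fun q hq => by
      have hq' := inv_back h T.inv hq
      show w' * q = q * w'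
      calc w' * q = x * (w * (x⁻¹ * q * x)) * x⁻¹ := by rw [hw']; group
        _ = x * ((x⁻¹ * q * x) * w) * x⁻¹ := by rw [(hwc _ hq').eq]
        _ = q * w' := by rw [hw']; group
    rcases (T.mem_zpowers_iff h).1 (hinv _ (Q.mul_mem (Q.inv_mem hwQ) hw'Q)
      (fun q hq => (hwc q hq).inv_left.mul_left (hwc' q hq)) h1) with e | e
    · have := T.fixed h hwQ (inv_mul_eq_one.1 e).symm
      rcases (T.mem_zpowers_iff h).1 this with e' | e'
      · exact hw2 (by rw [e', one_mul])
      · exact hw2 (by rw [e', h.sq u T.mem])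
    · exact T.conj_ne h (inv_mul_eq_iff_eq_mul.1 e)
  haveI hQn : ((zpowers u).subgroupOf Q).Normal := ⟨fun a ha b => by
    rw [mem_subgroupOf] at ha ⊢
    show (b : G) * a * (b : G)⁻¹ ∈ zpowers u
    rcases (T.mem_zpowers_iff h).1 ha with e | e <;> rw [e]
    · simp
    · rw [(T.cent b b.2).eq, mul_inv_cancel_right]; exact mem_zpowers u⟩
  -- elements central modulo `u` in a normal subgroup
  have hmeet : ∀ C : Subgroup G, zpowers u ≤ C → C ≤ Q → C ≠ zpowers u → Q ≤ normalizer (C : Set G) →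
      ∃ c ∈ C, c ∉ zpowers u ∧ ∀ r ∈ Q, c * r * c⁻¹ * r⁻¹ ∈ zpowers u := by
    intro C huC hCQ hne hCn
    set π := QuotientGroup.mk' ((zpowers u).subgroupOf Q)
    haveI : (C.subgroupOf Q).Normal := (normal_subgroupOf_iff_le_normalizer hCQ).2 hCn
    haveI : ((C.subgroupOf Q).map π).Normal := Subgroup.Normal.map inferInstance π (QuotientGroup.mk'_surjective _)
    have hne' : (C.subgroupOf Q).map π ≠ ⊥ := fun e => hne (le_antisymm (fun c hc => by
      have h1 : π ⟨c, hCQ hc⟩ ∈ (C.subgroupOf Q).map π := ⟨_, mem_subgroupOf.2 hc, rfl⟩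
      rw [e, mem_bot] at h1
      exact mem_subgroupOf.1 ((QuotientGroup.eq_one_iff _).1 h1)) huC)
    obtain ⟨z, hz, hzc, hzo⟩ := Cfsg.Lib.PGroups.exists_mem_center_of_normal_ne_bot
      (T.two.to_quotient ((zpowers u).subgroupOf Q)) hne'
    obtain ⟨c, hc, rfl⟩ := hz
    refine ⟨c, mem_subgroupOf.1 hc, fun hcu => ?_, fun r hr => ?_⟩
    · rw [(QuotientGroup.eq_one_iff c).2 (mem_subgroupOf.2 hcu) |> fun e => (show π c = 1 from e), orderOf_one] at hzo
      omega
    · have h1 := mem_center_iff.1 hzc (π ⟨r, hr⟩)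
      have h2 : π (c * ⟨r, hr⟩ * c⁻¹ * (⟨r, hr⟩ : Q)⁻¹) = 1 := by
        rw [map_mul, map_mul, map_mul, map_inv, map_inv, ← h1]; group
      exact mem_subgroupOf.1 ((QuotientGroup.eq_one_iff _).1 h2)
  -- elements central modulo `u`
  set D : G → Prop := fun q => q ∈ Q ∧ ∀ r ∈ Q, q * r * q⁻¹ * r⁻¹ ∈ zpowers u with hD
  have hcomm : ∀ q r : G, D q → r ∈ Q → r * q = q * r ∨ r * q = q * r * u := by
    intro q r hq hr
    rcases (T.mem_zpowers_iff h).1 (hq.2 r hr) with e | e
    · exact Or.inl (mul_inv_eq_iff_eq_mul.1 (mul_inv_eq_one.1 e)).symm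
    · right
      have hrq : Commute (r * q) u := T.cent _ (Q.mul_mem hr hq.1)
      have e1 : q * r = u * (r * q) := by rw [← e]; group
      rw [e1, ← hrq.eq, mul_assoc, h.sq u T.mem, mul_one]
  have hDsq : ∀ q, D q → q ∉ zpowers u → q * q = u := by
    intro q hq hqu
    have h1 : q * q ∈ zpowers u := hZ _ (Q.mul_mem hq.1 hq.1) fun r hr => by
      show q * q * r = r * (q * q)
      rcases hcomm q r hq hr with e | e
      · rw [mul_assoc, ← e, ← mul_assoc, ← e, mul_assoc]
      · rw [← mul_assoc r, e, mul_assoc (q * r), ← (T.cent q hq.1).eq, ← mul_assoc (q * r), mul_assoc q r q, e,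
          mul_assoc, mul_assoc, mul_assoc, mul_assoc, h.sq u T.mem, mul_one]
    refine ((T.mem_zpowers_iff h).1 h1).resolve_left fun hq2 => T.rich_of_conj h hq.1 hqu hq2 ?_ hrich
    set q' := x * q * x⁻¹ with hq'
    have hq'2 : q' * q' = 1 := by rw [hq', show x * q * x⁻¹ * (x * q * x⁻¹) = x * (q * q) * x⁻¹ by group, hq2]; group
    have hxu : x * u * x⁻¹ = u := by rw [(h.comm u T.mem).symm.eq, mul_inv_cancel_right]
    set q'' := x⁻¹ * q * x with hq''
    have hq''Q : q'' ∈ Q := inv_back h T.inv hq.1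
    have hq''2 : q'' * q'' = 1 := by
      rw [hq'', show x⁻¹ * q * x * (x⁻¹ * q * x) = x⁻¹ * (q * q) * x by group, hq2]; group
    set p := q * q' * q'' with hp
    have hxp : x * p * x⁻¹ = q' * q'' * q := by
      rw [hp, show x * (q * q' * q'') * x⁻¹ = (x * q * x⁻¹) * (x * (x * q * x⁻¹) * x⁻¹) * (x * (x⁻¹ * q * x) * x⁻¹) by
        rw [hq', hq'']; group, h.conj_conj]
      simp only [hq', hq'']; group
    have hpu : p ∈ zpowers u := T.fixed h (Q.mul_mem (Q.mul_mem hq.1 (T.inv q hq.1)) hq''Q) (by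
      rcases hcomm q (q' * q'') hq (Q.mul_mem (T.inv q hq.1) hq''Q) with e | e
      · rw [hxp, e, hp, mul_assoc q q' q'']
      · exact absurd (hxp.trans (e.trans (by rw [hp, mul_assoc q q' q'']))) (T.conj_ne h))
    have hqp : q * q' = p * q'' := by rw [hp, mul_assoc (q * q'), hq''2, mul_one]
    have h4 : q * q' * (q * q') = 1 := by
      have hcp : Commute p q'' := by
        rcases (T.mem_zpowers_iff h).1 hpu with e | e <;> rw [e]
        · exact Commute.one_left _
        · exact (T.cent q'' hq''Q).symm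
      have hp2 : p * p = 1 := by
        rcases (T.mem_zpowers_iff h).1 hpu with e | e <;> rw [e]
        · exact one_mul 1
        · exact h.sq u T.mem
      rw [hqp, hcp.symm.mul_mul_mul_comm, hp2, hq''2, one_mul]
    show q * q' = q' * q
    have := eq_inv_of_mul_eq_one_left h4
    rwa [mul_inv_rev, inv_eq_of_mul_eq_one_right hq2, inv_eq_of_mul_eq_one_right hq'2] at this
  have hDmul : ∀ a b, D a → D b → D (a * b) := fun a b ha hb => ⟨Q.mul_mem ha.1 hb.1, fun r hr => by
    have h1 := ha.2 (b * r * b⁻¹) (Q.mul_mem (Q.mul_mem hb.1 hr) (Q.inv_mem hb.1))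
    have h2 := hb.2 r hr
    have := mul_mem h1 h2
    rwa [show a * (b * r * b⁻¹) * a⁻¹ * (b * r * b⁻¹)⁻¹ * (b * r * b⁻¹ * r⁻¹) = a * b * r * (a * b)⁻¹ * r⁻¹ by group]
      at this⟩
  have hDnc : ∀ a b, D a → D b → a ∉ zpowers u → b ∉ zpowers u → a * b ∉ zpowers u → b * a = a * b * u := by
    intro a b ha hb hau hbu habu
    refine (hcomm a b ha hb.1).resolve_left fun e => ?_
    have h2 := hDsq _ (hDmul a b ha hb) habu
    rw [show a * b * (a * b) = a * (b * a) * b by group, e, show a * (a * b) * b = (a * a) * (b * b) by group,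
      hDsq a ha hau, hDsq b hb hbu, h.sq u T.mem] at h2
    exact T.ne h2.symm
  have huQ : zpowers u ≤ Q := zpowers_le.2 T.inQ
  obtain ⟨a, haQ, hau, ha⟩ := hmeet Q huQ le_rfl hQu le_normalizer
  have hDa : D a := ⟨haQ, ha⟩
  set a' := x * a * x⁻¹ with ha'
  have hDa' : D a' := ⟨T.inv a haQ, fun r hr => by
    have h1 := ha _ (inv_back h T.inv hr)
    rcases (T.mem_zpowers_iff h).1 h1 with e | e
    · rw [show a' * r * a'⁻¹ * r⁻¹ = x * (a * (x⁻¹ * r * x) * a⁻¹ * (x⁻¹ * r * x)⁻¹) * x⁻¹ by rw [ha']; group, e]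
      simp
    · rw [show a' * r * a'⁻¹ * r⁻¹ = x * (a * (x⁻¹ * r * x) * a⁻¹ * (x⁻¹ * r * x)⁻¹) * x⁻¹ by rw [ha']; group, e,
        (h.comm u T.mem).symm.eq, mul_inv_cancel_right]
      exact mem_zpowers u⟩
  have hainv : a⁻¹ = a * u := inv_eq_of_mul_eq_one_right (by rw [← mul_assoc, hDsq a hDa hau, h.sq u T.mem])
  have ha'u : a' ∉ zpowers u := fun hm => hau (by
    rcases (T.mem_zpowers_iff h).1 hm with e | e
    · rw [conj_eq_one_iff.1 e]; exact one_mem _
    · rw [show a = u from mul_left_cancel (mul_right_cancel (e.trans (by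
        rw [(h.comm u T.mem).symm.eq, mul_inv_cancel_right] : u = x * u * x⁻¹)))]
      exact mem_zpowers u)
  have haa'u : a * a' ∉ zpowers u := fun hm => by
    rcases (T.mem_zpowers_iff h).1 hm with e | e
    · have e' : a' = a * u := (eq_inv_of_mul_eq_one_right e).trans hainv
      exact T.conj_ne h e'
    · exact hau (T.fixed h haQ (mul_left_cancel (e.trans (hDsq a hDa hau).symm)))
  have haa' := hDnc a a' hDa hDa' hau ha'u haa'u
  -- nothing outside `⟨u⟩` commutes with both
  let C : Subgroup G :=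
    { carrier := {q | q ∈ Q ∧ Commute q a ∧ Commute q a'}
      one_mem' := ⟨Q.one_mem, Commute.one_left _, Commute.one_left _⟩
      mul_mem' := fun p q => ⟨Q.mul_mem p.1 q.1, p.2.1.mul_left q.2.1, p.2.2.mul_left q.2.2⟩
      inv_mem' := fun p => ⟨Q.inv_mem p.1, p.2.1.inv_left, p.2.2.inv_left⟩ }
  have hCu : C = zpowers u := by
    by_contra hne
    have hCn : Q ≤ normalizer (C : Set G) := by
      have key : ∀ r ∈ Q, ∀ c ∈ C, r * c * r⁻¹ ∈ C := by
        intro r hr c hc
        have hone : ∀ d, D d → Commute c d → Commute (r * c * r⁻¹) d := fun d hd hcd => by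
          show r * c * r⁻¹ * d = d * (r * c * r⁻¹)
          rcases hcomm d r⁻¹ hd (Q.inv_mem hr) with e | e
          · calc r * c * r⁻¹ * d = r * c * (r⁻¹ * d) := by group
              _ = r * (c * d) * r⁻¹ := by rw [e]; group
              _ = r * (d * c) * r⁻¹ := by rw [hcd.eq]
              _ = r * (d * r⁻¹) * (r * c * r⁻¹) := by group
              _ = r * (r⁻¹ * d) * (r * c * r⁻¹) := by rw [e]
              _ = d * (r * c * r⁻¹) := by group
          · have hdu : Commute d u := T.cent d hd.1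
            calc r * c * r⁻¹ * d = r * c * (r⁻¹ * d) := by group
              _ = r * (c * d) * (r⁻¹ * u) := by rw [e]; group
              _ = r * (d * c) * (r⁻¹ * u) := by rw [hcd.eq]
              _ = r * (d * r⁻¹) * ((r * c * r⁻¹) * u) := by group
              _ = r * (d * r⁻¹) * (u * (r * c * r⁻¹)) := by
                  rw [(T.cent _ (Q.mul_mem (Q.mul_mem hr hc.1) (Q.inv_mem hr))).eq]
              _ = r * (d * r⁻¹ * u) * (r * c * r⁻¹) := by group
              _ = r * (r⁻¹ * d) * (r * c * r⁻¹) := by rw [e]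
              _ = d * (r * c * r⁻¹) := by group
        exact ⟨Q.mul_mem (Q.mul_mem hr hc.1) (Q.inv_mem hr), hone a hDa hc.2.1, hone a' hDa' hc.2.2⟩
      exact fun r hr => Cfsg.Lib.Coprime.mem_normalizer_of_conj_mem (key r hr) fun c hc => by
        simpa using key r⁻¹ (Q.inv_mem hr) c hc
    have huC : zpowers u ≤ C := zpowers_le.2 ⟨T.inQ, (T.cent a haQ).symm, (T.cent a' hDa'.1).symm⟩
    obtain ⟨c, hc, hcu, hcD⟩ := hmeet C huC (fun q hq => hq.1) hne hCn
    have hDc : D c := ⟨hc.1, hcD⟩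
    by_cases h1 : a * c ∈ zpowers u
    · have h2 : Commute (a * c) a' := by
        rcases (T.mem_zpowers_iff h).1 h1 with e | e <;> rw [e]
        · exact Commute.one_left _
        · exact (T.cent a' hDa'.1).symm
      have h3 := h2.mul_left hc.2.2.inv_left
      rw [mul_inv_cancel_right] at h3
      exact T.ne (mul_eq_left.1 (haa'.symm.trans h3.symm.eq))
    · exact T.ne (mul_eq_left.1 ((hDnc a c hDa hDc hau hcu h1).symm.trans hc.2.1.eq))
  -- count
  have hle : Nat.card Q ≤ 8 := by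
    let φ : Q → zpowers u × zpowers u := fun q =>
      (⟨a * q * a⁻¹ * (q : G)⁻¹, hDa.2 q q.2⟩, ⟨a' * q * a'⁻¹ * (q : G)⁻¹, hDa'.2 q q.2⟩)
    have hfib : ∀ q r : Q, φ q = φ r → (q : G)⁻¹ * r ∈ zpowers u := fun q r e => by
      rw [← hCu]
      have hone : ∀ d, D d → d * (q : G) * d⁻¹ * (q : G)⁻¹ = d * r * d⁻¹ * (r : G)⁻¹ → Commute ((q : G)⁻¹ * r) d :=
        fun d hd e => by
          set e₀ := d * (r : G) * d⁻¹ * (r : G)⁻¹ with he₀
          have hce : Commute e₀ (q : G)⁻¹ ∧ e₀ ∈ zpowers u := by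
            refine ⟨?_, hd.2 r r.2⟩
            rcases (T.mem_zpowers_iff h).1 (hd.2 r r.2) with e1 | e1 <;> rw [he₀, e1]
            · exact Commute.one_left _
            · exact (T.cent _ (Q.inv_mem q.2)).symm
          show (q : G)⁻¹ * r * d = d * ((q : G)⁻¹ * r)
          have e1 : d * (q : G) * d⁻¹ = e₀ * q := by rw [← e]; group
          have e2 : d * (r : G) * d⁻¹ = e₀ * r := by rw [he₀]; group
          symm
          calc d * ((q : G)⁻¹ * r) = (d * (q : G) * d⁻¹)⁻¹ * (d * r * d⁻¹) * d := by group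
            _ = (q : G)⁻¹ * r * d := by rw [e1, e2]; group
      exact ⟨Q.mul_mem (Q.inv_mem q.2) r.2, hone a hDa (congrArg (fun p => (p.1 : G)) e),
        hone a' hDa' (congrArg (fun p => (p.2 : G)) e)⟩
    haveI := Fintype.ofFinite Q
    haveI := Fintype.ofFinite (zpowers u)
    have h1 := Finset.card_le_mul_card_image (f := φ) (Finset.univ : Finset Q) 2 (fun b hb => by
      obtain ⟨q₀, -, rfl⟩ := Finset.mem_image.1 hb
      calc _ ≤ (Finset.univ : Finset (zpowers u)).card := Finset.card_le_card_of_injOn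
            (fun r => if hr : φ r = φ q₀ then ⟨(q₀ : G)⁻¹ * r, hfib q₀ r hr.symm⟩ else 1)
            (fun _ _ => Finset.mem_univ _) (by
              intro r hr r' hr' e
              simp only [Finset.coe_filter, Set.mem_setOf_eq] at hr hr'
              simp only [hr.2, hr'.2, dite_true, Subtype.mk.injEq] at e
              exact Subtype.ext (mul_left_cancel e))
        _ = 2 := by rw [Finset.card_univ, ← Nat.card_eq_fintype_card, h.card_zpowers_V T.mem T.ne])
    rw [Finset.card_univ, ← Nat.card_eq_fintype_card] at h1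
    refine h1.trans ((Nat.mul_le_mul_left 2 (Finset.card_le_univ _)).trans ?_)
    rw [Fintype.card_prod, ← Nat.card_eq_fintype_card, h.card_zpowers_V T.mem T.ne]
  have h8 : Nat.card Q = 8 := by
    obtain ⟨j, hj⟩ := card_two_pow_four h T.two T.inv
    rw [T.inf_V h, h.card_zpowers_V T.mem T.ne] at hj
    rcases j with _ | _ | j
    · exact absurd (Subgroup.eq_of_le_of_card_ge huQ (by rw [hj, h.card_zpowers_V T.mem T.ne]; norm_num)).symm hQu
    · simpa using hj
    · have : 4 ^ 2 ≤ 4 ^ (j + 1 + 1) := Nat.pow_le_pow_right (by norm_num) (by omega)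
      omega
  -- every element is central modulo `u`
  have hall : ∀ q ∈ Q, D q := by
    let D₀ : Subgroup G :=
      { carrier := {q | D q}
        one_mem' := ⟨Q.one_mem, fun r _ => by simp⟩
        mul_mem' := fun p q => hDmul _ _ p q
        inv_mem' := fun {q} hq => ⟨Q.inv_mem hq.1, fun r hr => by
          have hq' := hq.2 (q⁻¹ * r * q) (Q.mul_mem (Q.mul_mem (Q.inv_mem hq.1) hr) hq.1)
          rw [show q * (q⁻¹ * r * q) * q⁻¹ * (q⁻¹ * r * q)⁻¹ = (q⁻¹ * r * q⁻¹⁻¹ * r⁻¹)⁻¹ by group] at hq'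
          simpa using inv_mem hq'⟩ }
    have h5 : D₀ = Q := Subgroup.eq_of_le_of_card_ge (fun q hq => hq.1) (by
      have hDu : D u := ⟨T.inQ, fun r hr => by
        rw [show u * r = r * u from (T.cent r hr).symm.eq]; simp⟩
      have h5 : ({1, u, a, a', a * a'} : Set G).ncard ≤ (D₀ : Set G).ncard := Set.ncard_le_ncard (by
        rintro p (rfl | rfl | rfl | rfl | rfl)
        exacts [D₀.one_mem, hDu, hDa, hDa', hDmul _ _ hDa hDa']) (Set.toFinite _)
      have n1 : ∀ {p : G}, p ∉ zpowers u → p ≠ 1 ∧ p ≠ u := fun hp =>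
        ⟨fun e => hp (e ▸ one_mem _), fun e => hp (e ▸ mem_zpowers u)⟩
      have n2 : a ≠ a' := fun e => hau (T.fixed h haQ e.symm)
      have n3 : a ≠ a * a' := fun e => (n1 ha'u).1 (mul_eq_left.1 e.symm)
      have n4 : a' ≠ a * a' := fun e => (n1 hau).1 (mul_eq_right.1 e.symm)
      rw [Set.ncard_insert_of_notMem (by simp [Ne.symm T.ne, Ne.symm (n1 hau).1, Ne.symm (n1 ha'u).1, Ne.symm (n1 haa'u).1])
          (Set.toFinite _),
        Set.ncard_insert_of_notMem (by simp [Ne.symm (n1 hau).2, Ne.symm (n1 ha'u).2, Ne.symm (n1 haa'u).2])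
          (Set.toFinite _),
        Set.ncard_insert_of_notMem (by simp [n2, n3]) (Set.toFinite _),
        Set.ncard_insert_of_notMem (by simp [n4]) (Set.toFinite _), Set.ncard_singleton] at h5
      have h6 : Nat.card D₀ = (D₀ : Set G).ncard := Nat.card_coe_set_eq _
      have h7 : Nat.card D₀ ∣ 8 := h8 ▸ card_dvd_of_le (fun q hq => hq.1)
      obtain ⟨m, hm, hm'⟩ := (Nat.dvd_prime_pow Nat.prime_two).1 (show Nat.card D₀ ∣ 2 ^ 3 from h7)
      interval_cases m <;> omega)
    exact fun q hq => (h5.symm ▸ hq : q ∈ D₀)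
  exact ⟨h8, fun q hq hqu => hDsq q (hall q hq) hqu, fun q hq => (hall q hq).2⟩

end Cfsg.Lib.ThreeFour
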