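import Cfsg.Agent.ThreeFour.Local.SolvCentral
import Cfsg.Agent.S2475
import Cfsg.Agent.S3214
import Cfsg.Agent.Suz.Group
import Cfsg.Agent.GoldschmidtSFour.Families
import Cfsg.Agent.Classical.Misc.SmallPSL

/-!
Two elements in `V` and four-groups as Sylow two-subgroups: the order is 1092.
-/

set_option autoImplicit false
set_option linter.unusedSectionVars false
set_option linter.style.haveILetI false

namespace Cfsg.Lib.ThreeFour

open Subgroup

universe u

variable {G : Type u} [Group G] [Finite G] {x τ : G} {V K : Subgroup G} {u : G} {F s k : ℕ} {h : G → ℤ}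

/-- Some element of order six. -/
theorem Hyp.orderOf_mul_six (H : Hyp x V) (hu : u ∈ V) (hu1 : u ≠ 1) : orderOf (x * u) = 6 := by
  rw [(H.comm u hu).symm.orderOf_mul_eq_mul_orderOf_of_coprime (by rw [H.ord, H.orderOf_V hu hu1]; norm_num),
    H.ord, H.orderOf_V hu hu1]

/-- With centralisers `⟨u⟩ × R·S₃`, `R` of odd order, all involutions are conjugate and there is a normal
complement. -/
theorem Full.twoNilpotent_of_two (f : Full x V τ F h s k) (C : Core x V τ u K) (h2 : Nat.card V = 2)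
    (hK : (Nat.card K).factorization 2 = 1) :
    (∀ t : G, orderOf t = 2 → IsConj t u) ∧
      Cfsg.HasNormalPComplement 2 ↥(centralizer ({u} : Set G)) := by
  classical
  haveI : Fact (Nat.Prime 2) := ⟨Nat.prime_two⟩
  have H := f.setting.hyp
  have hY : (Nat.card (centralizer ({u} : Set G))).factorization 2 = 2 := by
    rw [C.card, Nat.factorization_mul (by norm_num) Nat.card_pos.ne', Finsupp.add_apply, hK,
      show (6 : ℕ) = 2 ^ 1 * 3 by norm_num, Nat.factorization_mul (by norm_num) (by norm_num), Finsupp.add_apply,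
      Nat.Prime.factorization_pow Nat.prime_two, Finsupp.single_eq_same,
      Nat.factorization_eq_zero_of_not_dvd (by norm_num : ¬ 2 ∣ 3)]
  refine ⟨?_, ?_⟩
  · rcases f.two_lists h2 C.mem C.ne with ⟨-, hall, -, -⟩ | ⟨-, ⟨-, L, hL⟩, -⟩
    · exact hall
    · exfalso
      have h8 : 2 ^ 3 ∣ cen u := by
        have e := hL.eqn
        obtain ⟨l, hl⟩ := hL.four
        refine (Nat.Coprime.pow_left 3 (Nat.coprime_two_left.2 (by decide : Odd 3))).dvd_of_dvd_mul_left ⟨s * l, ?_⟩
        rw [hl] at e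
        linarith [e]
      rw [Nat.Prime.pow_dvd_iff_le_factorization Nat.prime_two (show cen u ≠ 0 from Nat.card_pos.ne'),
        show cen u = Nat.card (centralizer ({u} : Set G)) from rfl, hY] at h8
      omega
  set Y := centralizer ({u} : Set G)
  obtain ⟨P⟩ : Nonempty (Sylow 2 Y) := inferInstance
  have hP4 : Nat.card P = 2 ^ 2 := by rw [P.card_eq_multiplicity, hY]
  haveI : IsMulCommutative (P : Subgroup Y) := IsPGroup.isMulCommutative_of_card_eq_prime_sq hP4
  refine ⟨P, _, MonoidHom.normal_ker _, MonoidHom.ker_transferSylow_isComplement' P fun n hn => ?_⟩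
  set Nn := normalizer ((P : Subgroup Y) : Set Y)
  set Cn := centralizer ((P : Subgroup Y) : Set Y)
  -- the involution `u`
  have huY : u ∈ Y := mem_centralizer_singleton_iff.2 rfl
  have huc : ∀ g : Y, g * ⟨u, huY⟩ = ⟨u, huY⟩ * g := fun g => Subtype.ext (mem_centralizer_singleton_iff.1 g.2)
  have huP : (⟨u, huY⟩ : Y) ∈ (P : Subgroup Y) := by
    have hp : IsPGroup 2 (zpowers (⟨u, huY⟩ : Y)) := IsPGroup.of_card (n := 1) (by
      rw [Nat.card_zpowers, Subgroup.orderOf_mk, H.orderOf_V C.mem C.ne, pow_one])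
    obtain ⟨Q, hQ⟩ := hp.exists_le_sylow
    obtain ⟨g, hg⟩ := MulAction.exists_smul_eq Y Q P
    rw [← hg]
    exact ⟨⟨u, huY⟩, hQ (mem_zpowers _), by simp [MulAut.smul_def, huc g]⟩
  obtain ⟨m, hm⟩ : ∃ m, Nat.card Y = 4 * m ∧ ¬ 2 ∣ m := by
    refine ⟨Nat.card Y / 4, ?_, ?_⟩
    · exact (Nat.mul_div_cancel' ((show 4 = 2 ^ 2 by rfl) ▸ (Nat.Prime.pow_dvd_iff_le_factorization Nat.prime_two
        Nat.card_pos.ne').2 hY.ge)).symm
    · have := Nat.not_dvd_ordCompl Nat.prime_two (Nat.card_pos (α := Y)).ne'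
      rwa [hY] at this
  haveI : (Cn.subgroupOf Nn).Normal := (normal_subgroupOf_iff_le_normalizer (centralizer_le_normalizer _)).2
    (normalizer_le_normalizer_centralizer_self (P : Subgroup Y))
  -- every element of the normaliser squares into the centraliser
  have hsq : ∀ g ∈ Nn, g * g ∈ Cn := by
    intro g hg
    refine mem_centralizer_iff.2 fun b hb => ?_
    have hbn := (mem_set_normalizer_iff.1 hg)
    by_cases hb1 : b = 1 ∨ b = ⟨u, huY⟩
    · rcases hb1 with rfl | rfl
      · simp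
      · exact (huc _).symm
    push Not at hb1
    have hg1 : g * b * g⁻¹ ∈ (P : Subgroup Y) := (hbn b).1 hb
    have hg2 : g * (g * b * g⁻¹) * g⁻¹ ∈ (P : Subgroup Y) := (hbn _).1 hg1
    have hne : ∀ c : Y, c ≠ 1 ∧ c ≠ ⟨u, huY⟩ → g * c * g⁻¹ ≠ 1 ∧ g * c * g⁻¹ ≠ ⟨u, huY⟩ := fun c hc =>
      ⟨fun e => hc.1 (conj_eq_one_iff.1 e), fun e => hc.2 (mul_left_cancel (a := g)
        (mul_right_cancel (b := g⁻¹) (e.trans (by rw [huc g, mul_inv_cancel_right]))))⟩
    have h1 := hne b hb1
    have h2' := hne _ h1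
    have key : g * (g * b * g⁻¹) * g⁻¹ = b := by
      by_contra hne2
      by_cases hsame : g * b * g⁻¹ = b
      · exact hne2 (by rw [hsame, hsame])
      have hne3 : g * (g * b * g⁻¹) * g⁻¹ ≠ g * b * g⁻¹ := fun e => hsame
        (mul_left_cancel (a := g) (mul_right_cancel (b := g⁻¹) e))
      have h5 : ({1, ⟨u, huY⟩, b, g * b * g⁻¹, g * (g * b * g⁻¹) * g⁻¹} : Set Y).ncard ≤
          ((P : Subgroup Y) : Set Y).ncard := Set.ncard_le_ncard (by
        rintro p (rfl | rfl | rfl | rfl | rfl)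
        exacts [(P : Subgroup Y).one_mem, huP, hb, hg1, hg2]) (Set.toFinite _)
      have hu1' : (⟨u, huY⟩ : Y) ≠ 1 := fun e => C.ne (congrArg Subtype.val e)
      rw [Set.ncard_insert_of_notMem (by simp [Ne.symm hu1', Ne.symm hb1.1, Ne.symm h1.1, Ne.symm h2'.1])
          (Set.toFinite _),
        Set.ncard_insert_of_notMem (by simp [Ne.symm hb1.2, Ne.symm h1.2, Ne.symm h2'.2]) (Set.toFinite _),
        Set.ncard_insert_of_notMem (by simp [Ne.symm hsame, Ne.symm hne2]) (Set.toFinite _),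
        Set.ncard_insert_of_notMem (by simp [Ne.symm hne3]) (Set.toFinite _), Set.ncard_singleton,
        ← Nat.card_coe_set_eq] at h5
      rw [show Nat.card (((P : Subgroup Y) : Set Y) : Type u) = 2 ^ 2 from hP4] at h5
      omega
    calc b * (g * g) = g * (g * b * g⁻¹) * g⁻¹ * (g * g) := by rw [key]
      _ = g * g * b := by group
  have hCn : (P : Subgroup Y) ≤ Cn := fun a ha => mem_centralizer_iff.2 fun b hb =>
    congrArg Subtype.val (mul_comm' (⟨b, hb⟩ : (P : Subgroup Y)) ⟨a, ha⟩)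
  have hodd : ¬ 2 ∣ (Cn.subgroupOf Nn).index := fun e => by
    have h1 := (Cn.subgroupOf Nn).card_mul_index
    rw [Nat.card_congr (subgroupOfEquivOfLe (centralizer_le_normalizer _)).toEquiv] at h1
    have h2d : 4 * (Cn.subgroupOf Nn).index ∣ Nat.card Y := by
      refine (Nat.mul_dvd_mul_right (show 4 ∣ Nat.card Cn from ?_) _).trans (h1 ▸ card_subgroup_dvd_card Nn)
      exact (show 4 = Nat.card P from hP4.symm.trans (by rfl)).dvd.trans (card_dvd_of_le hCn)
    rw [hm.1] at h2d
    exact hm.2 (e.trans (Nat.dvd_of_mul_dvd_mul_left (by norm_num) h2d))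
  obtain ⟨j, hj⟩ : ∃ j, (Cn.subgroupOf Nn).index = 2 * j + 1 := Nat.odd_iff.2 (by omega)
  have hp := Subgroup.pow_index_mem (Cn.subgroupOf Nn) (⟨n, hn⟩ : Nn)
  rw [hj, mem_subgroupOf] at hp
  have h2m : ((n * n) ^ j) ∈ Cn := pow_mem (hsq n hn) j
  have : n = ((n * n) ^ j)⁻¹ * ((⟨n, hn⟩ : Nn) ^ (2 * j + 1) : Nn) := by
    show n = ((n * n) ^ j)⁻¹ * n ^ (2 * j + 1)
    rw [pow_succ, pow_mul, pow_two, inv_mul_cancel_left]
  rw [this]
  exact Cn.mul_mem (Cn.inv_mem h2m) hp

/-- The order in that case. -/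
theorem Full.card_of_two (f : Full x V τ F h s k) (C : Core x V τ u K) (h2 : Nat.card V = 2)
    (hK : (Nat.card K).factorization 2 = 1) : Nat.card G = 1092 := by
  classical
  have H := f.setting.hyp
  haveI := f.setting.simple
  have h5 := f.setting.five
  obtain ⟨hall, hnil⟩ := f.twoNilpotent_of_two C h2 hK
  have hG : ¬ IsMulCommutative G := fun hc => f.toCtx.tau.not_commute H (hc.is_comm.comm τ x)
  have hI : ∀ t : G, orderOf t = 2 → Cfsg.HasNormalPComplement 2 ↥(centralizer ({t} : Set G)) := by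
    intro t ht
    obtain ⟨g, rfl⟩ := isConj_iff.1 (hall t ht).symm
    obtain ⟨P, N, hN, hc⟩ := hnil
    let e : centralizer ({u} : Set G) ≃* centralizer ({g * u * g⁻¹} : Set G) :=
      { toFun := fun a => ⟨g * a * g⁻¹, mem_centralizer_singleton_iff.2 (by
          rw [show g * (a : G) * g⁻¹ * (g * u * g⁻¹) = g * ((a : G) * u) * g⁻¹ by group,
            mem_centralizer_singleton_iff.1 a.2]; group)⟩
        invFun := fun a => ⟨g⁻¹ * a * g, mem_centralizer_singleton_iff.2 (by
          have h1 := mem_centralizer_singleton_iff.1 a.2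
          calc g⁻¹ * (a : G) * g * u = g⁻¹ * ((a : G) * (g * u * g⁻¹)) * g := by group
            _ = g⁻¹ * ((g * u * g⁻¹) * (a : G)) * g := by rw [h1]
            _ = u * (g⁻¹ * a * g) := by group)⟩
        left_inv := fun a => Subtype.ext (by show g⁻¹ * (g * (a : G) * g⁻¹) * g = a; group)
        right_inv := fun a => Subtype.ext (by show g * (g⁻¹ * (a : G) * g) * g⁻¹ = a; group)
        map_mul' := fun a b => Subtype.ext (by
          show g * ((a : G) * b) * g⁻¹ = g * a * g⁻¹ * (g * b * g⁻¹); group) }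
    haveI : Fact (Nat.Prime 2) := ⟨Nat.prime_two⟩
    haveI := hN
    refine ⟨P.mapSurjective (f := e.toMonoidHom) (show Function.Surjective e.toMonoidHom from e.surjective), N.map e.toMonoidHom,
      Subgroup.Normal.map inferInstance _ e.surjective, ?_⟩
    have hc' := hc.card_mul
    refine Subgroup.isComplement'_of_card_mul_and_disjoint ?_ ?_
    · rw [Sylow.coe_mapSurjective, card_map_of_injective e.injective, card_map_of_injective e.injective, hc',
        Nat.card_congr e.toEquiv]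
    · rw [Sylow.coe_mapSurjective, disjoint_iff, ← map_inf _ _ _ e.injective, disjoint_iff.1 hc.disjoint,
        Subgroup.map_bot]
  rcases Cfsg.Agent.S3214.result hG hI with ⟨F₀, iF, iF', hq, ⟨e⟩⟩ | hs | ⟨⟨e⟩⟩ | ⟨F₀, iF, iF', hF4, ⟨e⟩⟩
  · letI := iF
    letI := iF'
    obtain ⟨p, hp⟩ := CharP.exists F₀
    haveI := hp
    haveI : Fact p.Prime := ⟨CharP.char_is_prime F₀ p⟩
    obtain ⟨n, -, hn⟩ := FiniteField.card F₀ p
    set q := Fintype.card F₀ with hqdef
    have hcard := Cfsg.Lib.Classical.SmallPSL.card_psl (F := F₀) rfl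
    rw [← hqdef, ← Nat.card_congr e.toEquiv] at hcard
    have hspec := Cfsg.Agent.S2475.result (F := F₀) p (by omega)
    rw [← hqdef] at hspec
    set d := Nat.gcd 2 (q - 1) with hd
    -- an element of order six
    have h6 : (6 : ℕ) ∣ p ∨ 6 ∣ (q - 1) / d ∨ 6 ∣ (q + 1) / d := by
      have : (6 : ℕ) ∈ Set.range (orderOf : Matrix.ProjectiveSpecialLinearGroup (Fin 2) F₀ → ℕ) :=
        ⟨e (x * u), by rw [MulEquiv.orderOf_eq, H.orderOf_mul_six C.mem C.ne]⟩
      rwa [hspec] at this
    have hnot : ¬ (6 : ℕ) ∣ p := fun h6 => by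
      rcases (Nat.dvd_prime (Fact.out : p.Prime)).1 h6 with e' | e'
      · omega
      · exact absurd (e' ▸ (Fact.out : p.Prime)) (by norm_num)
    -- elements of order divisible by three have order dividing six
    have hdiv : ∀ N : ℕ, 3 ∣ N → N ∈ Set.range (orderOf : Matrix.ProjectiveSpecialLinearGroup (Fin 2) F₀ → ℕ) →
        N ∣ 6 := by
      rintro N h3 ⟨y, rfl⟩
      set z := e.symm y with hz
      have hzo : orderOf z = orderOf y := MulEquiv.orderOf_eq _ _
      rw [← hzo] at h3 ⊢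
      obtain ⟨g, hg⟩ := H.exists_conj_mem (y := z ^ (orderOf z / 3))
        (orderOf_pow_orderOf_div (orderOf_pos z).ne' h3)
      set w := g⁻¹ * z * g with hw
      have hwx : Commute w x := by
        have hc : Commute w (g⁻¹ * z ^ (orderOf z / 3) * g) := by
          show g⁻¹ * z * g * (g⁻¹ * z ^ (orderOf z / 3) * g) = g⁻¹ * z ^ (orderOf z / 3) * g * (g⁻¹ * z * g)
          rw [show g⁻¹ * z * g * (g⁻¹ * z ^ (orderOf z / 3) * g) = g⁻¹ * (z * z ^ (orderOf z / 3)) * g by group,
            ((Commute.refl z).pow_right _).eq]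
          group
        rcases hg with e' | e' <;> rw [e'] at hc
        · exact hc
        · exact inv_inv x ▸ hc.inv_right
      obtain ⟨i, hi, v, hv, e'⟩ := H.cent w hwx
      refine orderOf_dvd_of_pow_eq_one ?_
      have h3' := H.cube hi hv
      rw [← e'] at h3'
      have hw6 : w ^ 6 = 1 := by
        rw [show (6 : ℕ) = 3 * 2 from rfl, pow_mul, h3', pow_two, H.sq v hv]
      calc z ^ 6 = g * (g⁻¹ * z * g) ^ 6 * g⁻¹ := by rw [← conj_pow]; congr 1; group
        _ = 1 := by rw [← hw, hw6]; group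
    have hd1 : d ∣ q - 1 := Nat.gcd_dvd_right _ _
    have hmem : ∀ N : ℕ, N = (q - 1) / d ∨ N = (q + 1) / d →
        N ∈ Set.range (orderOf : Matrix.ProjectiveSpecialLinearGroup (Fin 2) F₀ → ℕ) := fun N hN => by
      rw [hspec]
      rcases hN with rfl | rfl
      · exact Or.inr (Or.inl dvd_rfl)
      · exact Or.inr (Or.inr dvd_rfl)
    have heq : ∀ N : ℕ, N = (q - 1) / d ∨ N = (q + 1) / d → 6 ∣ N → N = 6 := fun N hN h6N =>
      Nat.dvd_antisymm (hdiv N ((by norm_num : 3 ∣ 6).trans h6N) (hmem N hN)) h6N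
    have hd2 : d = 1 ∨ d = 2 := (Nat.dvd_prime Nat.prime_two).1 (Nat.gcd_dvd_left _ _)
    have hqq : q = 11 ∨ q = 13 := by
      rcases h6 with h6 | h6 | h6
      · exact absurd h6 hnot
      · have e6 := heq _ (Or.inl rfl) h6
        rcases hd2 with e' | e' <;> rw [e'] at e6 hd1 h6
        · exfalso
          have : q = 7 := by omega
          rw [this] at hd
          norm_num [hd] at e'
        · omega
      · have e6 := heq _ (Or.inr rfl) h6
        rcases hd2 with e' | e' <;> rw [e'] at e6 hd1 h6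
        · exfalso
          have : q = 5 := by omega
          rw [this] at hd
          norm_num [hd] at e'
        · omega
    rcases hqq with e' | e' <;> rw [hd, e'] at hcard <;> norm_num at hcard
    · exfalso
      apply h5
      omega
    · omega
  · exfalso
    obtain ⟨F₀, iF, iF', m, hm, hc, ⟨e⟩⟩ := hs
    letI := iF
    letI := iF'
    apply h5
    rw [Nat.card_congr (e.trans (Cfsg.Lib.Suz.lieEquiv ⟨hm, hc⟩).symm).toEquiv, Cfsg.Lib.Suz.card_Sz ⟨hm, hc⟩]
    exact Dvd.dvd.mul_right (Dvd.dvd.mul_left (five_dvd_suzuki m rfl) _) _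
  · exfalso
    apply h5
    rw [Nat.card_congr e.toEquiv, nat_card_alternatingGroup, Nat.card_eq_fintype_card, Fintype.card_fin]
    norm_num [Nat.factorial]
  · exfalso
    letI := iF
    letI := iF'
    apply h5
    have h1 := Cfsg.Lib.Classical.gcd_mul_card_PSL (ι := Fin 3) (F := F₀)
    rw [Nat.card_congr e.toEquiv]
    rw [Fintype.card_fin, Nat.card_eq_fintype_card (α := F₀), hF4] at h1
    have h3 : (5 : ℕ) ∣ Nat.card (Matrix.SpecialLinearGroup (Fin 3) F₀) := by
      have hc := Cfsg.Lib.Classical.card_SL_mul_eq_prod (F := F₀) (n := 3) (by norm_num)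
      norm_num [Fin.prod_univ_three, hF4, -Nat.card_eq_fintype_card] at hc
      omega
    rw [← h1] at h3
    exact (Nat.Coprime.dvd_of_dvd_mul_left (by norm_num) h3)

end Cfsg.Lib.ThreeFour
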