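import Cfsg.Agent.ThreeFour.Local.QuatKill
import Cfsg.Agent.ThreeFour.Local.CharTwo
import Cfsg.Agent.ThreeFour.Local.SylowFour

/-!
The order is 1092 or the group is of characteristic 2 type.
-/

set_option autoImplicit false
set_option linter.unusedSectionVars false
set_option linter.style.haveILetI false

namespace Cfsg.Lib.ThreeFour

open Subgroup
open Cfsg.Lib.SelfCentThree (Inv P3)

universe u

variable {G : Type u} [Group G] [Finite G] {x τ : G} {V : Subgroup G} {u : G} {F s k : ℕ} {h : G → ℤ}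

theorem Hyp.exists_ne_one (H : Hyp x V) : ∃ u ∈ V, u ≠ 1 := by
  by_contra hno
  push Not at hno
  have hb : V = ⊥ := eq_bot_iff.2 fun v hv => mem_bot.2 (hno v hv)
  have := H.card
  rw [hb, card_bot] at this
  omega

/-- The order is 1092 or the group is of characteristic 2 type. -/
theorem Full.reduce (f : Full x V τ F h s k) :
    Nat.card G = 1092 ∧ Nat.card V = 2 ∨ Cfsg.IsCharacteristicTwoType G ∧ ¬ Cfsg.PRankLE 2 2 G := by
  classical
  have H := f.setting.hyp
  have ht := f.toCtx.tau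
  haveI : Fact (Nat.Prime 2) := ⟨Nat.prime_two⟩
  obtain ⟨u, hu, hu1⟩ := H.exists_ne_one
  have hτV : τ ∉ V := fun hm => ht.not_commute H (H.comm τ hm)
  rcases H.card with h2 | h4
  · obtain ⟨K, C⟩ := f.toCtx.exists_core hu hu1 (f.central hu hu1)
    obtain ⟨Q, hQK, hVQ, hQ2, hQI, hQc⟩ := exists_inv_sylow_ge H C.inv C.three 2 C.le
      (isPGroup_of_le_V H le_rfl) (H.inv_of_le_V le_rfl)
    have T : TwoFix x V Q u := ⟨hQ2, hQI, h2, hu, hu1, hVQ hu, fun q hq =>
      mem_centralizer_singleton_iff.1 (C.sub (hQK hq))⟩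
    rcases T.shape H with e | e | ⟨e8, hsq, hcm⟩
    · exact Or.inr ⟨f.charTwoType e, e⟩
    · refine Or.inl ⟨f.card_of_two C h2 ?_, h2⟩
      rw [e, H.card_zpowers_V hu hu1] at hQc
      exact (Nat.pow_right_injective le_rfl (show 2 ^ 1 = _ from hQc)).symm
    · exfalso
      refine f.not_quat C ⟨T, e8, hsq, hcm⟩ hQK ?_
      rw [e8] at hQc
      exact (Nat.pow_right_injective le_rfl (show 2 ^ 3 = _ from hQc)).symm
  · obtain ⟨u', hu', n1, n2, n3, n4, -, -⟩ := H.exists_others h4 hu hu1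
    refine (fun hr => Or.inr ⟨f.charTwoType hr, hr⟩) (not_rankLE_of_three (a := u) (b := u') (c := τ) (H.sq u hu) (H.sq u' hu') ht.sq
      (H.comm_V hu hu') (ht.fix u hu).symm (ht.fix u' hu').symm hu1 n1 (ht.ne_one H) n2 ?_ ?_ ?_)
    · exact fun e => hτV (e ▸ hu)
    · exact fun e => hτV (e ▸ hu')
    · exact fun e => hτV (e ▸ V.mul_mem hu hu')

/-- In characteristic two type the core of the centraliser of an element of `V` is a two-group. -/
theorem Full.exists_core_two (f : Full x V τ F h s k) (hct : Cfsg.IsCharacteristicTwoType G) (hu : u ∈ V)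
    (hu1 : u ≠ 1) : ∃ K, Core x V τ u K ∧ IsPGroup 2 K := by
  obtain ⟨K, C⟩ := f.toCtx.exists_core hu hu1 (f.central hu hu1)
  exact ⟨K, C, C.isPGroup_two f.setting.hyp f.setting.five f.toCtx.tau hct⟩

theorem Full.solvU (f : Full x V τ F h s k) (hct : Cfsg.IsCharacteristicTwoType G) (hu : u ∈ V) (hu1 : u ≠ 1) :
    SolvU (Nat.card V) (cen u) := by
  obtain ⟨K, C, h2⟩ := f.exists_core_two hct hu hu1
  exact C.solvU f.setting.hyp h2

end Cfsg.Lib.ThreeFour
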