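import Cfsg.Agent.ThreeFour.Local.SevenSetup

/-!
Elementary abelian subgroups of order eight in a group of order 32 which acts by transvections on one of them.
-/

set_option autoImplicit false
set_option linter.unusedSectionVars false
set_option linter.style.haveILetI false

namespace Cfsg.Lib.ThreeFour

open Subgroup

universe u

variable {G : Type u} [Group G] [Finite G] {D R E E' E₀ : Subgroup G} {u r r' : G}

/-- `R` has order 32 and acts on its self-centralising subgroup `D` of order eight by transvections with centre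
`u`. -/
structure Frame (D R : Subgroup G) (u : G) : Prop where
  cardD : Nat.card D = 8
  cardR : Nat.card R = 32
  sqD : ∀ d ∈ D, d * d = 1
  le : D ≤ R
  mem : u ∈ D
  ne : u ≠ 1
  comm : ∀ r ∈ R, ∀ d ∈ D, r * d * r⁻¹ * d⁻¹ ∈ zpowers u
  self : centralizer (D : Set G) ≤ D

/-- The competitors of `D`. -/
structure Cand (R : Subgroup G) (u : G) (E : Subgroup G) : Prop where
  le : E ≤ R
  card : Nat.card E = 8
  sq : ∀ a ∈ E, a * a = 1
  mem : u ∈ E

theorem comm_of_sq {A : Subgroup G} (hA : ∀ a ∈ A, a * a = 1) {a b : G} (ha : a ∈ A) (hb : b ∈ A) : Commute a b := by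
  have h1 := hA _ (A.mul_mem ha hb)
  calc a * b = (a * b)⁻¹ := (inv_eq_of_mul_eq_one_right h1).symm
    _ = b * a := by
      rw [mul_inv_rev, inv_eq_of_mul_eq_one_right (hA a ha), inv_eq_of_mul_eq_one_right (hA b hb)]

theorem Frame.cardU (T : Frame D R u) : Nat.card (zpowers u) = 2 := by
  haveI : Fact (Nat.Prime 2) := ⟨Nat.prime_two⟩
  rw [Nat.card_zpowers]
  exact orderOf_eq_prime (by rw [pow_two]; exact T.sqD u T.mem) T.ne

theorem Frame.mem_u_iff (T : Frame D R u) {k : G} : k ∈ zpowers u ↔ k = 1 ∨ k = u := by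
  refine ⟨fun hk => ?_, ?_⟩
  · obtain ⟨i, rfl⟩ := mem_zpowers_iff.1 hk
    have h2 : u ^ (2 : ℤ) = 1 := by rw [zpow_two, T.sqD u T.mem]
    rcases Int.even_or_odd i with ⟨j, rfl⟩ | ⟨j, rfl⟩
    · left; rw [← two_mul, zpow_mul, h2, one_zpow]
    · right; rw [zpow_add, zpow_mul, h2, one_zpow, one_mul, zpow_one]
  · rintro (rfl | rfl)
    exacts [one_mem _, mem_zpowers _]

theorem Frame.cent_u (T : Frame D R u) (hr : r ∈ R) : Commute r u := by
  rcases T.mem_u_iff.1 (T.comm r hr u T.mem) with e | e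
  · exact mul_inv_eq_iff_eq_mul.1 (mul_inv_eq_one.1 e)
  · exfalso
    have h1 : r * u * r⁻¹ = 1 := by
      calc r * u * r⁻¹ = (r * u * r⁻¹ * u⁻¹) * u := by group
        _ = 1 := by rw [e, T.sqD u T.mem]
    exact T.ne (conj_eq_one_iff.1 h1)

/-- The fixed points of `r` on `D`. -/
def fixW (D : Subgroup G) (r : G) : Subgroup G := D ⊓ centralizer ({r} : Set G)

theorem mem_fixW {d : G} : d ∈ fixW D r ↔ d ∈ D ∧ d * r = r * d := by
  rw [fixW, mem_inf, mem_centralizer_singleton_iff]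

theorem Frame.u_mem_fixW (T : Frame D R u) (hr : r ∈ R) : u ∈ fixW D r :=
  mem_fixW.2 ⟨T.mem, (T.cent_u hr).eq.symm⟩

/-- Outside the fixed points `r` multiplies by `u`. -/
theorem Frame.conj_eq (T : Frame D R u) (hr : r ∈ R) {d : G} (hd : d ∈ D) (hdW : d ∉ fixW D r) :
    r * d * r⁻¹ = u * d := by
  rcases T.mem_u_iff.1 (T.comm r hr d hd) with e | e
  · exact absurd (mem_fixW.2 ⟨hd, (mul_inv_eq_iff_eq_mul.1 (mul_inv_eq_one.1 e)).symm⟩) hdW
  · rw [← e]; group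

theorem Frame.mul_mem_fixW (T : Frame D R u) (hr : r ∈ R) {a b : G} (ha : a ∈ D) (hb : b ∈ D)
    (haW : a ∉ fixW D r) (hbW : b ∉ fixW D r) : a * b ∈ fixW D r := by
  refine mem_fixW.2 ⟨D.mul_mem ha hb, ?_⟩
  have hau : a * u = u * a := comm_of_sq T.sqD ha T.mem
  have e : r * (a * b) * r⁻¹ = a * b := by
    calc r * (a * b) * r⁻¹ = (r * a * r⁻¹) * (r * b * r⁻¹) := by group
      _ = u * a * (u * b) := by rw [T.conj_eq hr ha haW, T.conj_eq hr hb hbW]
      _ = u * (a * u) * b := by group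
      _ = (u * u) * (a * b) := by rw [hau]; group
      _ = a * b := by rw [T.sqD u T.mem, one_mul]
  exact (mul_inv_eq_iff_eq_mul.1 e).symm

theorem Frame.card_fixW (T : Frame D R u) (hr : r ∈ R) (hrD : r ∉ D) : Nat.card (fixW D r) = 4 := by
  set W := fixW D r with hW
  have hWD : W ≤ D := inf_le_left
  have hne : ¬ D ≤ W := fun hle => hrD (T.self (mem_centralizer_iff.2 fun d hd => (mem_fixW.1 (hle hd)).2))
  obtain ⟨a, ha, haW⟩ := SetLike.not_le_iff_exists.1 hne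
  have hidx : (W.subgroupOf D).index = 2 := by
    rw [Subgroup.index_eq_two_iff]
    refine ⟨⟨a, ha⟩, fun b => ?_⟩
    by_cases hb : (b : G) ∈ W
    · refine Or.inr ⟨mem_subgroupOf.2 hb, fun hm => haW ?_⟩
      have := mul_mem (inv_mem hb) (mem_subgroupOf.1 hm)
      rwa [Subgroup.coe_mul, inv_mul_cancel_left] at this
    · exact Or.inl ⟨mem_subgroupOf.2 (T.mul_mem_fixW hr b.2 ha hb haW), fun hm => hb (mem_subgroupOf.1 hm)⟩
  have h := (W.subgroupOf D).card_mul_index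
  rw [hidx, Nat.card_congr (subgroupOfEquivOfLe hWD).toEquiv, T.cardD] at h
  omega

/-- The fixed points determine the coset. -/
theorem Frame.coset_eq (T : Frame D R u) (hr : r ∈ R) (hr' : r' ∈ R) (e : fixW D r = fixW D r') : r⁻¹ * r' ∈ D := by
  refine T.self (mem_centralizer_iff.2 fun d hd => ?_)
  have key : r * d * r⁻¹ = r' * d * r'⁻¹ := by
    by_cases hdW : d ∈ fixW D r
    · rw [(mem_fixW.1 hdW).2.symm, mul_inv_cancel_right, (mem_fixW.1 (show d ∈ fixW D r' from e ▸ hdW)).2.symm, mul_inv_cancel_right]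
    · rw [T.conj_eq hr hd hdW, T.conj_eq hr' hd (show d ∉ fixW D r' from e ▸ hdW)]
  calc d * (r⁻¹ * r') = r⁻¹ * (r * d * r⁻¹) * r' := by group
    _ = r⁻¹ * r' * d := by rw [key]; group

/-- Two involutions in a coset differ by a fixed point. -/
theorem Frame.sq_coset (T : Frame D R u) (hr2 : r * r = 1) (hr'2 : r' * r' = 1) (hd : r⁻¹ * r' ∈ D) :
    r⁻¹ * r' ∈ fixW D r := by
  refine mem_fixW.2 ⟨hd, ?_⟩
  set d := r⁻¹ * r' with hd'
  have e : r' = r * d := by rw [hd']; group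
  have h1 : r * d * (r * d) = 1 := by rw [← e]; exact hr'2
  calc d * r = r⁻¹ * ((r * d * (r * d)) * d⁻¹) := by group
    _ = r⁻¹ * d⁻¹ := by rw [h1, one_mul]
    _ = r * d := by rw [inv_eq_of_mul_eq_one_right (T.sqD d hd), inv_eq_of_mul_eq_one_right hr2]

theorem Frame.inf_ge (T : Frame D R u) (hE : Cand R u E) : zpowers u ≤ D ⊓ E :=
  zpowers_le.2 ⟨T.mem, hE.mem⟩

/-- A competitor meets `D` in two or four elements. -/
theorem Frame.inf_cases (T : Frame D R u) (hE : Cand R u E) (hne : E ≠ D) :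
    Nat.card (D ⊓ E : Subgroup G) = 2 ∨ Nat.card (D ⊓ E : Subgroup G) = 4 := by
  have h2 := card_dvd_of_le (T.inf_ge hE)
  rw [T.cardU] at h2
  have h8 : Nat.card (D ⊓ E : Subgroup G) ∣ 8 := T.cardD ▸ card_dvd_of_le inf_le_left
  have hne8 : Nat.card (D ⊓ E : Subgroup G) ≠ 8 := fun e => hne (by
    have e1 : D ⊓ E = D := Subgroup.eq_of_le_of_card_ge inf_le_left (by rw [e, T.cardD])
    exact (Subgroup.eq_of_le_of_card_ge (inf_eq_left.1 e1) (by rw [hE.card, T.cardD])).symm)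
  have hle := Nat.le_of_dvd (by norm_num) h8
  obtain ⟨c, hc⟩ := h2
  rw [hc] at h8 hne8 hle ⊢
  have hc4 : c ≤ 4 := by omega
  interval_cases c <;> omega

/-- Within `D` the fixed points of an element of a competitor meeting `D` in four elements. -/
theorem Frame.fixW_eq (T : Frame D R u) (hE : Cand R u E) (h4 : Nat.card (D ⊓ E : Subgroup G) = 4) (hr : r ∈ E)
    (hrD : r ∉ D) : fixW D r = D ⊓ E :=
  (Subgroup.eq_of_le_of_card_ge (show D ⊓ E ≤ fixW D r from fun a ha => mem_fixW.2 ⟨ha.1, (comm_of_sq hE.sq ha.2 hr).eq⟩)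
    (by rw [T.card_fixW (hE.le hr) hrD, h4])).symm

theorem Frame.exists_outside (T : Frame D R u) (hE : Cand R u E) (hne : E ≠ D) : ∃ r ∈ E, r ∉ D :=
  SetLike.not_le_iff_exists.1 fun hle => hne (Subgroup.eq_of_le_of_card_ge hle (by rw [hE.card, T.cardD]))

theorem Frame.unique (T : Frame D R u) (hE : Cand R u E) (hE' : Cand R u E') (h4 : Nat.card (D ⊓ E : Subgroup G) = 4)
    (e : D ⊓ E = D ⊓ E') : E = E' := by
  have hne : E ≠ D := fun e' => by rw [e', inf_idem, T.cardD] at h4; omega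
  obtain ⟨r, hr, hrD⟩ := T.exists_outside hE hne
  refine (Subgroup.eq_of_le_of_card_ge (fun r' hr' => ?_) (by rw [hE.card, hE'.card])).symm
  by_cases hr'D : r' ∈ D
  · exact ((e.symm ▸ (⟨hr'D, hr'⟩ : r' ∈ D ⊓ E')) : r' ∈ D ⊓ E).2
  have hd := T.coset_eq (hE.le hr) (hE'.le hr')
    (by rw [T.fixW_eq hE h4 hr hrD, T.fixW_eq hE' (e ▸ h4) hr' hr'D, e])
  have hW := T.sq_coset (hE.sq r hr) (hE'.sq r' hr') hd
  rw [T.fixW_eq hE h4 hr hrD] at hW
  have := E.mul_mem hr hW.2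
  rwa [mul_inv_cancel_left] at this

theorem Frame.inf_four (T : Frame D R u) (hE : Cand R u E) (hE' : Cand R u E') (h4 : Nat.card (D ⊓ E : Subgroup G) = 4)
    (h4' : Nat.card (D ⊓ E' : Subgroup G) = 4) (hne : D ⊓ E ≠ D ⊓ E') : Nat.card (E ⊓ E' : Subgroup G) ≤ 2 := by
  have hle : E ⊓ E' ≤ D ⊓ E ⊓ (D ⊓ E') := by
    rintro a ⟨ha, ha'⟩
    by_cases haD : a ∈ D
    · exact ⟨⟨haD, ha⟩, haD, ha'⟩
    · exact absurd ((T.fixW_eq hE h4 ha haD).symm.trans (T.fixW_eq hE' h4' ha' haD)) hne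
  have h1 := card_dvd_of_le (inf_le_left : D ⊓ E ⊓ (D ⊓ E') ≤ D ⊓ E)
  rw [h4] at h1
  have h2 : Nat.card (D ⊓ E ⊓ (D ⊓ E') : Subgroup G) ≠ 4 := fun e => hne (by
    have e1 : D ⊓ E ⊓ (D ⊓ E') = D ⊓ E := Subgroup.eq_of_le_of_card_ge inf_le_left (by rw [e, h4])
    exact Subgroup.eq_of_le_of_card_ge (inf_eq_left.1 e1) (by rw [h4, h4']))
  refine (Nat.le_of_dvd Nat.card_pos (card_dvd_of_le hle)).trans ?_
  have := Nat.le_of_dvd (by norm_num) h1
  generalize Nat.card (D ⊓ E ⊓ (D ⊓ E') : Subgroup G) = c at *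
  interval_cases c <;> omega

/-- A competitor meeting `D` in `⟨u⟩` covers `R` modulo `D`. -/
theorem Frame.cover (T : Frame D R u) (hE : Cand R u E) (h2 : Nat.card (D ⊓ E : Subgroup G) = 2) (hr : r ∈ R) :
    ∃ a ∈ E, r⁻¹ * a ∈ D := by
  have hn : E ≤ normalizer (D : Set G) := fun a ha => Cfsg.Lib.Coprime.mem_normalizer_of_conj_mem
    (fun d hd => by
      have h1 := T.comm a (hE.le ha) d hd
      have h3 := D.mul_mem (zpowers_le.2 T.mem h1) hd
      rwa [inv_mul_cancel_right] at h3)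
    (fun d hd => by
      have h1 := T.comm a⁻¹ (inv_mem (hE.le ha)) d hd
      have h3 := D.mul_mem (zpowers_le.2 T.mem h1) hd
      rwa [inv_mul_cancel_right, inv_inv] at h3)
  have h1 := Cfsg.Lib.Coprime.card_sup_mul_card_inf hn
  rw [h2, T.cardD, hE.card] at h1
  have heq : D ⊔ E = R := Subgroup.eq_of_le_of_card_ge (sup_le T.le hE.le) (by rw [T.cardR]; omega)
  have hr' : r ∈ ((E ⊔ D : Subgroup G) : Set G) := by rw [sup_comm, heq]; exact hr
  rw [Subgroup.coe_mul_of_left_le_normalizer_right _ _ hn] at hr'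
  obtain ⟨a, ha, d, hd, rfl⟩ := hr'
  exact ⟨a, ha, by rw [mul_inv_rev, inv_mul_cancel_right]; exact D.inv_mem hd⟩

theorem Frame.u_of_inf_two (T : Frame D R u) (hE : Cand R u E) (h2 : Nat.card (D ⊓ E : Subgroup G) = 2) :
    D ⊓ E = zpowers u :=
  (Subgroup.eq_of_le_of_card_ge (T.inf_ge hE) (by rw [h2, T.cardU])).symm

/-- Competitors of the two kinds meet in four elements. -/
theorem Frame.inf_mixed (T : Frame D R u) (hE : Cand R u E) (hE' : Cand R u E')
    (h4 : Nat.card (D ⊓ E : Subgroup G) = 4) (h2 : Nat.card (D ⊓ E' : Subgroup G) = 2) :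
    2 < Nat.card (E ⊓ E' : Subgroup G) := by
  have hne : E ≠ D := fun e' => by rw [e', inf_idem, T.cardD] at h4; omega
  obtain ⟨r, hr, hrD⟩ := T.exists_outside hE hne
  obtain ⟨a, ha, had⟩ := T.cover hE' h2 (hE.le hr)
  have hW := T.sq_coset (hE.sq r hr) (hE'.sq a ha) had
  rw [T.fixW_eq hE h4 hr hrD] at hW
  have haE : a ∈ E := by
    have := E.mul_mem hr hW.2
    rwa [mul_inv_cancel_left] at this
  have hau : a ∉ zpowers u := fun hm => hrD (by
    have haD : a ∈ D := zpowers_le.2 T.mem hm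
    have := D.mul_mem haD (D.inv_mem hW.1)
    rwa [show a * (r⁻¹ * a)⁻¹ = r by group] at this)
  have hle : zpowers u ≤ E ⊓ E' := zpowers_le.2 ⟨hE.mem, hE'.mem⟩
  refine lt_of_le_of_ne (T.cardU ▸ Nat.le_of_dvd Nat.card_pos (card_dvd_of_le hle)) fun e => hau ?_
  rw [Subgroup.eq_of_le_of_card_ge hle (by rw [T.cardU, ← e])]
  exact ⟨haE, ha⟩

/-- Two competitors meeting `D` and a third one in `⟨u⟩` are equal. -/
theorem Frame.three (T : Frame D R u) (hE : Cand R u E) (hE' : Cand R u E') (h₀ : Cand R u E₀)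
    (h2 : Nat.card (D ⊓ E : Subgroup G) = 2) (h2' : Nat.card (D ⊓ E' : Subgroup G) = 2)
    (h20 : Nat.card (D ⊓ E₀ : Subgroup G) = 2)
    (hE0 : Nat.card (E ⊓ E₀ : Subgroup G) = 2) (hE0' : Nat.card (E' ⊓ E₀ : Subgroup G) = 2) : E = E' := by
  refine Subgroup.eq_of_le_of_card_ge (fun r hr => ?_) (by rw [hE.card, hE'.card])
  by_cases hru : r ∈ zpowers u
  · exact zpowers_le.2 hE'.mem hru
  have hrD : r ∉ D := fun hm => hru ((T.u_of_inf_two hE h2).le ⟨hm, hr⟩)
  have hrR := hE.le hr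
  obtain ⟨a, ha, had⟩ := T.cover h₀ h20 hrR
  obtain ⟨b, hb, hbd⟩ := T.cover hE' h2' hrR
  have hp := T.sq_coset (hE.sq r hr) (h₀.sq a ha) had
  have hq := T.sq_coset (hE.sq r hr) (hE'.sq b hb) hbd
  set W := fixW D r with hW
  have hE0u : E ⊓ E₀ = zpowers u :=
    (Subgroup.eq_of_le_of_card_ge (show zpowers u ≤ E ⊓ E₀ from zpowers_le.2 ⟨hE.mem, h₀.mem⟩) (by rw [hE0, T.cardU])).symm
  have hE0u' : E' ⊓ E₀ = zpowers u :=
    (Subgroup.eq_of_le_of_card_ge (show zpowers u ≤ E' ⊓ E₀ from zpowers_le.2 ⟨hE'.mem, h₀.mem⟩) (by rw [hE0', T.cardU])).symm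
  have huW : zpowers u ≤ W := zpowers_le.2 (T.u_mem_fixW hrR)
  have hidx : ((zpowers u).subgroupOf W).index = 2 := by
    have h := ((zpowers u).subgroupOf W).card_mul_index
    have hWc : Nat.card W = 4 := T.card_fixW hrR hrD
    rw [Nat.card_congr (subgroupOfEquivOfLe huW).toEquiv, T.cardU, hWc] at h
    omega
  have hau : a ∉ zpowers u := fun hm => hrD (by
    have := D.mul_mem (zpowers_le.2 T.mem hm) (D.inv_mem had)
    rwa [show a * (r⁻¹ * a)⁻¹ = r by group] at this)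
  -- `r⁻¹ a` and `a⁻¹ b` are outside `⟨u⟩`
  have n1 : r⁻¹ * a ∉ zpowers u := fun hm => hau (hE0u.le (mem_inf.2 ⟨by
    have := E.mul_mem hr (zpowers_le.2 hE.mem hm)
    rwa [mul_inv_cancel_left] at this, ha⟩))
  have n2 : a⁻¹ * b ∉ zpowers u := fun hm => by
    have hbu : b ∈ zpowers u := hE0u'.le (mem_inf.2 ⟨hb, by
      have := E₀.mul_mem ha (zpowers_le.2 h₀.mem hm)
      rwa [mul_inv_cancel_left] at this⟩)
    exact hau (by
      have := mul_mem hbu (inv_mem hm)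
      rwa [show b * (a⁻¹ * b)⁻¹ = a by group] at this)
  have hab : a⁻¹ * b ∈ W := by
    have := W.mul_mem (W.inv_mem hp) hq
    rwa [show (r⁻¹ * a)⁻¹ * (r⁻¹ * b) = a⁻¹ * b by group] at this
  have hsum : r⁻¹ * b ∈ zpowers u := by
    have := (Subgroup.mul_mem_iff_of_index_two hidx (a := ⟨r⁻¹ * a, hp⟩) (b := ⟨a⁻¹ * b, hab⟩)).2
      (by simp only [mem_subgroupOf]; exact iff_of_false n1 n2)
    rw [mem_subgroupOf] at this
    simpa [mul_assoc] using this
  have h3 := E'.mul_mem hb (E'.inv_mem (zpowers_le.2 hE'.mem hsum))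
  rwa [show b * (r⁻¹ * b)⁻¹ = r by group] at h3

end Cfsg.Lib.ThreeFour
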