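import Cfsg.Agent.ThreeFour.Local.SevenSetup

/-!
A 2-local subgroup with top of order 168 whose two-core contains `V`.
-/

set_option autoImplicit false
set_option linter.unusedSectionVars false
set_option linter.style.haveILetI false

namespace Cfsg.Lib.ThreeFour

open Subgroup
open Cfsg.Lib.SelfCentThree (Inv P3)
open Cfsg.Lib.Coprime (conjMap mem_conjMap)

universe u

variable {G : Type u} [Group G] [Finite G] {x τ g : G} {V D L R Q : Subgroup G} {u : G}

/-- A proper subgroup of the top above `D` has at most 24 cosets of `D`. -/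
theorem SevenLocal.card_le (S : SevenLocal x V D L) (H : Hyp x V) {A : Subgroup G} (hDA : D ≤ A) (hAL : A ≤ L)
    (hne : A ≠ L) : Nat.card A ≤ 24 * Nat.card D :=
  not_lt.1 fun hlt => hne (S.top.eq_of_large H S.i168 hDA hAL hlt)

/-- A proper subgroup of a nilpotent group is proper in its normaliser. -/
theorem exists_normalizing {A B : Subgroup G} (hB : IsPGroup 2 B) (hle : A ≤ B) (hne : A ≠ B) :
    ∃ n ∈ B, n ∉ A ∧ n ∈ normalizer (A : Set G) := by
  haveI : Fact (Nat.Prime 2) := ⟨Nat.prime_two⟩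
  haveI : Group.IsNilpotent B := hB.isNilpotent
  have hlt : A.subgroupOf B < ⊤ := lt_top_iff_ne_top.2 fun e => hne (le_antisymm hle (subgroupOf_eq_top.1 e))
  obtain ⟨⟨n, hnB⟩, hnn, hnA⟩ := SetLike.exists_of_lt (Group.normalizerCondition_of_isNilpotent _ hlt)
  rw [mem_subgroupOf] at hnA
  refine ⟨n, hnB, hnA, mem_set_normalizer_iff.2 fun a => ⟨fun ha => ?_, fun ha => ?_⟩⟩
  · exact mem_subgroupOf.1 (((mem_set_normalizer_iff.1 hnn) ⟨a, hle ha⟩).1 (mem_subgroupOf.2 ha))
  · have h1 : a ∈ B := by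
      have := B.mul_mem (B.mul_mem (B.inv_mem hnB) (hle ha)) hnB
      rwa [show n⁻¹ * (n * a * n⁻¹) * n = a by group] at this
    exact mem_subgroupOf.1 (((mem_set_normalizer_iff.1 hnn) ⟨a, h1⟩).2 (mem_subgroupOf.2 ha))

theorem card_inf_ge {A B C : Subgroup G} (hA : A ≤ C) (hB : B ≤ C) :
    Nat.card A * Nat.card B ≤ Nat.card (A ⊓ B : Subgroup G) * Nat.card C := by
  have h1 : Nat.card A = Nat.card (A ⊓ B : Subgroup G) * B.relIndex A := by
    have := relIndex_mul_relIndex (⊥ : Subgroup G) (A ⊓ B) A bot_le inf_le_left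
    rw [relIndex_bot_left, relIndex_bot_left, inf_comm A B, inf_relIndex_right] at this
    rw [inf_comm A B]
    exact this.symm
  have h2 : Nat.card C = Nat.card B * B.relIndex C := by
    have := relIndex_mul_relIndex (⊥ : Subgroup G) B C bot_le hB
    rw [relIndex_bot_left, relIndex_bot_left] at this
    exact this.symm
  have h3 : B.relIndex A ≤ B.relIndex C := relIndex_le_of_le_right hA fun e => by
    rw [e, mul_zero] at h2
    exact (Nat.card_pos (α := C)).ne' h2
  rw [h1, h2, mul_assoc, mul_comm (B.relIndex A)]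
  exact Nat.mul_le_mul_left _ (Nat.mul_le_mul_left _ h3)

theorem mem_cent_conj {h r a : G} (ha : a * r = r * a) : h * a * h⁻¹ * (h * r * h⁻¹) = h * r * h⁻¹ * (h * a * h⁻¹) := by
  calc h * a * h⁻¹ * (h * r * h⁻¹) = h * (a * r) * h⁻¹ := by group
    _ = h * r * h⁻¹ * (h * a * h⁻¹) := by rw [ha]; group

/-- An elementary abelian `D` of order 64 is the only one of its kind in `R`. -/
theorem SevenLocal.core_eq (S : SevenLocal x V D L) (H : Hyp x V) (ht : Tau x V τ) (hVD : V ≤ D)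
    (h4 : Nat.card V = 4) (hXL : normalizer (D : Set G) = L) (C : Core x V τ u Q) (hQ2 : IsPGroup 2 Q)
    (hc64 : Nat.card D = 64) (hsq : ∀ d ∈ D, d * d = 1)
    (hRc : Nat.card (Q ⊓ normalizer (D : Set G) : Subgroup G) = 256) :
    Q ⊓ normalizer (D : Set G) = Q := by
  classical
  haveI : Fact (Nat.Prime 2) := ⟨Nat.prime_two⟩
  set X := normalizer (D : Set G) with hX
  set R := Q ⊓ X with hR
  have hxX : x ∈ X := S.top.leL S.top.mem
  have hDab : ∀ a ∈ D, ∀ b ∈ D, Commute a b := fun a ha b hb => by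
    have h1 := inv_eq_of_mul_eq_one_right (hsq _ (D.mul_mem ha hb))
    rw [mul_inv_rev, inv_eq_of_mul_eq_one_right (hsq a ha), inv_eq_of_mul_eq_one_right (hsq b hb)] at h1
    exact h1.symm
  have huD : u ∈ D := hVD C.mem
  obtain ⟨hDR, hMc⟩ := S.cent H ht C hQ2 huD fun d hd => hDab d hd u huD
  have hRI : Inv x R := fun r hr => mem_inf.2 ⟨C.inv r hr.1, mul_mem (mul_mem hxX hr.2) (inv_mem hxX)⟩
  by_contra hne
  obtain ⟨n, hnQ, hnR, hnn⟩ := exists_normalizing hQ2 inf_le_left hne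
  set D' := conjMap n D with hD'
  have hD'R : D' ≤ R := fun a ha => by
    have h1 := ((mem_set_normalizer_iff.1 hnn) _).1 (hDR (mem_conjMap.1 ha))
    rwa [show n * (n⁻¹ * a * n) * n⁻¹ = a by group] at h1
  have hD'c : Nat.card D' = 64 := by rw [hD', Cfsg.Lib.Coprime.card_conjMap, hc64]
  have hD'ne : ¬ D' ≤ D := fun hle => hnR (mem_inf.2 ⟨hnQ, Cfsg.Lib.Coprime.conjMap_eq_self_iff.1
    (Subgroup.eq_of_le_of_card_ge hle (by rw [hD'c, hc64]))⟩)
  have hD'sq : ∀ a ∈ D', a * a = 1 := fun a ha => by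
    have h1 := hsq _ (mem_conjMap.1 ha)
    calc a * a = n * ((n⁻¹ * a * n) * (n⁻¹ * a * n)) * n⁻¹ := by group
      _ = 1 := by rw [h1]; group
  obtain ⟨g, hgL, hg⟩ := S.top.inverter
  have hσ := ht.of_inverting H hg
  have hgD : g ∉ D := S.top.tau_not_mem H hσ
  have hg16 : Nat.card (D ⊓ centralizer ({g} : Set G) : Subgroup G) ≤ 16 := by
    have h1 := hσ.card_cent_sq_le H (SelfCentThree.inv_of_mem_normalizer hxX) (P3.of_two S.two)
    rw [inf_eq_right.2 hVD, h4, hc64] at h1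
    by_contra hlt
    have h3 : 17 ^ 2 ≤ Nat.card (D ⊓ centralizer ({g} : Set G) : Subgroup G) ^ 2 :=
      Nat.pow_le_pow_left (by omega) 2
    rw [show (17 : ℕ) ^ 2 = 289 from rfl] at h3
    omega
  -- involutions modulo `D` have small centralisers
  have hsmall : ∀ r ∈ R, r ∉ D → r * r ∈ D → Nat.card (D ⊓ centralizer ({r} : Set G) : Subgroup G) ≤ 16 ∧
      ∃ h ∈ X, ∃ d ∈ D, h * r * h⁻¹ = d * g := by
    intro r hr hrD hr2
    have hrL : r ∈ L := hXL ▸ hr.2
    obtain ⟨h, hh, hd⟩ := S.top.conj_involution H hrL hrD hr2 hgL hgD (by rw [hσ.sq]; exact D.one_mem)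
    have hhX : h ∈ X := S.top.leL hh
    have e : h * r * h⁻¹ = h * r * h⁻¹ * g⁻¹ * g := by group
    refine ⟨?_, h, hhX, _, hd, e⟩
    rw [← Cfsg.Lib.Coprime.card_conjMap h]
    refine (Nat.le_of_dvd Nat.card_pos (card_dvd_of_le ?_)).trans hg16
    rintro _ ⟨a, ⟨haD, har⟩, rfl⟩
    have haD' : h * a * h⁻¹ ∈ D := ((mem_set_normalizer_iff.1 hhX) a).1 haD
    refine ⟨by simpa using haD', mem_centralizer_singleton_iff.2 ?_⟩
    simp only [MulEquiv.coe_toMonoidHom, MulAut.conj_apply]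
    have h1 := mem_cent_conj (h := h) (mem_centralizer_singleton_iff.1 har)
    have h2 := hDab _ haD' _ hd
    calc h * a * h⁻¹ * g = (h * r * h⁻¹ * g⁻¹)⁻¹ * ((h * r * h⁻¹ * g⁻¹) * (h * a * h⁻¹)) * g := by group
      _ = (h * r * h⁻¹ * g⁻¹)⁻¹ * ((h * a * h⁻¹) * (h * r * h⁻¹)) := by rw [h2.symm.eq]; group
      _ = g * (h * a * h⁻¹) := by rw [h1]; group
  obtain ⟨r, hr, hrD⟩ := SetLike.not_le_iff_exists.1 hD'ne
  obtain ⟨hr16, h, hhX, d, hd, hhd⟩ := hsmall r (hD'R hr) hrD (by rw [hD'sq r hr]; exact D.one_mem)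
  have hle : D ⊓ D' ≤ D ⊓ centralizer ({r} : Set G) := fun a ha => ⟨ha.1, mem_centralizer_singleton_iff.2 (by
    have h1 := inv_eq_of_mul_eq_one_right (hD'sq _ (D'.mul_mem ha.2 hr))
    rw [mul_inv_rev, inv_eq_of_mul_eq_one_right (hD'sq a ha.2), inv_eq_of_mul_eq_one_right (hD'sq r hr)] at h1
    exact h1.symm)⟩
  have h16 : 16 ≤ Nat.card (D ⊓ D' : Subgroup G) := by
    have := card_inf_ge hDR hD'R
    rw [hc64, hD'c, hRc] at this
    omega
  have hZc : Nat.card (D ⊓ D' : Subgroup G) = 16 :=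
    le_antisymm ((Nat.le_of_dvd Nat.card_pos (card_dvd_of_le hle)).trans hr16) h16
  -- `R = D D'`
  have hD'n : D' ≤ normalizer (D : Set G) := hD'R.trans inf_le_right
  have hprod : D ⊔ D' = R := by
    refine Subgroup.eq_of_le_of_card_ge (sup_le hDR hD'R) ?_
    have := Cfsg.Lib.Coprime.card_sup_mul_card_inf hD'n
    rw [hZc, hc64, hD'c] at this
    rw [hRc]; omega
  have hmem : ∀ a ∈ R, ∃ b ∈ D', ∃ c ∈ D, b * c = a := fun a ha => by
    have ha' : a ∈ ((D' ⊔ D : Subgroup G) : Set G) := by rw [sup_comm, hprod]; exact ha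
    rwa [Subgroup.coe_mul_of_left_le_normalizer_right _ _ hD'n] at ha'
  have hRsq : ∀ a ∈ R, a * a ∈ D := fun a ha => by
    obtain ⟨b, hb, c, hc, rfl⟩ := hmem a ha
    have hcb : b * c * b⁻¹ ∈ D := ((mem_set_normalizer_iff.1 (hD'n hb)) c).1 hc
    rw [show b * c * (b * c) = (b * c * b⁻¹) * (b * b) * c by group, hD'sq b hb, mul_one]
    exact D.mul_mem hcb hc
  -- the fixed points of `R`
  set Z := D ⊓ centralizer (R : Set G) with hZ
  have hZge : D ⊓ D' ≤ Z := fun a ha => ⟨ha.1, mem_centralizer_iff.2 fun b hb => by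
    obtain ⟨p, hp, c, hc, rfl⟩ := hmem b hb
    have h1 := inv_eq_of_mul_eq_one_right (hD'sq _ (D'.mul_mem hp ha.2))
    rw [mul_inv_rev, inv_eq_of_mul_eq_one_right (hD'sq p hp), inv_eq_of_mul_eq_one_right (hD'sq a ha.2)] at h1
    calc p * c * a = p * (c * a) := mul_assoc _ _ _
      _ = p * (a * c) := by rw [(hDab c hc a ha.1).eq]
      _ = (p * a) * c := (mul_assoc _ _ _).symm
      _ = a * (p * c) := by rw [← h1, mul_assoc]⟩
  have hZc' : 16 ≤ Nat.card Z := hZc ▸ Nat.le_of_dvd Nat.card_pos (card_dvd_of_le hZge)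
  set Z' := conjMap h Z with hZ'
  set R' := conjMap h R with hR'
  have hR'g : g ∈ R' := by
    have h1 : h * r * h⁻¹ ∈ R' := mem_conjMap.2 (by rw [show h⁻¹ * (h * r * h⁻¹) * h = r by group]; exact hD'R hr)
    have h2 : d ∈ R' := mem_conjMap.2 (hDR (by
      have := ((mem_set_normalizer_iff.1 (X.inv_mem hhX)) d).1 hd
      rwa [inv_inv] at this))
    rw [show g = d⁻¹ * (d * g) by group, ← hhd]
    exact mul_mem (inv_mem h2) h1
  have hZ'le : ∀ e ∈ R', Z' ≤ D ⊓ centralizer ({e} : Set G) := fun e he a ha => by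
    have ha' := mem_conjMap.1 ha
    refine ⟨?_, mem_centralizer_singleton_iff.2 ?_⟩
    · have := ((mem_set_normalizer_iff.1 hhX) _).1 ha'.1
      rwa [show h * (h⁻¹ * a * h) * h⁻¹ = a by group] at this
    · have h1 := mem_cent_conj (h := h) ((mem_centralizer_iff.1 ha'.2) _ (mem_conjMap.1 he)).symm
      rwa [show h * (h⁻¹ * a * h) * h⁻¹ = a by group, show h * (h⁻¹ * e * h) * h⁻¹ = e by group] at h1
  have hZ'c : Nat.card Z' = Nat.card Z := Cfsg.Lib.Coprime.card_conjMap _ _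
  have hZ'g : Z' = D ⊓ centralizer ({g} : Set G) :=
    Subgroup.eq_of_le_of_card_ge (hZ'le g hR'g) (by omega)
  have hR'u : R' ≤ X ⊓ centralizer ({u} : Set G) := fun e he => by
    refine mem_inf.2 ⟨?_, mem_centralizer_singleton_iff.2 ?_⟩
    · have := mul_mem (mul_mem hhX (mem_conjMap.1 he).2) (inv_mem hhX)
      rwa [show h * (h⁻¹ * e * h) * h⁻¹ = e by group] at this
    · have huZ : u ∈ Z' := by
        rw [hZ'g]
        exact ⟨huD, mem_centralizer_singleton_iff.2 (hσ.fix u C.mem).eq.symm⟩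
      exact (mem_centralizer_singleton_iff.1 (hZ'le e he huZ).2).symm
  -- `R` and `R'` meet outside `D`
  have hRn : X ⊓ centralizer ({u} : Set G) ≤ normalizer (R : Set G) := fun a ha => mem_set_normalizer_iff.2 fun b => by
    rw [SetLike.mem_coe, SetLike.mem_coe, mem_inf, mem_inf]
    exact and_congr ((mem_set_normalizer_iff.1 (C.norm ha.2)) b)
      ⟨fun hb => X.mul_mem (X.mul_mem ha.1 hb) (X.inv_mem ha.1), fun hb => by
        have := X.mul_mem (X.mul_mem (X.inv_mem ha.1) hb) ha.1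
        rwa [show a⁻¹ * (a * b * a⁻¹) * a = b by group] at this⟩
  have hR'c : Nat.card R' = 256 := (Cfsg.Lib.Coprime.card_conjMap _ _).trans hRc
  obtain ⟨e, he, heD⟩ := SetLike.not_le_iff_exists.1 fun hle' : R ⊓ R' ≤ D => by
    have h1 := Cfsg.Lib.Coprime.card_sup_mul_card_inf (N := R) (H := R') (hR'u.trans hRn)
    have h2 : Nat.card (R ⊔ R' : Subgroup G) ∣ 1536 := by
      have h3 := card_dvd_of_le (sup_le (le_inf inf_le_right (inf_le_left.trans C.sub)) hR'u :
        R ⊔ R' ≤ X ⊓ centralizer ({u} : Set G))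
      rwa [hMc, hRc] at h3
    have h4 := Nat.le_of_dvd Nat.card_pos (card_dvd_of_le hle')
    have h5 := Nat.le_of_dvd (by norm_num) h2
    rw [hRc, hR'c] at h1
    rw [hc64] at h4
    have h6 : Nat.card (R ⊔ R' : Subgroup G) * Nat.card (R ⊓ R' : Subgroup G) ≤
        Nat.card (R ⊔ R' : Subgroup G) * 64 := Nat.mul_le_mul_left _ h4
    rw [h1] at h6
    obtain ⟨q, hq⟩ := h2
    have h7 : Nat.card (R ⊔ R' : Subgroup G) = 1536 := by
      have : 1024 ≤ Nat.card (R ⊔ R' : Subgroup G) := by omega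
      rcases q with _ | _ | q
      · omega
      · omega
      · have : Nat.card (R ⊔ R' : Subgroup G) * 2 ≤ 1536 := by
          rw [hq]; exact Nat.mul_le_mul_left _ (by omega)
        omega
    rw [h7] at h1
    omega
  obtain ⟨he16, -⟩ := hsmall e he.1 heD (hRsq e he.1)
  have e1 : Z = D ⊓ centralizer ({e} : Set G) := Subgroup.eq_of_le_of_card_ge (fun a ha => ⟨ha.1,
    mem_centralizer_singleton_iff.2 ((mem_centralizer_iff.1 ha.2) e he.1).symm⟩) (by omega)
  have e2 : Z' = Z := Subgroup.eq_of_le_of_card_ge (e1 ▸ hZ'le e he.2) (by omega)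
  -- the centraliser of `g` would be invariant
  have hfix : D ⊓ centralizer ({g} : Set G) ≤ V := by
    intro a ha
    have ha1 : a * g = g * a := mem_centralizer_singleton_iff.1 ha.2
    have haZ : a ∈ Z := by rw [← e2, hZ'g]; exact ha
    have hb : x⁻¹ * a * x ∈ D ⊓ centralizer ({g} : Set G) := by
      rw [← hZ'g, e2]
      refine mem_inf.2 ⟨inv_back H (SelfCentThree.inv_of_mem_normalizer hxX) haZ.1, mem_centralizer_iff.2 fun b hb => ?_⟩
      have h1 := (mem_centralizer_iff.1 haZ.2) _ (hRI b hb)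
      calc b * (x⁻¹ * a * x) = x⁻¹ * ((x * b * x⁻¹) * a) * x := by group
        _ = x⁻¹ * a * x * b := by rw [h1]; group
    have h2 : x⁻¹ * a * x * g = g * (x⁻¹ * a * x) := mem_centralizer_singleton_iff.1 hb.2
    have h3 : Commute a (x * g * x⁻¹) := by
      show a * (x * g * x⁻¹) = x * g * x⁻¹ * a
      calc a * (x * g * x⁻¹) = x * (x⁻¹ * a * x * g) * x⁻¹ := by group
        _ = x * g * x⁻¹ * a := by rw [h2]; group
    have e3 : x * g * x⁻¹ * g = x⁻¹ := by
      calc x * g * x⁻¹ * g = x * (g * x⁻¹ * g⁻¹) * (g * g) := by group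
        _ = x⁻¹ := by rw [hσ.conj_inv_x, hσ.sq, mul_one, H.mul_self]
    have h4 := h3.mul_right (show Commute a g from ha1)
    rw [e3] at h4
    exact mem_V_of_fixed H (P3.of_two S.two) ha.1 (inv_inv x ▸ h4.inv_right)
  have := Nat.le_of_dvd Nat.card_pos (card_dvd_of_le hfix)
  rw [← hZ'g, h4] at this
  omega

variable {F s k : ℕ} {h : G → ℤ}

/-- The core of the centraliser is `D` or is described by an elementary abelian group of order 64. -/
theorem Full.wide_false (f : Full x V τ F h s k) (hct : Cfsg.IsCharacteristicTwoType G) (S : SevenLocal x V D L)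
    (hVD : V ≤ D) (h4 : Nat.card V = 4) (hXL : normalizer (D : Set G) = L) (hu : u ∈ V) (hu1 : u ≠ 1)
    (hDu : ∀ d ∈ D, Commute d u) (hD : Nat.card D = 64 ∨ Nat.card D = 256 ∨ Nat.card D = 1024)
    (hsmall : {k | ∃ g ∈ normalizer (D : Set G), g * u * g⁻¹ = k}.ncard = 7 →
      Nat.card D = 64 ∧ ∀ d ∈ D, d * d = 1) : False := by
  classical
  haveI : Fact (Nat.Prime 2) := ⟨Nat.prime_two⟩
  have H := f.setting.hyp
  have ht := f.toCtx.tau
  obtain ⟨Q, C, hQ2⟩ := f.exists_core_two hct hu hu1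
  obtain ⟨hDR, hMc⟩ := S.cent H ht C hQ2 (hVD hu) hDu
  obtain ⟨-, hXc⟩ := S.orbit H ht C hQ2 (hVD hu) hDu
  set X := normalizer (D : Set G) with hX
  set R := Q ⊓ X with hR
  have hxX : x ∈ X := S.top.leL S.top.mem
  have hRI : Inv x R := fun r hr => mem_inf.2 ⟨C.inv r hr.1, mul_mem (mul_mem hxX hr.2) (inv_mem hxX)⟩
  obtain ⟨j, hj⟩ := card_two_pow_four H (hQ2.to_le (inf_le_left : R ≤ Q)) hRI
  rw [inf_eq_right.2 (hVD.trans hDR), h4] at hj
  obtain ⟨i, hi⟩ := card_two_pow_four H S.two (SelfCentThree.inv_of_mem_normalizer hxX)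
  rw [inf_eq_right.2 hVD, h4] at hi
  have hMle : 6 * Nat.card R ≤ 24 * Nat.card D := by
    rw [← hMc]
    refine S.card_le H (le_inf le_normalizer fun d hd => mem_centralizer_singleton_iff.2 (hDu d hd).eq)
      (inf_le_left.trans hXL.le) fun e => ?_
    exact f.false_of_fixed (S.ns H) hu hu1 (hXL.le.trans (e.symm.le.trans inf_le_right))
  have hcases : Nat.card R = Nat.card D ∨ Nat.card R = 4 * Nat.card D := by
    have hd := card_dvd_of_le hDR
    have hij : i ≤ j := (Nat.pow_le_pow_iff_right (by norm_num : 1 < 4)).1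
      (Nat.le_of_mul_le_mul_left (hi ▸ hj ▸ Nat.le_of_dvd Nat.card_pos hd) (by norm_num : 0 < 4))
    rcases Nat.lt_or_ge j (i + 2) with hlt | hge
    · rcases (by omega : j = i ∨ j = i + 1) with rfl | rfl
      · exact Or.inl (hj.trans hi.symm)
      · right; rw [hj, hi, pow_succ]; ring
    · exfalso
      have h16 : 4 ^ (i + 2) ≤ 4 ^ j := Nat.pow_le_pow_right (by norm_num) hge
      rw [pow_add] at h16
      norm_num at h16
      have : 0 < 4 ^ i := by positivity
      rw [hj, hi] at hMle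
      omega
  have h7G : 7 ∣ Nat.card G :=
    (show 7 ∣ Nat.card L by rw [S.i168]; exact Dvd.dvd.mul_right (by norm_num) _).trans (card_subgroup_dvd_card L)
  have hfin : cen u = 384 ∨ cen u = 1536 ∨ cen u = 6144 → False := fun hc => by
    obtain ⟨w, hw, n1, n2, n3, n4, n5, -⟩ := H.exists_others h4 hu hu1
    have hrow := f.row h7G
    rw [h4, f.k_eq_one_of_four h4] at hrow
    have hlists := f.four_lists h4 hu hw (V.mul_mem hu hw) hu1 n1 n3 (Ne.symm n2) (Ne.symm n4) (Ne.symm n5)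
    have := (localFourStmt _ _ _ _ _ _ hrow hlists (Or.inr (Or.inr ⟨hc,
      h4 ▸ f.solvU hct hw n1, h4 ▸ f.solvU hct (V.mul_mem hu hw) n3⟩))).1
    rcases hc with e | e | e <;> omega
  rcases hcases with e | e
  · have hRD : R = D := (Subgroup.eq_of_le_of_card_ge hDR e.le).symm
    have hQD : D = Q := by
      by_contra hne
      obtain ⟨n, hnQ, hnD, hnn⟩ := exists_normalizing hQ2 (hRD ▸ inf_le_left) hne
      exact hnD (hRD ▸ mem_inf.2 ⟨hnQ, hnn⟩)
    apply hfin
    rw [cen, C.card, ← hQD]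
    rcases hD with e' | e' | e' <;> rw [e'] <;> norm_num
  · have hO : {k | ∃ g ∈ X, g * u * g⁻¹ = k}.ncard = 7 := by
      rw [e, hXL, S.i168] at hXc
      rw [hXL]
      have := Nat.card_pos (α := D)
      refine Nat.eq_of_mul_eq_mul_right (show 0 < 24 * Nat.card D by omega) ?_
      rw [show 6 * (4 * Nat.card D) = 24 * Nat.card D by ring] at hXc
      rw [← hXc]; ring
    obtain ⟨h64, hsq⟩ := hsmall hO
    have hQR := S.core_eq H ht hVD h4 hXL C hQ2 h64 hsq (by rw [← hX, ← hR, e, h64])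
    apply hfin
    rw [cen, C.card, ← hQR, ← hX, ← hR, e, h64]
    norm_num

end Cfsg.Lib.ThreeFour
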