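import Cfsg.Agent.ThreeFour.Local.SevenNatural
import Cfsg.Agent.ThreeFour.Local.SevenWide

/-!
In characteristic two type the normalisers of invariant two-groups are solvable.
-/

set_option autoImplicit false
set_option linter.unusedSectionVars false
set_option linter.style.haveILetI false

namespace Cfsg.Lib.ThreeFour

open Subgroup
open Cfsg.Lib.SelfCentThree (Inv P3)
open scoped IsMulCommutative

universe u

variable {G : Type u} [Group G] [Finite G] {x τ : G} {V D D₁ L : Subgroup G} {u : G} {F s k : ℕ} {h : G → ℤ}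

/-- Few commuting involutions generate a small group. -/
theorem card_closure_le_two_pow (hsq : ∀ d ∈ D, d * d = 1) (S : Finset G) (hS : ∀ a ∈ S, a ∈ D) :
    closure (S : Set G) ≤ D ∧ Nat.card (closure (S : Set G)) ≤ 2 ^ S.card := by
  classical
  induction S using Finset.induction_on with
  | empty => rw [Finset.coe_empty, Subgroup.closure_empty]; exact ⟨bot_le, by rw [card_bot, Finset.card_empty, pow_zero]⟩
  | @insert a S ha ih =>
    obtain ⟨hle, hc⟩ := ih fun b hb => hS b (Finset.mem_insert_of_mem hb)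
    have haD : a ∈ D := hS a (Finset.mem_insert_self a S)
    rw [Finset.coe_insert, Set.insert_eq, Subgroup.closure_union, ← Subgroup.zpowers_eq_closure]
    refine ⟨sup_le (zpowers_le.2 haD) hle, ?_⟩
    have hn : closure (S : Set G) ≤ normalizer (zpowers a : Set G) := fun b hb =>
      Cfsg.Lib.Coprime.mem_normalizer_of_conj_mem
        (fun c hc' => by rwa [(comm_of_sq hsq (hle hb) (zpowers_le.2 haD hc')).eq, mul_inv_cancel_right])
        (fun c hc' => by rwa [mul_assoc, (comm_of_sq hsq (zpowers_le.2 haD hc') (hle hb)).eq, inv_mul_cancel_left])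
    have h1 := Cfsg.Lib.Coprime.card_sup_mul_card_inf (N := zpowers a) (H := closure (S : Set G)) hn
    have h2 : Nat.card (zpowers a) ≤ 2 := by
      rw [Nat.card_zpowers]
      exact Nat.le_of_dvd (by norm_num) (orderOf_dvd_of_pow_eq_one (by rw [pow_two, hsq a haD]))
    refine (Nat.le_of_dvd (Nat.mul_pos Nat.card_pos Nat.card_pos) (h1 ▸ dvd_mul_right _ _)).trans ?_
    rw [Finset.card_insert_of_notMem ha, pow_succ']
    exact Nat.mul_le_mul h2 hc

/-- An element outside `D` with seventh power in `D` has order divisible by seven. -/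
theorem seven_dvd_orderOf (_hD : IsPGroup 2 D) {a : G} (ha : a ∉ D) (ha7 : a ^ 7 ∈ D) : 7 ∣ orderOf a := by
  by_contra hno
  obtain ⟨m, hm⟩ := exists_pow_eq_self_of_coprime
    ((show Nat.Prime 7 by norm_num).coprime_iff_not_dvd.2 hno)
  exact ha (hm ▸ pow_mem ha7 m)

theorem Full.cent_not_seven (f : Full x V τ F h s k) (hct : Cfsg.IsCharacteristicTwoType G) (hu : u ∈ V)
    (hu1 : u ≠ 1) {a : G} (hc : a * u = u * a) : ¬ 7 ∣ orderOf a := fun e => by
  obtain ⟨Q, C, hQ2⟩ := f.exists_core_two hct hu hu1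
  exact C.not_seven hQ2 (e.trans (Subgroup.orderOf_dvd_natCard _ (mem_centralizer_singleton_iff.2 hc)))

/-- A step from the trivial group with four fixed points. -/
theorem Full.seven_one (f : Full x V τ F h s k) (hct : Cfsg.IsCharacteristicTwoType G) (S : SevenLocal x V D L)
    (h4 : Nat.card V = 4) (hVD : V ≤ D) (hXL : normalizer (D : Set G) = L)
    (hs : Step (normalizer (D : Set G)) ⊥ D) : False := by
  classical
  have H := f.setting.hyp
  have hsq : ∀ d ∈ D, d * d = 1 := fun d hd => mem_bot.1 (hs.sq_mem hd)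
  have hbot : Nat.card ((⊥ : Subgroup G) ⊓ V : Subgroup G) = 1 := by rw [bot_inf_eq, card_bot]
  obtain ⟨N, hN, hNc⟩ := hs.four H S.top S.i168 (by rw [hbot, inf_eq_right.2 hVD, h4])
    (fun k hk d hd => by rw [(comm_of_sq hsq hk hd).eq]; simp)
    (fun a _ haD ha7 v hv hav => by
      by_contra hv1
      rw [mem_bot] at hav hv1
      exact f.cent_not_seven hct hv.2 hv1 (mul_inv_eq_iff_eq_mul.1 (mul_inv_eq_one.1 hav))
        (seven_dvd_orderOf S.two haD ha7))
  rw [card_bot, mul_one] at hN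
  obtain ⟨u, hu, hu1⟩ := H.exists_ne_one
  refine f.wide_false hct S hVD h4 hXL hu hu1 (fun d hd => comm_of_sq hsq hd (hVD hu)) (hN ▸ hNc) fun h7 => ⟨?_, hsq⟩
  set X := normalizer (D : Set G) with hX
  set O := {k | ∃ g ∈ X, g * u * g⁻¹ = k} with hO
  have hOD : ∀ a ∈ O, a ∈ D := by
    rintro a ⟨g, hg, rfl⟩
    exact ((mem_set_normalizer_iff.1 hg) u).1 (hVD hu)
  have hOf : O.Finite := Set.toFinite _
  obtain ⟨hle, hc⟩ := card_closure_le_two_pow hsq hOf.toFinset fun a ha => hOD a (hOf.mem_toFinset.1 ha)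
  rw [hOf.coe_toFinset] at hle hc
  have hcard : hOf.toFinset.card = 7 := by rw [← Set.ncard_eq_toFinset_card O hOf, h7]
  rw [hcard] at hc
  have hn : X ≤ normalizer (closure O : Set G) := fun g hg => by
    have key : ∀ b ∈ X, ∀ a ∈ closure O, b * a * b⁻¹ ∈ closure O := fun b hb a ha => by
      induction ha using closure_induction with
      | mem a ha =>
        obtain ⟨c, hc', rfl⟩ := ha
        exact subset_closure ⟨b * c, mul_mem hb hc', by group⟩
      | one => simp
      | mul p q _ _ hp hq => rw [show b * (p * q) * b⁻¹ = b * p * b⁻¹ * (b * q * b⁻¹) by group]; exact mul_mem hp hq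
      | inv p _ hp => rw [← conj_inv]; exact inv_mem hp
    exact Cfsg.Lib.Coprime.mem_normalizer_of_conj_mem (key g hg) fun a ha => by
      simpa using key g⁻¹ (inv_mem hg) a ha
  rcases hs.minimal (closure O) bot_le hle hn with e | e
  · have hum : u ∈ closure O := subset_closure ⟨1, X.one_mem, by group⟩
    rw [e, mem_bot] at hum
    exact absurd hum hu1
  · rw [e] at hc
    rcases hNc with e' | e' | e' <;> rw [e'] at hN <;> omega

/-- Two natural steps. -/
theorem Full.seven_two (f : Full x V τ F h s k) (hct : Cfsg.IsCharacteristicTwoType G) (S : SevenLocal x V D L)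
    (h4 : Nat.card V = 4) (hVD : V ≤ D) (hXL : normalizer (D : Set G) = L)
    (hs₁ : Step (normalizer (D : Set G)) ⊥ D₁) (hs₂ : Step (normalizer (D : Set G)) D₁ D)
    (h8 : Nat.card D₁ = 8) (hn1 : Nat.card (D₁ ⊓ V : Subgroup G) = 2)
    (hcomm : ∀ k ∈ D, ∀ d ∈ D₁, k * d * k⁻¹ * d⁻¹ ∈ (⊥ : Subgroup G))
    (hlast : Nat.card D = 16 ∨ Nat.card D = 64 ∧ ∀ k ∈ D, ∀ d ∈ D, k * d * k⁻¹ * d⁻¹ ∈ D₁) : False := by
  classical
  have H := f.setting.hyp
  set X := normalizer (D : Set G) with hX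
  have hxX : x ∈ X := S.top.leL S.top.mem
  obtain ⟨u, hu, hu1⟩ := SetLike.not_le_iff_exists.1 fun hle : D₁ ⊓ V ≤ ⊥ => by
    rw [le_bot_iff.1 hle, card_bot] at hn1; omega
  rw [mem_bot] at hu1
  obtain ⟨w, hw, hwD₁⟩ := SetLike.not_le_iff_exists.1 fun hle : V ≤ D₁ => by
    rw [inf_eq_right.2 hle, h4] at hn1; omega
  have hwD : w ∈ D := hVD hw
  have hw1 : w ≠ 1 := fun e => hwD₁ (e ▸ D₁.one_mem)
  rcases hlast with h16 | ⟨h64, hK⟩
  · set O := {k | ∃ g ∈ X, g * w * g⁻¹ = k} with hO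
    have hOsub : O ⊆ (D : Set G) \ D₁ := by
      rintro _ ⟨g, hg, rfl⟩
      refine ⟨((mem_set_normalizer_iff.1 hg) w).1 hwD, fun hm => hwD₁ ?_⟩
      exact ((mem_set_normalizer_iff.1 (hs₂.norm₀ hg)) w).2 hm
    have hdiff : ((D : Set G) \ D₁).ncard = 8 := by
      rw [Set.ncard_sdiff (SetLike.coe_subset_coe.2 hs₂.le) (Set.toFinite _), ← Nat.card_coe_set_eq,
        ← Nat.card_coe_set_eq]
      show Nat.card D - Nat.card D₁ = 8
      rw [h16, h8]
    have hO8 := Set.ncard_le_ncard hOsub (Set.toFinite _)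
    rw [hdiff] at hO8
    have h7 : 7 ∣ O.ncard := by
      have h1 := ncard_conjOrb X w
      obtain ⟨Q, C, hQ2⟩ := f.exists_core_two hct hw hw1
      have h7 : 7 ∣ Nat.card X :=
        (show 7 ∣ Nat.card L by rw [S.i168]; exact Dvd.dvd.mul_right (by norm_num) _).trans (card_dvd_of_le S.top.leL)
      rw [← h1] at h7
      exact ((show Nat.Prime 7 by norm_num).dvd_mul.1 h7).resolve_right fun e =>
        C.not_seven hQ2 (e.trans (card_dvd_of_le inf_le_right))
    have hOpos : 0 < O.ncard := (Set.ncard_pos (Set.toFinite _)).2 ⟨w, 1, X.one_mem, by group⟩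
    have hO7 : O.ncard = 7 := by
      obtain ⟨m, hm⟩ := h7
      omega
    obtain ⟨z, hzeq⟩ := Set.ncard_eq_one.1 (show (((D : Set G) \ D₁) \ O).ncard = 1 by
      rw [Set.ncard_sdiff hOsub (Set.toFinite _), hdiff, hO7])
    have hz : z ∈ ((D : Set G) \ D₁) \ O := by rw [hzeq]; exact Set.mem_singleton z
    have hfix : ∀ g ∈ X, g * z * g⁻¹ = z := fun g hg => by
      have hm : g * z * g⁻¹ ∈ ((D : Set G) \ D₁) \ O := by
        refine ⟨⟨((mem_set_normalizer_iff.1 hg) z).1 hz.1.1, fun hm => hz.1.2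
          (((mem_set_normalizer_iff.1 (hs₂.norm₀ hg)) z).2 hm)⟩, ?_⟩
        rintro ⟨b, hb, e⟩
        exact hz.2 ⟨g⁻¹ * b, X.mul_mem (X.inv_mem hg) hb, by
          calc g⁻¹ * b * w * (g⁻¹ * b)⁻¹ = g⁻¹ * (b * w * b⁻¹) * g := by group
            _ = z := by rw [e]; group⟩
      rwa [hzeq, Set.mem_singleton_iff] at hm
    have hzV : z ∈ V := mem_V_of_fixed H (P3.of_two S.two) hz.1.1 (mul_inv_eq_iff_eq_mul.1 (hfix x hxX)).symm
    exact f.false_of_fixed (S.ns H) hzV (fun e => hz.1.2 (e ▸ D₁.one_mem))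
      fun g hg => mem_centralizer_singleton_iff.2 (mul_inv_eq_iff_eq_mul.1 (hfix g hg))
  -- every coset of `D₁` contains a conjugate of `w`
  haveI := hs₂.normal
  haveI := hs₂.comm
  set W := Additive (Factor D₁ D)
  have hW8 : Nat.card W = 8 := by
    have h1 := hs₂.card_factor
    rw [h8, h64] at h1
    show Nat.card (Factor D₁ D) = 8
    omega
  letI : MulAction X W := MulAction.compHom W hs₂.act
  have hsmul : ∀ (g : X) (v : W), g • v = hs₂.act g v := fun _ _ => rfl
  set w₀ : W := Additive.ofMul (QuotientGroup.mk ⟨w, hwD⟩)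
  have hw0 : w₀ ≠ 0 := fun e => hwD₁ (mem_subgroupOf.1 ((QuotientGroup.eq_one_iff (⟨w, hwD⟩ : D)).1 e))
  set A := (MulAction.stabilizer X w₀).map X.subtype with hA
  have hDA : D ≤ A := fun d hd => ⟨⟨d, le_normalizer hd⟩, by
    show hs₂.act ⟨d, le_normalizer hd⟩ w₀ = w₀
    exact (hs₂.act_fix _ _).2 (hK d hd w hwD), rfl⟩
  have hAL : A ≤ L := (map_subtype_le _).trans hXL.le
  have hAne : A ≠ L := fun e => by
    have hall : ∀ g : X, hs₂.act g w₀ = w₀ := fun g => by
      obtain ⟨b, hb, hbe⟩ : (g : G) ∈ A := e.symm ▸ hXL ▸ g.2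
      rw [← X.subtype_injective hbe]
      exact hb
    rcases hs₂.irr (AddSubgroup.zmultiples w₀) (fun g v hv => by
      obtain ⟨n, rfl⟩ := AddSubgroup.mem_zmultiples_iff.1 hv
      rw [map_zsmul, hall g]
      exact ⟨n, rfl⟩) with e' | e'
    · exact hw0 (AddSubgroup.mem_bot.1 (e' ▸ AddSubgroup.mem_zmultiples w₀))
    · have h1 : Nat.card W = addOrderOf w₀ := by rw [← Nat.card_zmultiples, e', AddSubgroup.card_top]
      have h2 : addOrderOf w₀ ∣ 2 := addOrderOf_dvd_of_nsmul_eq_zero (by rw [two_nsmul]; exact hs₂.sq w₀.toMul)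
      rw [← h1, hW8] at h2
      norm_num at h2
  have hcle := S.card_le H hDA hAL hAne
  rw [hA, card_map_of_injective X.subtype_injective] at hcle
  have horb : MulAction.orbit X w₀ = ({0} : Set W)ᶜ := by
    have hcpl : ({0} : Set W)ᶜ.ncard = 7 := by rw [Set.ncard_compl, Set.ncard_singleton, hW8]
    refine Set.eq_of_subset_of_ncard_le ?_ ?_ (Set.toFinite _)
    · rintro _ ⟨g, rfl⟩ e
      apply hw0
      rw [← inv_smul_smul g w₀, show g • w₀ = 0 from e, hsmul, map_zero]
    · rw [hcpl, ← MulAction.index_stabilizer]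
      have h1 := (MulAction.stabilizer X w₀).card_mul_index
      have hXc : Nat.card X = 168 * 64 := by rw [hXL, S.i168, h64]
      rw [hXc] at h1
      rw [h64] at hcle
      by_contra hlt
      have : Nat.card (MulAction.stabilizer X w₀) * (MulAction.stabilizer X w₀).index ≤ (24 * 64) * 6 :=
        Nat.mul_le_mul hcle (by omega)
      omega
  have hsq₁ : ∀ d ∈ D₁, d * d = 1 := fun d hd => mem_bot.1 (hs₁.sq_mem hd)
  have hsq : ∀ d ∈ D, d * d = 1 := fun d hd => by
    by_cases hd1 : d ∈ D₁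
    · exact hsq₁ d hd1
    have hne : (Additive.ofMul (QuotientGroup.mk ⟨d, hd⟩) : W) ∈ ({0} : Set W)ᶜ := fun e =>
      hd1 (mem_subgroupOf.1 ((QuotientGroup.eq_one_iff (⟨d, hd⟩ : D)).1 e))
    rw [← horb] at hne
    obtain ⟨g, hg⟩ := hne
    have hg' : hs₂.act g w₀ = Additive.ofMul (QuotientGroup.mk ⟨d, hd⟩) := hg
    rw [hs₂.act_mk, Equiv.apply_eq_iff_eq, QuotientGroup.eq, mem_subgroupOf] at hg'
    set c : G := (g : G) * w * (g : G)⁻¹ with hc
    have hcd : c⁻¹ * d ∈ D₁ := hg'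
    have hcD : c ∈ D := ((mem_set_normalizer_iff.1 g.2) w).1 hwD
    have hcc : c * c = 1 := by
      calc c * c = (g : G) * (w * w) * (g : G)⁻¹ := by rw [hc]; group
        _ = 1 := by rw [H.sq w hw]; simp
    have hcz : c * (c⁻¹ * d) = c⁻¹ * d * c :=
      mul_inv_eq_iff_eq_mul.1 (mul_inv_eq_one.1 (mem_bot.1 (hcomm c hcD _ hcd)))
    calc d * d = c * (c⁻¹ * d) * c * (c⁻¹ * d) := by group
      _ = c * c * ((c⁻¹ * d) * (c⁻¹ * d)) := by rw [mul_assoc c (c⁻¹ * d) c, ← hcz]; group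
      _ = 1 := by rw [hcc, hsq₁ _ hcd, mul_one]
  exact f.wide_false hct S hVD h4 hXL hu.2 hu1 (fun d hd => comm_of_sq hsq hd (hVD hu.2)) (Or.inl h64)
    fun _ => ⟨h64, hsq⟩

/-- The normalisers of nontrivial invariant two-groups are solvable. -/
theorem Full.local_solvable (f : Full x V τ F h s k) (hct : Cfsg.IsCharacteristicTwoType G) {D₀ : Subgroup G}
    (h2 : IsPGroup 2 D₀) (hne : D₀ ≠ ⊥) (hI : Inv x D₀) : Group.IsSolvable (normalizer (D₀ : Set G)) := by
  classical
  by_contra hns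
  obtain ⟨D, L, S⟩ := f.exists_sevenLocal hct h2 hne hI hns
  have H := f.setting.hyp
  set X := normalizer (D : Set G) with hX
  have hbot : Nat.card ((⊥ : Subgroup G) ⊓ V : Subgroup G) = 1 := by rw [bot_inf_eq, card_bot]
  obtain ⟨D₁, hD₁, hs⟩ := exists_step (le_normalizer_bot_subgroup X) S.top.normK (bot_le : ⊥ ≤ D) S.ne.symm
    S.top.leH S.two
  have hmono : ∀ E : Subgroup G, Nat.card (E ⊓ V : Subgroup G) ∣ Nat.card V := fun E => card_dvd_of_le inf_le_right
  have hle : ∀ E ≤ D, Nat.card (E ⊓ V : Subgroup G) ≤ Nat.card (D ⊓ V : Subgroup G) := fun E hE =>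
    Nat.le_of_dvd Nat.card_pos (card_dvd_of_le (inf_le_inf_right V hE))
  have hV4 : Nat.card V ≤ 4 := by rcases H.card with e | e <;> omega
  have hn1 : Nat.card (D₁ ⊓ V : Subgroup G) = 4 ∨ Nat.card (D₁ ⊓ V : Subgroup G) ≤ 2 := by
    have h1 := hmono D₁
    have h3 := Nat.le_of_dvd Nat.card_pos h1
    rcases H.card with e | e <;> rw [e] at h1 h3
    · exact Or.inr h3
    · generalize Nat.card (D₁ ⊓ V : Subgroup G) = c at *
      interval_cases c <;> omega
  -- the top step fills everything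
  have htop : ∀ {E : Subgroup G}, X ≤ normalizer (E : Set G) → E ≤ D →
      Nat.card V ≤ Nat.card (E ⊓ V : Subgroup G) → E = D := fun {E} hEn hE hc => by
    by_contra hne'
    obtain ⟨D₂, hD₂, hs₂⟩ := exists_step hEn S.top.normK hE hne' S.top.leH S.two
    have h1 := Nat.le_of_dvd Nat.card_pos (hmono D₂)
    have h0 := Nat.card_pos (α := (E ⊓ V : Subgroup G))
    have := (hs₂.cases H f.setting.five S.top (by omega)).1
    omega
  rcases hn1 with hn4 | hn2
  · have h4 : Nat.card V = 4 := by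
      have := Nat.le_of_dvd Nat.card_pos (hmono D₁)
      omega
    have hVD₁ : V ≤ D₁ := (Subgroup.eq_of_le_of_card_ge inf_le_right (by rw [h4, hn4])).symm.le.trans inf_le_left
    obtain rfl := htop hs.norm₁ hD₁ (by omega)
    exact f.seven_one hct S h4 hVD₁ (S.normalizer_eq (inf_le_left.trans hVD₁)) hs
  obtain ⟨hdbl, hcase⟩ := hs.cases H f.setting.five S.top (by omega)
  rw [hbot, mul_one] at hdbl
  rw [card_bot, mul_one, mul_one] at hcase
  by_cases hD : D₁ = D
  · subst hD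
    rcases hcase with e | ⟨e, -, eHL, -⟩
    · exact f.false_of_two (S.ns H) e (fun e' => by rw [e', card_bot] at hdbl; omega) le_rfl
    · exact f.natural_false hct S e (fun d hd => mem_bot.1 (hs.sq_mem hd)) hdbl eHL
  obtain ⟨D₂, hD₂, hs₂⟩ := exists_step hs.norm₁ S.top.normK hD₁ hD S.top.leH S.two
  have h2le : Nat.card (D₂ ⊓ V : Subgroup G) ≤ 4 := (Nat.le_of_dvd Nat.card_pos (hmono D₂)).trans hV4
  obtain ⟨hdbl₂, hcase₂⟩ := hs₂.cases H f.setting.five S.top (by omega)
  have h4 : Nat.card V = 4 := by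
    have := Nat.le_of_dvd Nat.card_pos (hmono D₂)
    omega
  obtain rfl := htop hs₂.norm₁ hD₂ (by omega)
  have hVD : V ≤ D₂ := (Subgroup.eq_of_le_of_card_ge inf_le_right (by omega)).symm.le.trans inf_le_left
  have hXL := S.normalizer_eq (inf_le_left.trans hVD)
  rcases hcase with e | ⟨e, -, -, hcomm⟩
  · exact f.false_of_two (S.ns H) e (fun e' => by rw [e', card_bot] at hdbl; omega) hs.norm₁
  refine f.seven_two hct S h4 hVD hXL hs hs₂ e hdbl hcomm ?_
  rcases hcase₂ with e' | ⟨e', -, -, hK⟩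
  · exact Or.inl (by omega)
  · exact Or.inr ⟨by omega, hK⟩

end Cfsg.Lib.ThreeFour
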