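import Cfsg.Agent.ThreeFour.Local.SevenFrame

/-!
The local subgroup `2³·L₃(2)` does not occur.
-/

set_option autoImplicit false
set_option linter.unusedSectionVars false
set_option linter.style.haveILetI false

namespace Cfsg.Lib.ThreeFour

open Subgroup
open Cfsg.Lib.SelfCentThree (Inv P3)
open Cfsg.Lib.Coprime (conjMap mem_conjMap)

universe u

variable {G : Type u} [Group G] [Finite G] {x τ : G} {V D L R N Q R₁ : Subgroup G} {u : G}

theorem conjMap_inf_card (a : G) (A B : Subgroup G) :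
    Nat.card (conjMap a A ⊓ conjMap a B : Subgroup G) = Nat.card (A ⊓ B : Subgroup G) := by
  rw [← Cfsg.Lib.Coprime.conjMap_inf, Cfsg.Lib.Coprime.card_conjMap]

/-- A coset fixed by `x` meets `V`. -/
theorem mem_of_fixed_coset (H : Hyp x V) (hN2 : IsPGroup 2 N) (hRN : R ≤ N) (hNn : N ≤ normalizer (R : Set G))
    (hRI : Inv x R) (hV : N ⊓ V ≤ R) {a : G} (ha : a ∈ N) (hc : x * a * x⁻¹ * a⁻¹ ∈ R) : a ∈ R := by
  have hN3 := P3.of_two hN2
  obtain ⟨n, hn, hcn⟩ := Cfsg.Lib.Coprime.exists_fixed_of_commutator_mem (A := zpowers x) (N := R)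
    (inv_zpowers_le H hRI) (coprime_zpowers H (hN3.anti hRN)) (Or.inl (solvable_zpowers x)) (hNn ha) (fun b hb => by
      rcases H.mem_three hb with rfl | rfl | rfl
      · simp
      · exact hc
      · have h1 := ((mem_set_normalizer_iff.1 (inv_mem (inv_mem_normalizer H hRI))) _).1 (inv_mem hc)
        simpa [mul_assoc] using h1)
  have hm := hV ⟨mul_mem ha (hRN hn), mem_V_of_fixed H hN3 (mul_mem ha (hRN hn)) (mem_centralizer_zpowers_iff.1 hcn)⟩
  have := R.mul_mem hm (R.inv_mem hn)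
  rwa [mul_inv_cancel_right] at this

/-- A four-group of cosets permuted by `x`. -/
theorem exists_free (H : Hyp x V) (hN2 : IsPGroup 2 N) (hRN : R ≤ N) (hne : R ≠ N)
    (hNn : N ≤ normalizer (R : Set G)) (hRI : Inv x R) (hNI : Inv x N) (hV : N ⊓ V ≤ R) :
    ∃ e ∈ N, e ∉ R ∧ e⁻¹ * (x * e * x⁻¹) ∉ R ∧
      (x⁻¹ * e * x)⁻¹ * (e⁻¹ * (x * e * x⁻¹)) ∈ R := by
  haveI : Fact (Nat.Prime 2) := ⟨Nat.prime_two⟩
  haveI : (R.subgroupOf N).Normal := (normal_subgroupOf_iff_le_normalizer hRN).2 hNn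
  set π := QuotientGroup.mk' (R.subgroupOf N) with hπ
  have hone : ∀ a : N, π a = 1 ↔ (a : G) ∈ R := fun a => (QuotientGroup.eq_one_iff a).trans mem_subgroupOf
  haveI : Nontrivial (N ⧸ R.subgroupOf N) := by
    obtain ⟨a, ha, haR⟩ := SetLike.not_le_iff_exists.1 fun hle : N ≤ R => hne (le_antisymm hRN hle)
    exact ⟨π ⟨a, ha⟩, 1, fun e => haR ((hone _).1 e)⟩
  obtain ⟨z₀, -, hzc, hzo⟩ := Cfsg.Lib.PGroups.exists_mem_center_of_normal_ne_bot
    (hN2.to_quotient (R.subgroupOf N)) (N := (⊤ : Subgroup (N ⧸ R.subgroupOf N))) top_ne_bot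
  obtain ⟨z, rfl⟩ := QuotientGroup.mk'_surjective _ z₀
  rw [← hπ] at hzc hzo
  let c : N →* N :=
    { toFun := fun a => ⟨x * a * x⁻¹, hNI a a.2⟩
      map_one' := Subtype.ext (by simp)
      map_mul' := fun a b => Subtype.ext (by simp) }
  let φ : N ⧸ R.subgroupOf N →* N ⧸ R.subgroupOf N := QuotientGroup.map _ _ c fun r hr =>
    mem_subgroupOf.2 (hRI (r : G) (mem_subgroupOf.1 hr))
  have hφ : ∀ a : N, φ (π a) = π (c a) := fun _ => rfl
  have hφ3 : ∀ q, φ (φ (φ q)) = q := fun q => by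
    obtain ⟨a, rfl⟩ := QuotientGroup.mk'_surjective _ q
    refine congrArg π (Subtype.ext ?_)
    show x * (x * (x * (a : G) * x⁻¹) * x⁻¹) * x⁻¹ = a
    rw [H.conj_conj]; group
  have hfix : ∀ a : N, φ (π a) = π a → π a = 1 := fun a ha => by
    have h1 : π (c a * a⁻¹) = 1 := by rw [map_mul, map_inv, ← hφ, ha, mul_inv_cancel]
    exact (hone a).2 (mem_of_fixed_coset H hN2 hRN hNn hRI hV a.2 ((hone _).1 h1))
  set Z := π z with hZdef
  have hZ2 : Z * Z = 1 := by rw [← pow_two, ← hzo, pow_orderOf_eq_one]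
  have hZne : Z ≠ 1 := fun e => by rw [e, orderOf_one] at hzo; omega
  have hcomm : ∀ q, q * Z = Z * q := fun q => mem_center_iff.1 hzc q
  set Z1 := φ Z with hZ1
  set Z2 := φ Z1 with hZ2def
  have hZ12 : Z1 * Z1 = 1 := by rw [hZ1, ← map_mul, hZ2, map_one]
  have h12 : Z1 * Z2 = Z2 * Z1 := by rw [hZ2def, hZ1, ← map_mul, ← map_mul, ← hcomm]
  have hP : Z * Z1 * Z2 = 1 := by
    obtain ⟨p, hp⟩ := QuotientGroup.mk'_surjective (R.subgroupOf N) (Z * Z1 * Z2)
    rw [← hp]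
    refine hfix p ?_
    show φ (QuotientGroup.mk' _ p) = QuotientGroup.mk' _ p
    rw [hp, map_mul, map_mul, ← hZ1, ← hZ2def, hφ3, hcomm]
    exact mul_assoc _ _ _ |>.symm
  have hne1 : Z1 ≠ Z := fun e => hZne (hfix z e)
  obtain ⟨e, he⟩ := QuotientGroup.mk'_surjective (R.subgroupOf N) (Z * Z1)
  have hEne : Z * Z1 ≠ 1 := fun e' => hne1 (mul_left_cancel (e'.trans hZ2.symm))
  have hrel : (Z * Z1)⁻¹ * φ (Z * Z1) = φ (φ (Z * Z1)) := by
    rw [map_mul, map_mul, ← hZ1, ← hZ2def, hφ3, mul_inv_rev, inv_eq_of_mul_eq_one_right hZ2,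
      inv_eq_of_mul_eq_one_right hZ12, hcomm Z1, mul_assoc, ← mul_assoc Z1, hZ12, one_mul, hcomm]
  refine ⟨e, e.2, fun hm => hEne (he.symm.trans ((hone e).2 hm)), fun hm => ?_, ?_⟩
  · have h1 : π (e⁻¹ * c e) = 1 := (hone _).2 hm
    rw [map_mul, map_inv, ← hφ, show π e = Z * Z1 from he] at h1
    refine hEne ?_
    rw [hrel] at h1
    rw [← hφ3 (Z * Z1), h1, map_one]
  · have h1 : π ((c (c e))⁻¹ * (e⁻¹ * c e)) = 1 := by
      rw [map_mul, map_mul, map_inv, map_inv, ← hφ, ← hφ, show π e = Z * Z1 from he, hrel, inv_mul_cancel]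
    have h2 := (hone _).1 h1
    simp only [Subgroup.coe_mul, InvMemClass.coe_inv, c, MonoidHom.coe_mk, OneHom.coe_mk] at h2
    rwa [H.conj_conj] at h2

/-- The data for the natural case. -/
structure NatData (x : G) (V D R Q : Subgroup G) (u : G) : Prop extends Frame D R u where
  core : Q ⊓ normalizer (D : Set G) = R
  two : IsPGroup 2 Q
  invQ : Inv x Q
  normD : x ∈ normalizer (D : Set G)
  cent : Q ≤ centralizer ({u} : Set G)
  memV : u ∈ V
  infV : D ⊓ V = zpowers u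

theorem NatData.R_le (T : NatData x V D R Q u) : R ≤ Q := T.core ▸ inf_le_left

theorem NatData.invR (T : NatData x V D R Q u) : Inv x R := fun r hr => by
  have hr' : r ∈ Q ⊓ normalizer (D : Set G) := T.core.symm ▸ hr
  exact T.core ▸ (mem_inf.2 ⟨T.invQ r hr'.1, mul_mem (mul_mem T.normD hr'.2) (inv_mem T.normD)⟩ :
    x * r * x⁻¹ ∈ Q ⊓ normalizer (D : Set G))

theorem NatData.cand (T : NatData x V D R Q u) {n : G} (hn : n ∈ Q) (hnR : n ∈ normalizer (R : Set G)) :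
    Cand R u (conjMap n D) := by
  have hu : n⁻¹ * u * n = u := by
    rw [mul_assoc, ← mem_centralizer_singleton_iff.1 (T.cent hn), inv_mul_cancel_left]
  refine ⟨fun a ha => ?_, by rw [Cfsg.Lib.Coprime.card_conjMap, T.cardD], fun a ha => ?_,
    mem_conjMap.2 (by rw [hu]; exact T.mem)⟩
  · have h1 := ((mem_set_normalizer_iff.1 hnR) _).1 (T.le (mem_conjMap.1 ha))
    rwa [show n * (n⁻¹ * a * n) * n⁻¹ = a by group] at h1
  · have h1 := T.sqD _ (mem_conjMap.1 ha)
    calc a * a = n * ((n⁻¹ * a * n) * (n⁻¹ * a * n)) * n⁻¹ := by group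
      _ = 1 := by rw [h1]; group

theorem NatData.conj_eq_iff (T : NatData x V D R Q u) {m n : G} (hm : m ∈ Q) (hn : n ∈ Q) :
    conjMap m D = conjMap n D ↔ m⁻¹ * n ∈ R := by
  constructor
  · intro e
    refine T.core ▸ (mem_inf.2 ⟨mul_mem (inv_mem hm) hn, Cfsg.Lib.Coprime.conjMap_eq_self_iff.1 ?_⟩ :
      m⁻¹ * n ∈ Q ⊓ normalizer (D : Set G))
    rw [← Cfsg.Lib.Coprime.conjMap_mul, ← e, Cfsg.Lib.Coprime.conjMap_inv_conjMap]
  · intro e
    have h1 : m⁻¹ * n ∈ normalizer (D : Set G) := (T.core.symm ▸ e : m⁻¹ * n ∈ Q ⊓ normalizer (D : Set G)).2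
    conv_rhs => rw [show n = m * (m⁻¹ * n) by group, ← Cfsg.Lib.Coprime.conjMap_mul,
      Cfsg.Lib.Coprime.conjMap_eq_self h1]

theorem NatData.conj_x (T : NatData x V D R Q u) (n : G) : conjMap (x * n * x⁻¹) D = conjMap x (conjMap n D) := by
  rw [← Cfsg.Lib.Coprime.conjMap_mul (x * n) x⁻¹, Cfsg.Lib.Coprime.conjMap_eq_self (inv_mem T.normD),
    ← Cfsg.Lib.Coprime.conjMap_mul]

theorem NatData.conj_x_inf (T : NatData x V D R Q u) (n : G) :
    Nat.card (D ⊓ conjMap (x * n * x⁻¹) D : Subgroup G) = Nat.card (D ⊓ conjMap n D : Subgroup G) := by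
  rw [T.conj_x n]
  conv_lhs => rw [← Cfsg.Lib.Coprime.conjMap_eq_self T.normD]
  rw [conjMap_inf_card, Cfsg.Lib.Coprime.conjMap_eq_self T.normD]

/-- Nothing above `R` without a new fixed point. -/
theorem NatData.no_free (T : NatData x V D R Q u) (H : Hyp x V) (hRN : R ≠ Q ⊓ normalizer (R : Set G))
    (hV : Q ⊓ normalizer (R : Set G) ⊓ V ≤ R) : False := by
  set N := Q ⊓ normalizer (R : Set G) with hN
  have hRle : R ≤ N := le_inf T.R_le le_normalizer
  have hxR := inv_mem_normalizer H T.invR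
  have hNI : Inv x N := fun a ha => mem_inf.2 ⟨T.invQ a ha.1, mul_mem (mul_mem hxR ha.2) (inv_mem hxR)⟩
  obtain ⟨e, he, heR, hnf, hrel⟩ := exists_free H (T.two.to_le inf_le_left) hRle hRN inf_le_right T.invR hNI hV
  set e₁ := x * e * x⁻¹ with he₁
  set e₂ := x⁻¹ * e * x with he₂
  have he₁N : e₁ ∈ N := hNI e he
  have he₂N : e₂ ∈ N := by
    rw [he₂, ← H.conj_conj]; exact hNI _ (hNI e he)
  have C0 := T.cand he.1 he.2
  have C1 := T.cand he₁N.1 he₁N.2
  have C2 := T.cand he₂N.1 he₂N.2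
  have hne : conjMap e D ≠ D := fun h' => heR (by
    have := (T.conj_eq_iff (one_mem _) he.1).1 (by rw [Cfsg.Lib.Coprime.conjMap_one]; exact h'.symm)
    simpa using this)
  have hne01 : conjMap e D ≠ conjMap e₁ D := fun h' => hnf ((T.conj_eq_iff he.1 he₁N.1).1 h')
  set m := Nat.card (D ⊓ conjMap e D : Subgroup G) with hm
  have hm1 : Nat.card (D ⊓ conjMap e₁ D : Subgroup G) = m := T.conj_x_inf e
  have hm2 : Nat.card (D ⊓ conjMap e₂ D : Subgroup G) = m := by
    rw [he₂, ← H.conj_conj, T.conj_x_inf, T.conj_x_inf]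
  have h01 : Nat.card (conjMap e D ⊓ conjMap e₁ D : Subgroup G) = m := by
    have h1 : conjMap e₁ D = conjMap e (conjMap e₂ D) := by
      rw [Cfsg.Lib.Coprime.conjMap_mul]
      refine ((T.conj_eq_iff (mul_mem he.1 he₂N.1) he₁N.1).2 ?_).symm
      rwa [mul_inv_rev, mul_assoc]
    rw [h1, conjMap_inf_card, hm2]
  have hstep : ∀ a b : G, Nat.card (conjMap (x * a * x⁻¹) D ⊓ conjMap (x * b * x⁻¹) D : Subgroup G) =
      Nat.card (conjMap a D ⊓ conjMap b D : Subgroup G) := fun a b => by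
    rw [T.conj_x a, T.conj_x b, conjMap_inf_card]
  have h12 : Nat.card (conjMap e₁ D ⊓ conjMap e₂ D : Subgroup G) = m := by
    have := hstep e e₁
    rwa [H.conj_conj, ← he₁, ← he₂, h01] at this
  have h20 : Nat.card (conjMap e D ⊓ conjMap e₂ D : Subgroup G) = m := by
    have := hstep e₁ e₂
    rw [H.conj_conj, ← he₂, show x * e₂ * x⁻¹ = e by rw [he₂]; group, h12, inf_comm] at this
    exact this
  rcases T.inf_cases C0 hne with h2 | h4 <;> rw [← hm] at *
  · exact hne01 (T.three C0 C1 C2 h2 (hm1.trans h2) (hm2.trans h2) (h20.trans h2) (h12.trans h2))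
  · have hW : D ⊓ conjMap e D ≠ D ⊓ conjMap e₁ D := fun e' => hne01 (T.unique C0 C1 h4 e')
    have := T.inf_four C0 C1 h4 (hm1.trans h4) hW
    omega

/-- With four elements in `V` the group `R⟨w⟩` is the whole core. -/
theorem NatData.card_core (T : NatData x V D R Q u) (H : Hyp x V) {w : G} (hw : w ∈ V) (hwQ : w ∈ Q)
    (hwR : w ∈ normalizer (R : Set G)) (hwD : w ∉ normalizer (D : Set G)) : Nat.card Q = 64 := by
  classical
  haveI : Fact (Nat.Prime 2) := ⟨Nat.prime_two⟩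
  have hw2 : w * w = 1 := H.sq w hw
  have hwi : w⁻¹ = w := H.inv_eq hw
  have hwR' : w ∉ R := fun hm => hwD (T.core.symm ▸ hm : w ∈ Q ⊓ normalizer (D : Set G)).2
  have hw1 : w ≠ 1 := fun e => hwR' (e ▸ R.one_mem)
  have hV4 : Nat.card V = 4 := by
    rcases H.card with e | e
    · exfalso
      have hV : zpowers u = V := Subgroup.eq_of_le_of_card_ge (zpowers_le.2 T.memV) (by rw [e, T.cardU])
      exact hwR' (zpowers_le.2 (T.le T.mem) (hV.symm ▸ hw))
    · exact e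
  set R₁ := R ⊔ zpowers w with hR₁
  have hwle : zpowers w ≤ normalizer (R : Set G) := zpowers_le.2 hwR
  have hR₁Q : R₁ ≤ Q := sup_le T.R_le (zpowers_le.2 hwQ)
  have hwo : Nat.card (zpowers w) = 2 := H.card_zpowers_V hw hw1
  have hmem : ∀ a ∈ R₁, a ∈ R ∨ a * w ∈ R := by
    intro a ha
    have ha' : a ∈ ((R ⊔ zpowers w : Subgroup G) : Set G) := ha
    rw [coe_mul_of_right_le_normalizer_left _ _ hwle] at ha'
    obtain ⟨r, hr, z, hz, rfl⟩ := ha'
    obtain ⟨i, rfl⟩ := mem_zpowers_iff.1 hz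
    have h2 : w ^ (2 : ℤ) = 1 := by rw [zpow_two, hw2]
    rcases Int.even_or_odd i with ⟨j, rfl⟩ | ⟨j, rfl⟩
    · left
      show r * w ^ (j + j) ∈ R
      rw [← two_mul, zpow_mul, h2, one_zpow, mul_one]; exact hr
    · right
      show r * w ^ (2 * j + 1) * w ∈ R
      rw [zpow_add, zpow_mul, h2, one_zpow, one_mul, zpow_one, mul_assoc, hw2, mul_one]; exact hr
  have hR₁c : Nat.card R₁ = 64 := by
    have h1 := Cfsg.Lib.Coprime.card_sup_mul_card_inf hwle
    rw [show R ⊓ zpowers w = ⊥ from eq_bot_iff.2 fun a ha => mem_bot.2 (by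
      by_contra ha1
      exact hwR' ((Subgroup.eq_of_le_of_card_ge (zpowers_le.2 ha.2) (by
        rw [hwo, H.card_zpowers_V ((zpowers_le.2 hw) ha.2) ha1])).ge.trans (zpowers_le.2 ha.1) (mem_zpowers w))),
      card_bot, mul_one, T.cardR, hwo] at h1
    exact h1
  have hR₁I : Inv x R₁ := Cfsg.Lib.SelfCentThree.Inv.sup T.invR (H.inv_of_le_V (zpowers_le.2 hw))
  have hxR := inv_mem_normalizer H T.invR
  have hxR₁ := inv_mem_normalizer H hR₁I
  -- the conjugate of `D` under `w`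
  have Cw := T.cand hwQ hwR
  have hwne : conjMap w D ≠ D := fun e => hwD (Cfsg.Lib.Coprime.conjMap_eq_self_iff.1 e)
  have hDw : Nat.card (D ⊓ conjMap w D : Subgroup G) = 2 := by
    refine (T.inf_cases Cw hwne).resolve_right fun h4 => ?_
    have hI : Inv x (D ⊓ conjMap w D) := fun a ha => by
      refine ⟨((mem_set_normalizer_iff.1 T.normD) a).1 ha.1, mem_conjMap.2 ?_⟩
      rw [show w⁻¹ * (x * a * x⁻¹) * w = x * (w⁻¹ * a * w) * x⁻¹ by
        rw [hwi]
        calc w * (x * a * x⁻¹) * w = (w * x) * a * (x⁻¹ * w) := by group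
          _ = (x * w) * a * (w * x⁻¹) := by rw [(H.comm w hw).eq, (H.comm w hw).inv_right.symm.eq]
          _ = x * (w * a * w) * x⁻¹ := by group]
      exact ((mem_set_normalizer_iff.1 T.normD) _).1 (mem_conjMap.1 ha.2)
    obtain ⟨j, hj⟩ := card_two_pow_four H ((T.two.to_le (T.R_le)).to_le (inf_le_left.trans T.le)) hI
    have hfix : D ⊓ conjMap w D ⊓ V = zpowers u := le_antisymm ((inf_le_inf_right V inf_le_left).trans T.infV.le)
      (le_inf (T.inf_ge Cw) (zpowers_le.2 T.memV))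
    rw [hfix, T.cardU, h4] at hj
    rcases j with _ | j
    · omega
    · rw [pow_succ] at hj; omega
  have hDwu := T.u_of_inf_two Cw hDw
  -- nothing above `R⟨w⟩` normalises `R`
  set N := Q ⊓ normalizer (R : Set G) with hN
  have hR₁N : R₁ ≤ N := le_inf hR₁Q (sup_le le_normalizer hwle)
  have hNV : N ⊓ V ≤ R₁ := by
    refine inf_le_right.trans (H.V_le_of hV4 T.memV T.ne hw ?_ (mem_sup_left (T.le T.mem))
      (mem_sup_right (mem_zpowers w)))
    exact fun hm => hwR' (T.le (zpowers_le.2 T.mem hm))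
  have hNR₁ : N = R₁ := by
    by_contra hne
    haveI : Group.IsNilpotent N := (T.two.to_le inf_le_left).isNilpotent
    have hlt : R₁.subgroupOf N < ⊤ := lt_top_iff_ne_top.2 fun e => hne (le_antisymm (subgroupOf_eq_top.1 e) hR₁N)
    obtain ⟨⟨e, heN⟩, hen, heR₁⟩ := SetLike.exists_of_lt (Group.normalizerCondition_of_isNilpotent _ hlt)
    rw [mem_subgroupOf] at heR₁
    have hen' : e ∈ normalizer (R₁ : Set G) := mem_set_normalizer_iff.2 fun a => by
      refine ⟨fun ha => ?_, fun ha => ?_⟩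
      · exact mem_subgroupOf.1 (((mem_set_normalizer_iff.1 hen) ⟨a, hR₁N ha⟩).1 (mem_subgroupOf.2 ha))
      · have h1 : a ∈ N := by
          have := N.mul_mem (N.mul_mem (N.inv_mem heN) (hR₁N ha)) heN
          rwa [show e⁻¹ * (e * a * e⁻¹) * e = a by group] at this
        exact mem_subgroupOf.1 (((mem_set_normalizer_iff.1 hen) ⟨a, h1⟩).2 (mem_subgroupOf.2 ha))
    set N₁ := N ⊓ normalizer (R₁ : Set G) with hN₁
    have hN₁I : Inv x N₁ := fun a ha => mem_inf.2 ⟨mem_inf.2 ⟨T.invQ a ha.1.1, mul_mem (mul_mem hxR ha.1.2) (inv_mem hxR)⟩,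
      mul_mem (mul_mem hxR₁ ha.2) (inv_mem hxR₁)⟩
    have hfree : ∀ a ∈ N₁, a ∉ R₁ → x * a * x⁻¹ * a⁻¹ ∉ R₁ := fun a ha haR hc => haR
      (mem_of_fixed_coset H ((T.two.to_le inf_le_left).to_le inf_le_left) (le_inf hR₁N le_normalizer) inf_le_right
        hR₁I ((inf_le_inf_right V inf_le_left).trans hNV) ha hc)
    have hgood : ∀ a ∈ N₁, a ∉ R₁ → ∀ b ∈ N₁, b * a⁻¹ ∈ R₁ → b ∉ R₁ := fun a _ haR b _ hba hb => haR (by
      have := R₁.mul_mem (R₁.inv_mem hba) hb
      rwa [show (b * a⁻¹)⁻¹ * b = a by group] at this)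
    have hconjne : ∀ a ∈ N₁, a ∉ R₁ → conjMap a D ≠ D := fun a ha haR h' => haR (mem_sup_left (by
      have := (T.conj_eq_iff (one_mem _) ha.1.1).1 (by rw [Cfsg.Lib.Coprime.conjMap_one]; exact h'.symm)
      simpa using this))
    have hxne : ∀ a ∈ N₁, a ∉ R₁ → conjMap a D ≠ conjMap (x * a * x⁻¹) D := fun a ha haR h' => hfree a ha haR (by
      have h1 := mem_sup_left (T := zpowers w) ((T.conj_eq_iff ha.1.1 (T.invQ a ha.1.1)).1 h')
      have h2 := ((mem_set_normalizer_iff.1 ha.2) _).1 h1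
      rwa [show a * (a⁻¹ * (x * a * x⁻¹)) * a⁻¹ = x * a * x⁻¹ * a⁻¹ by group] at h2)
    have hwinf : ∀ a, Nat.card (D ⊓ conjMap (w * a) D : Subgroup G) =
        Nat.card (conjMap w D ⊓ conjMap a D : Subgroup G) := fun a => by
      rw [← conjMap_inf_card w D (conjMap (w * a) D), Cfsg.Lib.Coprime.conjMap_mul, ← mul_assoc, hw2, one_mul]
    have hwN₁ : w ∈ N₁ := ⟨hR₁N (mem_sup_right (mem_zpowers w)), le_normalizer (mem_sup_right (mem_zpowers w))⟩
    have hfour : ∀ a ∈ N₁, a ∉ R₁ → Nat.card (D ⊓ conjMap a D : Subgroup G) ≠ 4 := by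
      intro a ha haR h4
      have Ca := T.cand ha.1.1 ha.1.2
      have hwa : w * a ∈ N₁ := N₁.mul_mem hwN₁ ha
      have hwaR : w * a ∉ R₁ := hgood a ha haR _ hwa (by
        rw [mul_inv_cancel_right]; exact mem_sup_right (mem_zpowers w))
      have Cwa := T.cand hwa.1.1 hwa.1.2
      have h4w : Nat.card (D ⊓ conjMap (w * a) D : Subgroup G) = 4 := by
        refine (T.inf_cases Cwa (hconjne _ hwa hwaR)).resolve_left fun h2 => ?_
        have h1 := T.inf_mixed Ca Cw h4 hDw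
        rw [inf_comm, ← hwinf, h2] at h1
        omega
      set a₁ := x * a * x⁻¹ with ha₁
      set a₂ := x * a₁ * x⁻¹ with ha₂
      have ha₁N : a₁ ∈ N₁ := hN₁I a ha
      have ha₂N : a₂ ∈ N₁ := hN₁I a₁ ha₁N
      have h41 : Nat.card (D ⊓ conjMap a₁ D : Subgroup G) = 4 := (T.conj_x_inf a).trans h4
      have h42 : Nat.card (D ⊓ conjMap a₂ D : Subgroup G) = 4 := (T.conj_x_inf a₁).trans h41
      have Ca₁ := T.cand ha₁N.1.1 ha₁N.1.2
      have Ca₂ := T.cand ha₂N.1.1 ha₂N.1.2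
      have ha₁R : a₁ ∉ R₁ := fun hm => haR (by
        have := hR₁I _ (hR₁I _ hm)
        rwa [H.conj_conj, ha₁, show x⁻¹ * (x * a * x⁻¹) * x = a by group] at this)
      have n01 : D ⊓ conjMap a D ≠ D ⊓ conjMap a₁ D := fun e' => hxne a ha haR (T.unique Ca Ca₁ h4 e')
      have n12 : D ⊓ conjMap a₁ D ≠ D ⊓ conjMap a₂ D := fun e' => hxne a₁ ha₁N ha₁R (T.unique Ca₁ Ca₂ h41 e')
      have n02 : D ⊓ conjMap a D ≠ D ⊓ conjMap a₂ D := fun e' => by
        have h'' := congrArg (conjMap x) (T.unique Ca Ca₂ h4 e')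
        have e3 : x * a₂ * x⁻¹ = a := by rw [ha₂, ha₁, H.conj_conj]; group
        rw [← T.conj_x, ← T.conj_x, e3] at h''
        exact hxne a ha haR h''.symm
      -- the four hyperplanes through `u`
      have hset : ∀ {A B : Subgroup G}, Nat.card A = 4 → Nat.card B = 4 → u ∈ A → u ∈ B → A ≠ B →
          Disjoint ((A : Set G) \ zpowers u) ((B : Set G) \ zpowers u) := by
        intro A B hA hB huA huB hne'
        refine Set.disjoint_left.2 fun p hp hp' => hne' ?_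
        have hle : zpowers u ≤ A ⊓ B := zpowers_le.2 ⟨huA, huB⟩
        have h1 : 2 < Nat.card (A ⊓ B : Subgroup G) := by
          refine lt_of_le_of_ne (T.cardU ▸ Nat.le_of_dvd Nat.card_pos (card_dvd_of_le hle)) fun e' => hp.2 ?_
          rw [SetLike.mem_coe, Subgroup.eq_of_le_of_card_ge hle (by rw [T.cardU, ← e'])]
          exact ⟨hp.1, hp'.1⟩
        have h2 := card_dvd_of_le (inf_le_left : A ⊓ B ≤ A)
        rw [hA] at h2
        have h3 : Nat.card (A ⊓ B : Subgroup G) = 4 := by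
          have := Nat.le_of_dvd (by norm_num) h2
          generalize Nat.card (A ⊓ B : Subgroup G) = c at *
          interval_cases c <;> omega
        exact (inf_eq_left.1 (Subgroup.eq_of_le_of_card_ge inf_le_left (by rw [h3, hA]))).antisymm
          ((inf_eq_right.1 (Subgroup.eq_of_le_of_card_ge inf_le_right (by rw [h3, hB]))))
      have hdiff : ∀ {A : Subgroup G}, u ∈ A → Nat.card A = 4 → ((A : Set G) \ zpowers u).ncard = 2 := by
        intro A huA hA
        rw [Set.ncard_sdiff (by exact SetLike.coe_subset_coe.2 (zpowers_le.2 huA)) (Set.toFinite _),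
          ← Nat.card_coe_set_eq, ← Nat.card_coe_set_eq]
        show Nat.card A - Nat.card (zpowers u) = 2
        rw [hA, T.cardU]
      have hthree : conjMap (w * a) D = conjMap a D ∨ conjMap (w * a) D = conjMap a₁ D ∨
          conjMap (w * a) D = conjMap a₂ D := by
        by_contra hno
        push Not at hno
        have hi : ∀ b, (u ∈ conjMap b D) → u ∈ D ⊓ conjMap b D := fun b hb => ⟨T.mem, hb⟩
        have d01 := hset h4 h41 (hi _ Ca.mem) (hi _ Ca₁.mem) n01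
        have d02 := hset h4 h42 (hi _ Ca.mem) (hi _ Ca₂.mem) n02
        have d12 := hset h41 h42 (hi _ Ca₁.mem) (hi _ Ca₂.mem) n12
        have d3 := hset h4w h4 (hi _ Cwa.mem) (hi _ Ca.mem) fun e' => hno.1 (T.unique Cwa Ca h4w e')
        have d4 := hset h4w h41 (hi _ Cwa.mem) (hi _ Ca₁.mem) fun e' => hno.2.1 (T.unique Cwa Ca₁ h4w e')
        have d5 := hset h4w h42 (hi _ Cwa.mem) (hi _ Ca₂.mem) fun e' => hno.2.2 (T.unique Cwa Ca₂ h4w e')
        have h8 : (((D ⊓ conjMap (w * a) D : Subgroup G) : Set G) \ zpowers u ∪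
            ((D ⊓ conjMap a D : Subgroup G) : Set G) \ zpowers u ∪
            ((D ⊓ conjMap a₁ D : Subgroup G) : Set G) \ zpowers u ∪
            ((D ⊓ conjMap a₂ D : Subgroup G) : Set G) \ zpowers u).ncard ≤ ((D : Set G) \ zpowers u).ncard :=
          Set.ncard_le_ncard (by
            rintro p (((hp | hp) | hp) | hp) <;> exact ⟨hp.1.1, hp.2⟩) (Set.toFinite _)
        have hD6 : ((D : Set G) \ zpowers u).ncard = 6 := by
          rw [Set.ncard_sdiff (SetLike.coe_subset_coe.2 (zpowers_le.2 T.mem)) (Set.toFinite _),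
            ← Nat.card_coe_set_eq, ← Nat.card_coe_set_eq]
          show Nat.card D - Nat.card (zpowers u) = 6
          rw [T.cardD, T.cardU]
        rw [Set.ncard_union_eq (Set.disjoint_union_left.2 ⟨Set.disjoint_union_left.2 ⟨d5, d02⟩, d12⟩)
            (Set.toFinite _) (Set.toFinite _),
          Set.ncard_union_eq (Set.disjoint_union_left.2 ⟨d4, d01⟩) (Set.toFinite _) (Set.toFinite _),
          Set.ncard_union_eq d3 (Set.toFinite _) (Set.toFinite _), hdiff (hi _ Cwa.mem) h4w, hdiff (hi _ Ca.mem) h4,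
          hdiff (hi _ Ca₁.mem) h41, hdiff (hi _ Ca₂.mem) h42, hD6] at h8
        omega
      -- back to the cosets
      have hback : ∀ b ∈ N₁, conjMap (w * a) D = conjMap b D → b * a⁻¹ ∈ R₁ := fun b hb e' => by
        have h1 : (w * a)⁻¹ * b ∈ R₁ := mem_sup_left ((T.conj_eq_iff hwa.1.1 hb.1.1).1 e')
        have h2 := ((mem_set_normalizer_iff.1 ha.2) _).1 h1
        have h3 := R₁.mul_mem (mem_sup_right (mem_zpowers w) : w ∈ R₁) h2
        rwa [show a * ((w * a)⁻¹ * b) * a⁻¹ = w⁻¹ * (b * a⁻¹) by group, mul_inv_cancel_left] at h3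
      rcases hthree with e' | e' | e'
      · have h1 := (T.conj_eq_iff hwa.1.1 ha.1.1).1 e'
        rw [mul_inv_rev, mul_assoc] at h1
        have h2 := ((mem_set_normalizer_iff.1 ha.1.2) _).1 h1
        rw [show a * (a⁻¹ * (w⁻¹ * a)) * a⁻¹ = w⁻¹ by group, hwi] at h2
        exact hwR' h2
      · exact hfree a ha haR (hback a₁ ha₁N e')
      · have h1 := hR₁I _ (hback a₂ ha₂N e')
        rw [ha₂, ha₁, show x * (x * (x * a * x⁻¹) * x⁻¹ * a⁻¹) * x⁻¹ =
          (x * (x * (x * a * x⁻¹) * x⁻¹) * x⁻¹) * (x * a * x⁻¹)⁻¹ by group,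
          show x * (x * (x * a * x⁻¹) * x⁻¹) * x⁻¹ = a by rw [H.conj_conj]; group] at h1
        have h2 := R₁.inv_mem h1
        rw [mul_inv_rev, inv_inv] at h2
        exact hfree a ha haR h2
    have heN₁ : e ∈ N₁ := ⟨heN, hen'⟩
    have htwo : ∀ a ∈ N₁, a ∉ R₁ → Nat.card (D ⊓ conjMap a D : Subgroup G) = 2 := fun a ha haR =>
      (T.inf_cases (T.cand ha.1.1 ha.1.2) (hconjne a ha haR)).resolve_right (hfour a ha haR)
    have hwtwo : ∀ a ∈ N₁, a ∉ R₁ → Nat.card (conjMap a D ⊓ conjMap w D : Subgroup G) = 2 := fun a ha haR => by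
      rw [inf_comm, ← hwinf]
      exact htwo _ (N₁.mul_mem hwN₁ ha) (hgood a ha haR _ (N₁.mul_mem hwN₁ ha)
        (by rw [mul_inv_cancel_right]; exact mem_sup_right (mem_zpowers w)))
    have he1 : x * e * x⁻¹ ∈ N₁ := hN₁I e heN₁
    have he1R : x * e * x⁻¹ ∉ R₁ := fun hm => heR₁ (by
      have := hR₁I _ (hR₁I _ hm)
      rwa [H.conj_conj, show x⁻¹ * (x * e * x⁻¹) * x = e by group] at this)
    exact hxne e heN₁ heR₁ (T.three (T.cand heN₁.1.1 heN₁.1.2) (T.cand he1.1.1 he1.1.2) Cw (htwo e heN₁ heR₁)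
      (htwo _ he1 he1R) hDw (hwtwo e heN₁ heR₁) (hwtwo _ he1 he1R))
  -- nothing normalises `R⟨w⟩` outside it
  have hQR₁ : Q = R₁ := by
    by_contra hne
    haveI : Group.IsNilpotent Q := T.two.isNilpotent
    have hlt : R₁.subgroupOf Q < ⊤ := lt_top_iff_ne_top.2 fun e => hne (le_antisymm (subgroupOf_eq_top.1 e) hR₁Q)
    obtain ⟨⟨n, hnQ⟩, hnn, hnR₁⟩ := SetLike.exists_of_lt (Group.normalizerCondition_of_isNilpotent _ hlt)
    rw [mem_subgroupOf] at hnR₁
    have hconj : ∀ a ∈ R₁, n * a * n⁻¹ ∈ R₁ := fun a ha =>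
      mem_subgroupOf.1 (((mem_set_normalizer_iff.1 hnn) ⟨a, hR₁Q ha⟩).1 (mem_subgroupOf.2 ha))
    set R' := conjMap n R with hR'
    have hR'le : R' ≤ R₁ := fun a ha => by
      have h1 := hconj _ (mem_sup_left (mem_conjMap.1 ha))
      rwa [show n * (n⁻¹ * a * n) * n⁻¹ = a by group] at h1
    have hne' : R' ≠ R := fun e' => hnR₁ (hNR₁ ▸ (⟨hnQ, Cfsg.Lib.Coprime.conjMap_eq_self_iff.1 e'⟩ :
      n ∈ Q ⊓ normalizer (R : Set G)))
    -- commutators in `R` lie in `⟨u⟩`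
    have hDC : ∀ d ∈ D, ∀ r ∈ R, d * r * d⁻¹ * r⁻¹ ∈ zpowers u := fun d hd r hr => by
      have := inv_mem (T.comm r hr d hd)
      rwa [show (r * d * r⁻¹ * d⁻¹)⁻¹ = d * r * d⁻¹ * r⁻¹ by group] at this
    have hwu : w * u * w = u := by rw [← (H.comm_V T.memV hw).eq, mul_assoc, hw2, mul_one]
    have hDwC : ∀ d ∈ conjMap w D, ∀ r ∈ R, d * r * d⁻¹ * r⁻¹ ∈ zpowers u := fun d hd r hr => by
      have hd' := mem_conjMap.1 hd
      rw [hwi] at hd'
      have hr' : w * r * w ∈ R := by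
        have := ((mem_set_normalizer_iff.1 hwR) r).1 hr
        rwa [hwi] at this
      have h1 := hDC _ hd' _ hr'
      rw [show w * d * w * (w * r * w) * (w * d * w)⁻¹ * (w * r * w)⁻¹ =
        w * (d * (w * w) * r * (w * w⁻¹) * d⁻¹ * (w⁻¹ * w⁻¹) * r⁻¹) * w⁻¹ by group, hwi, hw2] at h1
      simp only [mul_one] at h1
      rcases T.mem_u_iff.1 h1 with e' | e'
      · refine T.mem_u_iff.2 (Or.inl ?_)
        calc d * r * d⁻¹ * r⁻¹ = (w * w) * (d * r * d⁻¹ * r⁻¹) * (w * w) := by rw [hw2, one_mul, mul_one]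
          _ = w * (w * (d * r * d⁻¹ * r⁻¹) * w) * w := by group
          _ = 1 := by rw [e', mul_one, hw2]
      · refine T.mem_u_iff.2 (Or.inr ?_)
        calc d * r * d⁻¹ * r⁻¹ = (w * w) * (d * r * d⁻¹ * r⁻¹) * (w * w) := by rw [hw2, one_mul, mul_one]
          _ = w * (w * (d * r * d⁻¹ * r⁻¹) * w) * w := by group
          _ = u := by rw [e', hwu]
    have hRcomm : ∀ p ∈ R, ∀ q ∈ R, p * q * p⁻¹ * q⁻¹ ∈ zpowers u := fun p hp q hq => by
      obtain ⟨a, ha, had⟩ := T.cover Cw hDw hp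
      set d := (p⁻¹ * a)⁻¹ with hd
      have hdD : d ∈ D := D.inv_mem had
      have hp' : p = a * d := by rw [hd]; group
      obtain h1 := hDwC a ha q hq
      obtain h2 := hDC d hdD q hq
      have hau : Commute a u := T.cent_u (Cw.le ha)
      rcases T.mem_u_iff.1 h2 with e' | e'
      · rw [hp', show a * d * q * (a * d)⁻¹ * q⁻¹ = a * (d * q * d⁻¹ * q⁻¹) * a⁻¹ * (a * q * a⁻¹ * q⁻¹) by group, e']
        simpa using h1
      · rw [hp', show a * d * q * (a * d)⁻¹ * q⁻¹ = a * (d * q * d⁻¹ * q⁻¹) * a⁻¹ * (a * q * a⁻¹ * q⁻¹) by group, e',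
          hau.eq, mul_inv_cancel_right]
        exact mul_mem (mem_zpowers u) h1
    have hDR' : 4 ≤ Nat.card (D ⊓ R' : Subgroup G) := by
      have h1 : Nat.card D = Nat.card (D ⊓ R' : Subgroup G) * R'.relIndex D := by
        have := relIndex_mul_relIndex (⊥ : Subgroup G) (D ⊓ R') D bot_le inf_le_left
        rw [relIndex_bot_left, relIndex_bot_left, inf_comm D R', inf_relIndex_right] at this
        rw [inf_comm D R']
        exact this.symm
      have h2 : Nat.card R₁ = Nat.card R' * R'.relIndex R₁ := by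
        have := relIndex_mul_relIndex (⊥ : Subgroup G) R' R₁ bot_le hR'le
        rw [relIndex_bot_left, relIndex_bot_left] at this
        exact this.symm
      have h3 : R'.relIndex D ≤ R'.relIndex R₁ := relIndex_le_of_le_right (T.le.trans le_sup_left) fun e' => by
        rw [e', mul_zero] at h2
        omega
      rw [hR', Cfsg.Lib.Coprime.card_conjMap, hR₁c, T.cardR] at h2
      rw [T.cardD] at h1
      have h4 : R'.relIndex D ≤ 2 := by rw [hR'] at h3 ⊢; omega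
      by_contra hlt
      have : Nat.card (D ⊓ R' : Subgroup G) * R'.relIndex D ≤ 3 * 2 := Nat.mul_le_mul (by omega) h4
      omega
    obtain ⟨d, hd, hdu⟩ := SetLike.not_le_iff_exists.1 fun hle : D ⊓ R' ≤ zpowers u => by
      have := Nat.le_of_dvd Nat.card_pos (card_dvd_of_le hle)
      rw [T.cardU] at this
      omega
    obtain ⟨a, ha, haR⟩ := SetLike.not_le_iff_exists.1 fun hle : R' ≤ R => hne' (Subgroup.eq_of_le_of_card_ge hle
      (by rw [hR', Cfsg.Lib.Coprime.card_conjMap]))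
    have h1 := hRcomm _ (mem_conjMap.1 ha) _ (mem_conjMap.1 hd.2)
    have hnu : Commute n u := mem_centralizer_singleton_iff.1 (T.cent hnQ)
    have h2 : a * d * a⁻¹ * d⁻¹ ∈ zpowers u := by
      rw [show n⁻¹ * a * n * (n⁻¹ * d * n) * (n⁻¹ * a * n)⁻¹ * (n⁻¹ * d * n)⁻¹ = n⁻¹ * (a * d * a⁻¹ * d⁻¹) * n by group] at h1
      rcases T.mem_u_iff.1 h1 with e' | e'
      · refine T.mem_u_iff.2 (Or.inl ?_)
        calc a * d * a⁻¹ * d⁻¹ = n * (n⁻¹ * (a * d * a⁻¹ * d⁻¹) * n) * n⁻¹ := by group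
          _ = 1 := by rw [e']; group
      · refine T.mem_u_iff.2 (Or.inr ?_)
        calc a * d * a⁻¹ * d⁻¹ = n * (n⁻¹ * (a * d * a⁻¹ * d⁻¹) * n) * n⁻¹ := by group
          _ = u := by rw [e', hnu.eq, mul_inv_cancel_right]
    have haw := ((hmem a (hR'le ha)).resolve_left haR)
    have hRn : ∀ r ∈ R, conjMap r D = D := fun r hr => Cfsg.Lib.Coprime.conjMap_eq_self
      (T.core.symm ▸ hr : r ∈ Q ⊓ normalizer (D : Set G)).2
    have hadw : a * d * a⁻¹ ∈ conjMap w D := by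
      refine mem_conjMap.2 ?_
      -- `w a` lies in `R`
      have hwa : w * a ∈ R := by
        have := ((mem_set_normalizer_iff.1 hwR) _).1 haw
        rwa [hwi, show w * (a * w) * w = w * a * (w * w) by group, hw2, mul_one] at this
      have h3 : w * a * d * (w * a)⁻¹ ∈ D := by
        have h4 : w * a * d * (w * a)⁻¹ ∈ conjMap (w * a) D := mem_conjMap.2 (by
          rw [show (w * a)⁻¹ * (w * a * d * (w * a)⁻¹) * (w * a) = d by group]; exact hd.1)
        rwa [hRn _ hwa] at h4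
      rwa [show w⁻¹ * (a * d * a⁻¹) * w = w * a * d * (w * a)⁻¹ by rw [mul_inv_rev, hwi]; group]
    have hadD : a * d * a⁻¹ ∈ D := by
      have := D.mul_mem (zpowers_le.2 T.mem h2) hd.1
      rwa [inv_mul_cancel_right] at this
    have hadu : a * d * a⁻¹ ∈ zpowers u := hDwu.le (mem_inf.2 ⟨hadD, hadw⟩)
    refine hdu ?_
    have := mul_mem (inv_mem h2) hadu
    rwa [show (a * d * a⁻¹ * d⁻¹)⁻¹ * (a * d * a⁻¹) = d by group] at this
  rw [hQR₁, hR₁c]

variable {F s k : ℕ} {h : G → ℤ}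

/-- The natural local subgroup does not occur. -/
theorem Full.natural_false (f : Full x V τ F h s k) (hct : Cfsg.IsCharacteristicTwoType G) (S : SevenLocal x V D L)
    (h8 : Nat.card D = 8) (hsq : ∀ d ∈ D, d * d = 1) (hV2 : Nat.card (D ⊓ V : Subgroup G) = 2)
    (hXL : normalizer (D : Set G) = L) : False := by
  classical
  haveI : Fact (Nat.Prime 2) := ⟨Nat.prime_two⟩
  have H := f.setting.hyp
  have hτ := f.toCtx.tau
  set X := normalizer (D : Set G) with hX
  have hxX : x ∈ X := S.top.leL S.top.mem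
  obtain ⟨u, hu, hu1⟩ := SetLike.not_le_iff_exists.1 fun hle : D ⊓ V ≤ ⊥ => by
    rw [le_bot_iff.1 hle, card_bot] at hV2; omega
  rw [mem_bot] at hu1
  obtain ⟨huD, huV⟩ := hu
  have hinfV : D ⊓ V = zpowers u := (Subgroup.eq_of_le_of_card_ge (zpowers_le.2 (⟨huD, huV⟩ : u ∈ D ⊓ V))
    (by rw [hV2, H.card_zpowers_V huV hu1])).symm
  obtain ⟨Q, C, hQ2⟩ := f.exists_core_two hct huV hu1
  have hDu : ∀ d ∈ D, Commute d u := fun d hd => comm_of_sq hsq hd huD
  obtain ⟨hDR, -⟩ := S.cent H hτ C hQ2 huD hDu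
  obtain ⟨h7, hcardX⟩ := S.orbit H hτ C hQ2 huD hDu
  set R := Q ⊓ X with hR
  set O := {k | ∃ g ∈ X, g * u * g⁻¹ = k} with hO
  have hO7 : O.ncard ≤ 7 := by
    have hsub : O ⊆ (D : Set G) \ {1} := by
      rintro _ ⟨g, hg, rfl⟩
      exact ⟨((mem_set_normalizer_iff.1 hg) u).1 huD, fun e => hu1 (conj_eq_one_iff.1 e)⟩
    refine (Set.ncard_le_ncard hsub (Set.toFinite _)).trans (le_of_eq ?_)
    rw [Set.ncard_sdiff (Set.singleton_subset_iff.2 D.one_mem) (Set.toFinite _), Set.ncard_singleton,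
      ← Nat.card_coe_set_eq]
    show Nat.card D - 1 = 7
    rw [h8]
  have hXc : Nat.card X = 1344 := by rw [hXL, S.i168, h8]
  have hRc : Nat.card R = 32 := by
    rw [hXc] at hcardX
    obtain ⟨m, hm⟩ := h7
    rw [hm] at hcardX hO7
    have hm1 : m = 1 := by
      rcases m with _ | _ | m
      · norm_num at hcardX
      · rfl
      · omega
    rw [hm1] at hcardX
    omega
  have hR2 : IsPGroup 2 R := hQ2.to_le inf_le_left
  have hRI : Inv x R := fun r hr => mem_inf.2 ⟨C.inv r hr.1, mul_mem (mul_mem hxX hr.2) (inv_mem hxX)⟩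
  have hRu : ∀ r ∈ R, Commute r u := fun r hr => mem_centralizer_singleton_iff.1 (C.sub hr.1)
  have huz : ∀ {z : G}, z ∈ zpowers u → z = 1 ∨ z = u := fun {z} hz => by
    obtain ⟨i, rfl⟩ := mem_zpowers_iff.1 hz
    have h2 : u ^ (2 : ℤ) = 1 := by rw [zpow_two, H.sq u huV]
    rcases Int.even_or_odd i with ⟨j, rfl⟩ | ⟨j, rfl⟩
    · left; rw [← two_mul, zpow_mul, h2, one_zpow]
    · right; rw [zpow_add, zpow_mul, h2, one_zpow, one_mul, zpow_one]
  have huR : zpowers u ≤ R := zpowers_le.2 (hDR huD)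
  haveI : ((zpowers u).subgroupOf R).Normal := ⟨fun a ha b => by
    rw [mem_subgroupOf] at ha ⊢
    show (b : G) * a * (b : G)⁻¹ ∈ zpowers u
    rcases huz ha with e | e <;> rw [e]
    · simp
    · rw [(hRu b b.2).eq, mul_inv_cancel_right]; exact mem_zpowers u⟩
  set π := QuotientGroup.mk' ((zpowers u).subgroupOf R)
  have hπ : ∀ a : R, π a = 1 ↔ (a : G) ∈ zpowers u := fun a => (QuotientGroup.eq_one_iff a).trans mem_subgroupOf
  haveI : (D.subgroupOf R).Normal := (normal_subgroupOf_iff_le_normalizer hDR).2 inf_le_right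
  haveI : ((D.subgroupOf R).map π).Normal := Subgroup.Normal.map inferInstance π (QuotientGroup.mk'_surjective _)
  have hne : (D.subgroupOf R).map π ≠ ⊥ := fun e => by
    have hle : D ≤ zpowers u := fun d hd => (hπ ⟨d, hDR hd⟩).1 (mem_bot.1
      (e ▸ ⟨_, mem_subgroupOf.2 hd, rfl⟩ : π ⟨d, hDR hd⟩ ∈ (⊥ : Subgroup _)))
    have := Nat.le_of_dvd Nat.card_pos (card_dvd_of_le hle)
    rw [h8, H.card_zpowers_V huV hu1] at this
    omega
  obtain ⟨_, ⟨d₀, hd₀, rfl⟩, hzc, hzo⟩ := Cfsg.Lib.PGroups.exists_mem_center_of_normal_ne_bot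
    (hR2.to_quotient ((zpowers u).subgroupOf R)) hne
  let Z : Subgroup G :=
    { carrier := {d | d ∈ D ∧ ∀ r ∈ R, r * d * r⁻¹ * d⁻¹ ∈ zpowers u}
      one_mem' := ⟨D.one_mem, fun r _ => by simp⟩
      mul_mem' := fun {a b} ha hb => ⟨D.mul_mem ha.1 hb.1, fun r hr => by
        have h2 := hb.2 r hr
        have hc : Commute a (r * b * r⁻¹ * b⁻¹) := comm_of_sq hsq ha.1 (zpowers_le.2 huD h2)
        rw [show r * (a * b) * r⁻¹ * (a * b)⁻¹ = (r * a * r⁻¹ * a⁻¹) * (a * (r * b * r⁻¹ * b⁻¹) * a⁻¹) by group,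
          hc.eq, mul_inv_cancel_right]
        exact mul_mem (ha.2 r hr) h2⟩
      inv_mem' := fun {a} ha => by
        rw [Set.mem_setOf_eq, inv_eq_of_mul_eq_one_right (hsq a ha.1)]; exact ha }
  have hcomm : ∀ r ∈ R, ∀ d ∈ D, r * d * r⁻¹ * d⁻¹ ∈ zpowers u := by
    have hZD : Z ≤ D := fun a ha => ha.1
    have hZI : Inv x Z := fun a ha => by
      refine ⟨((mem_set_normalizer_iff.1 hxX) a).1 ha.1, fun r hr => ?_⟩
      have h1 := ha.2 _ (inv_back H hRI hr)
      rcases huz h1 with e | e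
      · rw [show r * (x * a * x⁻¹) * r⁻¹ * (x * a * x⁻¹)⁻¹ =
          x * (x⁻¹ * r * x * a * (x⁻¹ * r * x)⁻¹ * a⁻¹) * x⁻¹ by group, e]
        simp
      · rw [show r * (x * a * x⁻¹) * r⁻¹ * (x * a * x⁻¹)⁻¹ =
          x * (x⁻¹ * r * x * a * (x⁻¹ * r * x)⁻¹ * a⁻¹) * x⁻¹ by group, e, (H.comm u huV).symm.eq,
          mul_inv_cancel_right]
        exact mem_zpowers u
    have huZ : u ∈ Z := ⟨huD, fun r hr => by rw [(hRu r hr).eq]; simp⟩
    have hd₀Z : (d₀ : G) ∈ Z := ⟨mem_subgroupOf.1 hd₀, fun r hr => by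
      have h1 := mem_center_iff.1 hzc (π ⟨r, hr⟩)
      have h2 : π (⟨r, hr⟩ * d₀ * (⟨r, hr⟩ : R)⁻¹ * d₀⁻¹) = 1 := by
        rw [map_mul, map_mul, map_mul, map_inv, map_inv, h1]; group
      exact (hπ _).1 h2⟩
    have hd₀u : (d₀ : G) ∉ zpowers u := fun hm => by
      rw [(hπ d₀).2 hm, orderOf_one] at hzo; omega
    obtain ⟨j, hj⟩ := card_two_pow_four H (S.two.to_le hZD) hZI
    have hZV : Z ⊓ V = zpowers u := le_antisymm ((inf_le_inf_right V hZD).trans hinfV.le)
      (zpowers_le.2 ⟨huZ, huV⟩)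
    rw [hZV, H.card_zpowers_V huV hu1] at hj
    have hZd : Nat.card Z ∣ 8 := h8 ▸ card_dvd_of_le hZD
    have hZle := Nat.le_of_dvd (by norm_num) hZd
    have hZ2 : Nat.card Z ≠ 2 := fun e => hd₀u (by
      rw [Subgroup.eq_of_le_of_card_ge (zpowers_le.2 huZ) (by rw [e, H.card_zpowers_V huV hu1])]
      exact hd₀Z)
    have hZ8 : Z = D := Subgroup.eq_of_le_of_card_ge hZD (by
      rcases j with _ | _ | j
      · simp at hj; omega
      · omega
      · have : 4 ^ 2 ≤ 4 ^ (j + 1 + 1) := Nat.pow_le_pow_right (by norm_num) (by omega)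
        omega)
    exact fun r hr d hd => (hZ8.symm ▸ hd : d ∈ Z).2 r hr
  have T : NatData x V D R Q u :=
    ⟨⟨h8, hRc, hsq, hDR, huD, hu1, hcomm, S.self⟩, rfl, hQ2, C.inv, hxX, C.sub, huV, hinfV⟩
  have hQN : R ≠ Q → R ≠ Q ⊓ normalizer (R : Set G) := fun hne' e => by
    haveI : Group.IsNilpotent Q := hQ2.isNilpotent
    have hlt : R.subgroupOf Q < ⊤ := lt_top_iff_ne_top.2 fun e' =>
      hne' (le_antisymm inf_le_left (subgroupOf_eq_top.1 e'))
    obtain ⟨⟨n, hnQ⟩, hnn, hnR⟩ := SetLike.exists_of_lt (Group.normalizerCondition_of_isNilpotent _ hlt)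
    rw [mem_subgroupOf] at hnR
    refine hnR (e.symm ▸ (⟨hnQ, mem_set_normalizer_iff.2 fun a => ⟨fun ha => ?_, fun ha => ?_⟩⟩ :
      n ∈ Q ⊓ normalizer (R : Set G)))
    · exact mem_subgroupOf.1 (((mem_set_normalizer_iff.1 hnn) ⟨a, ha.1⟩).1 (mem_subgroupOf.2 ha))
    · have h1 : a ∈ Q := by
        have := Q.mul_mem (Q.mul_mem (Q.inv_mem hnQ) ha.1) hnQ
        rwa [show n⁻¹ * (n * a * n⁻¹) * n = a by group] at this
      exact mem_subgroupOf.1 (((mem_set_normalizer_iff.1 hnn) ⟨a, h1⟩).2 (mem_subgroupOf.2 ha))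
  have h7G : 7 ∣ Nat.card G := ((by norm_num : 7 ∣ 1344).trans hXc.symm.dvd).trans (card_subgroup_dvd_card X)
  have hrow := f.row h7G
  rcases H.card with h2 | h4
  · have hVu : zpowers u = V := Subgroup.eq_of_le_of_card_ge (zpowers_le.2 huV)
      (by rw [h2, H.card_zpowers_V huV hu1])
    have hQR : R = Q := by
      by_contra hne'
      exact T.no_free H (hQN hne') (inf_le_right.trans (hVu ▸ huR))
    have hc : cen u = 192 := by rw [cen, C.card, ← hQR, hRc]
    rw [h2] at hrow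
    rcases f.two_lists h2 huV hu1 with ⟨e, -, hcl, hck⟩ | ⟨e, hcl, z, hz, hzc', hck⟩
    · rw [e] at hrow
      rw [hc] at hcl hck
      exact absurd (localTwoStmt _ _ _ _ _ hrow (Or.inr ⟨rfl, Or.inr rfl⟩) (Or.inl ⟨rfl, hcl, hck⟩)).1 (by norm_num)
    · rw [e] at hrow
      rw [hc] at hcl hck
      exact absurd (localTwoStmt _ _ _ _ _ hrow (Or.inr ⟨rfl, Or.inl rfl⟩)
        (Or.inr ⟨rfl, hcl, z, hz, hzc', hck⟩)).1 (by norm_num)
  · obtain ⟨w, hw, n1, n2, n3, n4, n5, -⟩ := H.exists_others h4 huV hu1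
    have hout : ∀ v ∈ V, v ≠ 1 → v ≠ u → v ∉ X := fun v hv v1 vu hm => by
      have hvD : v ∈ zpowers u := hinfV.le (mem_inf.2 ⟨S.small ⟨hv, hXL ▸ hm⟩, hv⟩)
      rcases huz hvD with e | e
      · exact v1 e
      · exact vu e
    have hwX := hout w hw n1 n2
    have hwQ : w ∈ Q := C.le hw
    have hne' : R ≠ Q := fun e => hwX (e.symm ▸ hwQ : w ∈ R).2
    have hwN : w ∈ normalizer (R : Set G) := by
      by_contra hwN
      refine T.no_free H (hQN hne') fun v hv => ?_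
      by_contra hvR
      have hv1 : v ≠ 1 := fun e => hvR (e ▸ R.one_mem)
      have hvu : v ≠ u := fun e => hvR (e ▸ huR (mem_zpowers u))
      -- `v` is `w` or `u w`
      have hVle : V ≤ normalizer (R : Set G) := H.V_le_of h4 huV hu1 hv.2
        (fun hm => (huz hm).elim hv1 hvu) (le_normalizer (huR (mem_zpowers u))) hv.1.2
      exact hwN (hVle hw)
    have hQc := T.card_core H hw hwQ hwN hwX
    have hc : cen u = 384 := by rw [cen, C.card, hQc]
    rw [h4, f.k_eq_one_of_four h4] at hrow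
    have hlists := f.four_lists h4 huV hw (V.mul_mem huV hw) hu1 n1 n3 (Ne.symm n2) (Ne.symm n4) (Ne.symm n5)
    have := (localFourStmt _ _ _ _ _ _ hrow hlists (Or.inr (Or.inr ⟨Or.inl hc,
      h4 ▸ f.solvU hct hw n1, h4 ▸ f.solvU hct (V.mul_mem huV hw) n3⟩))).1
    omega

end Cfsg.Lib.ThreeFour
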