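import Cfsg.Agent.ThreeFour.Local.Reduce

/-!
A maximal invariant two-group with nonsolvable normaliser: the setting and first facts.
-/

set_option autoImplicit false
set_option linter.unusedSectionVars false
set_option linter.style.haveILetI false

namespace Cfsg.Lib.ThreeFour

open Subgroup
open Cfsg.Lib.SelfCentThree (Inv P3)
open Cfsg.Lib.Coprime (conjMap mem_conjMap)

universe u

variable {G : Type u} [Group G] {x τ g : G} {V D L : Subgroup G}

/-- An element inverting `x` is an involution centralising `V`. -/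
theorem Tau.of_inverting (H : Hyp x V) (ht : Tau x V τ) (hg : g * x * g⁻¹ = x⁻¹) : Tau x V g := by
  obtain ⟨i, hi, v, hv, rfl⟩ := ht.mem_coset H hg
  obtain ⟨a, rfl⟩ := mem_zpowers_iff.1 hi
  have e1 : τ * x ^ a * τ⁻¹ = (x ^ a)⁻¹ := by rw [← conj_zpow, ht.conj, inv_zpow]
  have hva : Commute v (x ^ a) := (H.comm v hv).zpow_right a
  refine ⟨?_, hg, fun u hu => ?_⟩
  · rw [ht.inv_eq] at e1
    calc τ * (x ^ a * v) * (τ * (x ^ a * v)) = τ * x ^ a * (v * τ) * (x ^ a * v) := by group
      _ = τ * x ^ a * τ * (v * x ^ a) * v := by rw [(ht.fix v hv).symm.eq]; group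
      _ = τ * x ^ a * τ * x ^ a * (v * v) := by rw [hva.eq]; group
      _ = 1 := by rw [e1, inv_mul_cancel, one_mul, H.sq v hv]
  · exact (ht.fix u hu).mul_left ((((H.comm u hu).zpow_right a).symm).mul_left (H.comm_V hv hu))

variable [Finite G]

/-- The orbit of an element under conjugation. -/
theorem ncard_conjOrb (A : Subgroup G) (a : G) :
    {k | ∃ g ∈ A, g * a * g⁻¹ = k}.ncard * Nat.card (A ⊓ centralizer ({a} : Set G) : Subgroup G) = Nat.card A := by
  letI : MulAction A G := MulAction.compHom G ((MulAut.conj : G →* MulAut G).comp A.subtype)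
  have hst : MulAction.stabilizer A a = (A ⊓ centralizer ({a} : Set G)).subgroupOf A := by
    ext g
    rw [MulAction.mem_stabilizer_iff, mem_subgroupOf]
    show (g : G) * a * (g : G)⁻¹ = a ↔ (g : G) ∈ A ⊓ centralizer ({a} : Set G)
    rw [mul_inv_eq_iff_eq_mul]
    exact ⟨fun e => ⟨g.2, mem_centralizer_singleton_iff.2 e⟩, fun e => mem_centralizer_singleton_iff.1 e.2⟩
  have horb : MulAction.orbit A a = {k | ∃ g ∈ A, g * a * g⁻¹ = k} := by
    ext k
    exact ⟨fun ⟨g, hg⟩ => ⟨g, g.2, hg⟩, fun ⟨g, hg, e⟩ => ⟨⟨g, hg⟩, e⟩⟩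
  rw [← horb, ← MulAction.index_stabilizer, hst, ← Nat.card_congr (subgroupOfEquivOfLe
    (inf_le_left : A ⊓ centralizer ({a} : Set G) ≤ A)).toEquiv, mul_comm, card_mul_index]

theorem le_normalizer_bot_subgroup (A : Subgroup G) : A ≤ normalizer ((⊥ : Subgroup G) : Set G) := fun _ _ =>
  mem_set_normalizer_iff.2 fun a => by simp [mem_bot]

theorem P3.of_two {R : Subgroup G} (hR : IsPGroup 2 R) : P3 R := fun h3 => by
  obtain ⟨n, hn⟩ := IsPGroup.iff_card.1 hR
  rw [hn] at h3
  have := Nat.prime_three.dvd_of_dvd_pow h3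
  omega

/-- A two-group `D` with self-centralising and nonsolvable normaliser whose top has order 168. -/
structure SevenLocal (x : G) (V D L : Subgroup G) : Prop where
  top : Top x V (normalizer (D : Set G)) D L
  two : IsPGroup 2 D
  ne : D ≠ ⊥
  self : centralizer (D : Set G) ≤ D
  i168 : Nat.card L = 168 * Nat.card D
  small : V ⊓ L ≤ D

variable {F s k : ℕ} {h : G → ℤ}

/-- A two-group inside `V` of order two cannot be normal in a nonsolvable subgroup. -/
theorem Full.false_of_fixed (f : Full x V τ F h s k) {H : Subgroup G} (hns : ¬ Group.IsSolvable H) {z : G}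
    (hz : z ∈ V) (hz1 : z ≠ 1) (hH : H ≤ centralizer ({z} : Set G)) : False :=
  hns (Cfsg.Lib.Coprime.isSolvable_of_le hH (f.central hz hz1))

theorem Full.false_of_two (f : Full x V τ F h s k) {H R : Subgroup G} (hns : ¬ Group.IsSolvable H)
    (hR : Nat.card R = 2) (hRV : R ⊓ V ≠ ⊥) (hRn : H ≤ normalizer (R : Set G)) : False := by
  obtain ⟨z, hz, hz1⟩ := SetLike.not_le_iff_exists.1 fun hle : R ⊓ V ≤ ⊥ => hRV (le_bot_iff.1 hle)
  rw [mem_bot] at hz1
  refine f.false_of_fixed hns hz.2 hz1 fun g hg => mem_centralizer_singleton_iff.2 ?_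
  have h1 : g * z * g⁻¹ ∈ R := ((mem_set_normalizer_iff.1 (hRn hg)) z).1 hz.1
  have hzR : zpowers z = R := Subgroup.eq_of_le_of_card_ge (zpowers_le.2 hz.1)
    (by rw [hR, f.setting.hyp.card_zpowers_V hz.2 hz1])
  have h2 : g * z * g⁻¹ ∈ V := zpowers_le.2 hz.2 (hzR.symm ▸ h1)
  have h3 := f.setting.hyp.eq_of_isConj f.toCtx.tau hz.2 h2 (isConj_iff.2 ⟨g, rfl⟩)
  exact mul_inv_eq_iff_eq_mul.1 h3.symm

/-- The setting arises from a nonsolvable normaliser of an invariant two-group. -/
theorem Full.exists_sevenLocal (f : Full x V τ F h s k) (hct : Cfsg.IsCharacteristicTwoType G) {D₀ : Subgroup G}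
    (h2 : IsPGroup 2 D₀) (hne : D₀ ≠ ⊥) (hI : Inv x D₀) (hns : ¬ Group.IsSolvable (normalizer (D₀ : Set G))) :
    ∃ D L : Subgroup G, SevenLocal x V D L := by
  classical
  have H := f.setting.hyp
  haveI := f.setting.simple
  haveI : Fact (Nat.Prime 2) := ⟨Nat.prime_two⟩
  set S := {D : Subgroup G | IsPGroup 2 D ∧ D ≠ ⊥ ∧ Inv x D ∧ ¬ Group.IsSolvable (normalizer (D : Set G))}
  obtain ⟨D, ⟨hD2, hD1, hDI, hDns⟩, hmax⟩ := (Set.toFinite S).exists_maximal ⟨D₀, h2, hne, hI, hns⟩
  set X := normalizer (D : Set G) with hX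
  have hxX : x ∈ X := inv_mem_normalizer H hDI
  have hlt : Nat.card X < Nat.card G := by
    refine lt_of_le_of_ne (Nat.le_of_dvd Nat.card_pos (card_subgroup_dvd_card _)) fun e => ?_
    have hn : D.Normal := normalizer_eq_top_iff.1 (Subgroup.eq_top_of_card_eq _ e)
    rcases hn.eq_bot_or_eq_top with e' | e'
    · exact hD1 e'
    · exact P3.of_two hD2 (by rw [e', Subgroup.card_top]; exact H.three_dvd)
  obtain ⟨K, L, T⟩ := exists_top H f.setting.five f.toCtx.small hlt hxX hDns
  have hxD : x ∉ D := fun hm => P3.of_two hD2 (H.ord ▸ Subgroup.orderOf_dvd_natCard D hm)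
  have hDK : D ≤ K := T.core D le_normalizer le_rfl hxD
  have hKI : Inv x K := SelfCentThree.inv_of_mem_normalizer T.mem_normK
  obtain ⟨g, hgL, hg⟩ := T.inverter
  have hσ := f.toCtx.tau.of_inverting H hg
  have hK2 : IsPGroup 2 K := core_isPGroup_two H f.setting.five hσ T.three hKI (T.normK (T.leL hgL))
    fun R hR hRn hodd => odd_trivial_of_charTwo hct hD2 hD1 (hR.trans T.leH) (T.normK.trans hRn) hodd
  have hKD : K = D := by
    refine le_antisymm (hmax ⟨hK2, fun e => hD1 (le_bot_iff.1 (e ▸ hDK)), hKI, fun hs => hDns ?_⟩ hDK) hDK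
    exact Cfsg.Lib.Coprime.isSolvable_of_le T.normK hs
  subst hKD
  have hpc : (Cfsg.pCore 2 X).map X.subtype ≤ K := by
    haveI : (Cfsg.pCore 2 X).Normal := (Cfsg.Lib.Components.pCore_normal_and_isPGroup 2).1
    refine T.core _ (map_subtype_le _) le_normalizer_map_subtype fun hm => ?_
    exact P3.of_two ((Cfsg.Lib.Components.isPGroup_pCore (G := X) 2).map _)
      (H.ord ▸ Subgroup.orderOf_dvd_natCard _ hm)
  have hself : centralizer (K : Set G) ≤ K := by
    intro c hc
    have hcX : c ∈ X := centralizer_le_normalizer _ hc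
    have h1 : (⟨c, hcX⟩ : X) ∈ Cfsg.pCore 2 X := (hct.2 K hK2 hD1) (mem_centralizer_iff.2 fun b hb =>
      Subtype.ext ((mem_centralizer_iff.1 hc) b (hpc ⟨b, hb, rfl⟩)))
    exact hpc ⟨_, h1, rfl⟩
  rcases T.index with ⟨e, e'⟩ | ⟨e, e'⟩
  · exact ⟨K, L, T, hK2, hD1, hself, e, e'⟩
  exfalso
  obtain ⟨w, hw, hwK⟩ := SetLike.not_le_iff_exists.1 e'
  have hVK : ¬ V ≤ K := fun hle => hwK (hle hw.1)
  have hn2 : Nat.card (K ⊓ V : Subgroup G) ≤ 2 := by
    have hd := card_dvd_of_le (inf_le_right : K ⊓ V ≤ V)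
    have hne4 : Nat.card (K ⊓ V : Subgroup G) ≠ Nat.card V := fun e4 => hVK
      ((Subgroup.eq_of_le_of_card_ge inf_le_right e4.ge).symm.le.trans inf_le_left)
    have := Nat.le_of_dvd Nat.card_pos hd
    rcases H.card with e4 | e4 <;> rw [e4] at hd hne4 this
    · omega
    · by_contra hgt
      have h3 : Nat.card (K ⊓ V : Subgroup G) = 3 := by omega
      rw [h3] at hd
      norm_num at hd
  obtain ⟨D₁, hD₁, hs⟩ := exists_step (le_normalizer_bot_subgroup X) T.normK (bot_le : ⊥ ≤ K) hD1.symm T.leH hK2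
  have hbot : Nat.card ((⊥ : Subgroup G) ⊓ V : Subgroup G) = 1 := by rw [bot_inf_eq, card_bot]
  have hmono : ∀ E : Subgroup G, E ≤ K → Nat.card (E ⊓ V : Subgroup G) ≤ 2 := fun E hE =>
    (Nat.le_of_dvd Nat.card_pos (card_dvd_of_le (inf_le_inf_right V hE))).trans hn2
  obtain ⟨hD₁V, hcase⟩ := hs.cases H f.setting.five T (by rw [hbot]; exact hmono D₁ hD₁)
  rw [hbot, mul_one] at hD₁V
  rw [card_bot] at hcase
  have hKc := Nat.card_pos (α := K)
  have hD₁c : Nat.card D₁ = 2 := by
    rcases hcase with e2 | ⟨-, e2, -⟩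
    · simpa using e2
    · omega
  have hEq : D₁ = K := by
    by_contra hne'
    obtain ⟨D₂, hD₂, hs₂⟩ := exists_step hs.norm₁ T.normK hD₁ hne' T.leH hK2
    have := hmono D₂ hD₂
    have := (hs₂.cases H f.setting.five T (by omega)).1
    omega
  subst hEq
  exact f.false_of_two hDns hD₁c (fun e2 => by rw [e2, card_bot] at hD₁V; omega) le_rfl

section local_

variable {u : G} {Q : Subgroup G}

theorem SevenLocal.ns (S : SevenLocal x V D L) (H : Hyp x V) : ¬ Group.IsSolvable (normalizer (D : Set G)) := by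
  intro hs
  haveI := S.top.normal_subgroupOf
  haveI := S.top.isSimple_quot H
  haveI : Group.IsSolvable L := Cfsg.Lib.Coprime.isSolvable_of_le S.top.leL hs
  haveI : Group.IsSolvable (L ⧸ D.subgroupOf L) := inferInstance
  have hq : Nat.card (L ⧸ D.subgroupOf L) = 168 := by
    have h1 := Subgroup.card_eq_card_quotient_mul_card_subgroup (D.subgroupOf L)
    rw [Nat.card_congr (subgroupOfEquivOfLe S.top.leK).toEquiv, S.i168] at h1
    exact (Nat.eq_of_mul_eq_mul_right Nat.card_pos h1).symm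
  have h1 := (IsSimpleGroup.comm_iff_isSolvable (G := L ⧸ D.subgroupOf L)).2 inferInstance
  letI : CommGroup (L ⧸ D.subgroupOf L) := { (inferInstance : Group (L ⧸ D.subgroupOf L)) with mul_comm := h1 }
  have := IsSimpleGroup.prime_card (α := L ⧸ D.subgroupOf L)
  rw [hq] at this
  norm_num at this

/-- When the elements of `V` normalising `D` lie in `D` there is nothing above `L`. -/
theorem SevenLocal.normalizer_eq (S : SevenLocal x V D L) (hV : V ⊓ normalizer (D : Set G) ≤ D) :
    normalizer (D : Set G) = L :=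
  le_antisymm (fun y hy => by
    obtain ⟨l, hl, v, hv, rfl⟩ := S.top.cover y hy
    exact L.mul_mem hl (S.top.leK (hV hv))) S.top.leL

/-- The core of `C(u)` meets the normaliser in a subgroup of index six in the centraliser. -/
theorem SevenLocal.cent (S : SevenLocal x V D L) (H : Hyp x V) (ht : Tau x V τ) (C : Core x V τ u Q)
    (hQ2 : IsPGroup 2 Q) (huD : u ∈ D) (hDu : ∀ d ∈ D, Commute d u) :
    D ≤ Q ⊓ normalizer (D : Set G) ∧
      Nat.card (normalizer (D : Set G) ⊓ centralizer ({u} : Set G) : Subgroup G) =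
        6 * Nat.card (Q ⊓ normalizer (D : Set G) : Subgroup G) := by
  set X := normalizer (D : Set G) with hX
  set Y := centralizer ({u} : Set G) with hY
  have hxX : x ∈ X := S.top.leL S.top.mem
  have hDY : D ≤ Y := fun d hd => mem_centralizer_singleton_iff.2 (hDu d hd).eq
  have hDQ : D ≤ Q := C.max D hDY (SelfCentThree.inv_of_mem_normalizer hxX) (P3.of_two S.two)
  refine ⟨le_inf hDQ le_normalizer, ?_⟩
  obtain ⟨g, hgL, hg⟩ := S.top.inverter
  have hσ := ht.of_inverting H hg
  have hgX : g ∈ X := S.top.leL hgL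
  have hgY : g ∈ Y := mem_centralizer_singleton_iff.2 (hσ.fix u C.mem).eq
  have hxY : x ∈ Y := mem_centralizer_singleton_iff.2 (H.comm u C.mem).symm.eq
  set A := X ⊓ Y with hA
  have hAn : A ≤ normalizer (Q : Set G) := inf_le_right.trans C.norm
  have hsup : Q ⊔ A = Y := by
    refine Subgroup.eq_of_le_of_card_ge (sup_le C.sub inf_le_right) ?_
    set M := Q ⊔ A with hM
    have hMY : M ≤ Y := sup_le C.sub inf_le_right
    have hMQ : Nat.card M = Nat.card Q * (Q.subgroupOf M).index := by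
      rw [← Nat.card_congr (subgroupOfEquivOfLe (le_sup_left : Q ≤ M)).toEquiv]
      exact (Q.subgroupOf M).card_mul_index.symm
    haveI : (Q.subgroupOf M).Normal := (normal_subgroupOf_iff_le_normalizer le_sup_left).2 (hMY.trans C.norm)
    set i := (Q.subgroupOf M).index with hi
    have h3 : 3 ∣ i := by
      have h3 : 3 ∣ Nat.card Q * i := hMQ ▸ H.ord ▸
        Subgroup.orderOf_dvd_natCard M (mem_sup_right (⟨hxX, hxY⟩ : x ∈ A))
      exact (Nat.Prime.dvd_mul Nat.prime_three).1 h3 |>.resolve_left C.three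
    have hi6 : i ∣ 6 := by
      have h1 := card_dvd_of_le hMY
      rw [hMQ, C.card, mul_comm 6] at h1
      exact Nat.dvd_of_mul_dvd_mul_left Nat.card_pos h1
    have hi3 : i ≠ 3 := fun e => by
      have h1 := Subgroup.pow_index_mem (Q.subgroupOf M) ⟨g, mem_sup_right (⟨hgX, hgY⟩ : g ∈ A)⟩
      rw [← hi, e, mem_subgroupOf] at h1
      have hgQ : g ∈ Q := by
        have e3 : ((⟨g, mem_sup_right (⟨hgX, hgY⟩ : g ∈ A)⟩ : M) ^ 3 : G) = g := by
          show g ^ 3 = g
          rw [pow_succ, pow_two, hσ.sq, one_mul]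
        exact e3 ▸ h1
      have h2 : x * g * x⁻¹ * g⁻¹ ∈ Q := Q.mul_mem (C.inv g hgQ) (Q.inv_mem hgQ)
      rw [show x * g * x⁻¹ * g⁻¹ = x * (g * x⁻¹ * g⁻¹) by group, hσ.conj_inv_x, H.mul_self, inv_mem_iff] at h2
      exact C.three (H.ord ▸ Subgroup.orderOf_dvd_natCard Q h2)
    have : i = 6 := by
      have := Nat.le_of_dvd (by norm_num) hi6
      have := Nat.pos_of_ne_zero (fun e : i = 0 => by rw [e] at hi6; norm_num at hi6)
      interval_cases i <;> omega
    rw [hMQ, this, C.card, mul_comm]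
  have h1 := Cfsg.Lib.Coprime.card_sup_mul_card_inf (N := Q) (H := A) hAn
  rw [hsup, C.card, show Q ⊓ A = Q ⊓ X by
    rw [hA, ← inf_assoc, inf_eq_left.2 (inf_le_left.trans C.sub)]] at h1
  exact Nat.eq_of_mul_eq_mul_left Nat.card_pos (by rw [← h1]; ring)

/-- Seven does not divide the centraliser, so it divides the orbit. -/
theorem SevenLocal.orbit (S : SevenLocal x V D L) (H : Hyp x V) (ht : Tau x V τ) (C : Core x V τ u Q)
    (hQ2 : IsPGroup 2 Q) (huD : u ∈ D) (hDu : ∀ d ∈ D, Commute d u) :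
    7 ∣ {k | ∃ g ∈ normalizer (D : Set G), g * u * g⁻¹ = k}.ncard ∧
      Nat.card (normalizer (D : Set G)) = {k | ∃ g ∈ normalizer (D : Set G), g * u * g⁻¹ = k}.ncard *
        (6 * Nat.card (Q ⊓ normalizer (D : Set G) : Subgroup G)) := by
  have h1 := ncard_conjOrb (normalizer (D : Set G)) u
  rw [(S.cent H ht C hQ2 huD hDu).2] at h1
  refine ⟨?_, h1.symm⟩
  have h7 : 7 ∣ Nat.card (normalizer (D : Set G)) :=
    (show 7 ∣ Nat.card L by rw [S.i168]; exact Dvd.dvd.mul_right (by norm_num) _).trans (card_dvd_of_le S.top.leL)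
  rw [← h1] at h7
  refine ((show Nat.Prime 7 by norm_num).dvd_mul.1 h7).resolve_right fun e => ?_
  obtain ⟨n, hn⟩ := IsPGroup.iff_card.1 (hQ2.to_le (inf_le_left : Q ⊓ normalizer (D : Set G) ≤ Q))
  rw [hn] at e
  rcases (show Nat.Prime 7 by norm_num).dvd_mul.1 e with e | e
  · norm_num at e
  · have := Nat.le_of_dvd (by norm_num) ((show Nat.Prime 7 by norm_num).dvd_of_dvd_pow e)
    omega

theorem Core.not_seven (C : Core x V τ u Q) (hQ2 : IsPGroup 2 Q) : ¬ 7 ∣ cen u := fun e => by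
  rw [cen, C.card] at e
  obtain ⟨n, hn⟩ := IsPGroup.iff_card.1 hQ2
  rw [hn] at e
  rcases (show Nat.Prime 7 by norm_num).dvd_mul.1 e with e | e
  · norm_num at e
  · have := Nat.le_of_dvd (by norm_num) ((show Nat.Prime 7 by norm_num).dvd_of_dvd_pow e)
    omega

end local_

/-- The centraliser of an inverting involution in an invariant subgroup is small. -/
theorem Tau.card_cent_sq_le (H : Hyp x V) (ht : Tau x V τ) (hI : Inv x D) (hD3 : P3 D) :
    Nat.card (D ⊓ centralizer ({τ} : Set G) : Subgroup G) ^ 2 ≤ Nat.card (D ⊓ V : Subgroup G) * Nat.card D := by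
  classical
  set A := D ⊓ centralizer ({τ} : Set G) with hA
  set B := conjMap x A with hB
  have hBD : B ≤ D := fun b hb => by
    obtain ⟨a, ha, rfl⟩ := hb
    simpa using hI a ha.1
  have hAB : A ⊓ B ≤ D ⊓ V := by
    rintro a ⟨ha, hb⟩
    refine ⟨ha.1, mem_V_of_fixed H hD3 ha.1 ?_⟩
    have h1 : a * τ = τ * a := mem_centralizer_singleton_iff.1 ha.2
    have h2 : x⁻¹ * a * x * τ = τ * (x⁻¹ * a * x) := mem_centralizer_singleton_iff.1 (mem_conjMap.1 hb).2
    have h3 : Commute a (x * τ * x⁻¹) := by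
      show a * (x * τ * x⁻¹) = x * τ * x⁻¹ * a
      calc a * (x * τ * x⁻¹) = x * (x⁻¹ * a * x * τ) * x⁻¹ := by group
        _ = x * τ * x⁻¹ * a := by rw [h2]; group
    have e2 : x * τ * x⁻¹ * τ = x⁻¹ := by
      calc x * τ * x⁻¹ * τ = x * (τ * x⁻¹ * τ⁻¹) * (τ * τ) := by group
        _ = x⁻¹ := by rw [ht.conj_inv_x, ht.sq, mul_one, H.mul_self]
    have h4 := h3.mul_right (show Commute a τ from h1)
    rw [e2] at h4
    exact inv_inv x ▸ h4.inv_right
  have h1 : Nat.card A = Nat.card (A ⊓ B : Subgroup G) * B.relIndex A := by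
    have := relIndex_mul_relIndex (⊥ : Subgroup G) (A ⊓ B) A bot_le inf_le_left
    rw [relIndex_bot_left, relIndex_bot_left, inf_comm A B, inf_relIndex_right] at this
    rw [inf_comm A B]
    exact this.symm
  have h2 : Nat.card D = Nat.card B * B.relIndex D := by
    have := relIndex_mul_relIndex (⊥ : Subgroup G) B D bot_le hBD
    rw [relIndex_bot_left, relIndex_bot_left] at this
    exact this.symm
  have h3 : B.relIndex A ≤ B.relIndex D := relIndex_le_of_le_right inf_le_left fun e => by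
    rw [e, mul_zero] at h2
    exact (Nat.card_pos (α := D)).ne' h2
  have hBc : Nat.card B = Nat.card A := by rw [hB, Cfsg.Lib.Coprime.card_conjMap]
  rw [hBc] at h2
  calc Nat.card A ^ 2 = Nat.card (A ⊓ B : Subgroup G) * (Nat.card A * B.relIndex A) := by
        rw [pow_two]; nth_rewrite 1 [h1]; ring
    _ ≤ Nat.card (D ⊓ V : Subgroup G) * (Nat.card A * B.relIndex D) :=
        Nat.mul_le_mul (Nat.le_of_dvd Nat.card_pos (card_dvd_of_le hAB)) (Nat.mul_le_mul_left _ h3)
    _ = _ := by rw [h2]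

end Cfsg.Lib.ThreeFour
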