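import Cfsg.Agent.ThreeFour.Basic
import Cfsg.Agent.SelfCentThree.Arith
import Cfsg.Agent.Coprime.Hall
import Cfsg.Agent.Components.PComponents

/-!
The simple normal subgroup of a nonsolvable group without a normal subgroup of order prime to three, in
which an element `y` of order three has centraliser `⟨y⟩ × W` with `W` of exponent two and order at most four.
-/

set_option autoImplicit false
set_option linter.unusedSectionVars false
set_option linter.style.haveILetI false

namespace Cfsg.Lib.ThreeFour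

open Subgroup
open Cfsg.Lib.SelfCentThree (Concl)

universe u

/-- The result for all groups of order less than `n`. -/
def Small (n : ℕ) : Prop :=
  ∀ (G' : Type u) [Group G'] [Finite G'] (x' : G') (V' : Subgroup G'), Setting x' V' → Nat.card G' < n →
    Nat.card V' = 2 ∧ Nat.card G' = 1092

variable {Q : Type u} [Group Q] [Finite Q] {y : Q}

/-- A normal subgroup whose order is a multiple of three contains every element of order three. -/
theorem mem_of_three_dvd (h9 : ¬ 9 ∣ Nat.card Q) {M : Subgroup Q} [M.Normal] (h3 : 3 ∣ Nat.card M)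
    (hy : orderOf y = 3) : y ∈ M := by
  by_contra hm
  have hle : zpowers y ⊓ M ≤ zpowers y := inf_le_left
  have hd := Subgroup.card_dvd_of_le hle
  rw [Nat.card_zpowers, hy] at hd
  rcases (Nat.dvd_prime Nat.prime_three).1 hd with e | e
  · have h1 := Cfsg.Lib.Coprime.card_sup_mul_card_inf (N := M) (H := zpowers y)
      (by rw [normalizer_eq_top]; exact le_top)
    rw [inf_comm M (zpowers y), e, mul_one, Nat.card_zpowers, hy] at h1
    exact h9 ((h1 ▸ Nat.mul_dvd_mul_right h3 3).trans (card_subgroup_dvd_card _))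
  · have heq := Subgroup.eq_of_le_of_card_ge hle (by rw [Nat.card_zpowers, hy, e])
    exact hm (le_of_eq heq.symm (mem_zpowers y)).2

/-- In a simple group of order divisible by three but not nine some element inverts one of order three. -/
theorem exists_inverting [IsSimpleGroup Q] (h9 : ¬ 9 ∣ Nat.card Q) (hy : orderOf y = 3)
    (hne : Nat.card Q ≠ 3) : ∃ g : Q, g * y * g⁻¹ = y⁻¹ := by
  by_contra hno
  push Not at hno
  haveI : Fact (Nat.Prime 3) := ⟨Nat.prime_three⟩
  have hP : IsPGroup 3 (zpowers y) := IsPGroup.of_card (n := 1) (by rw [Nat.card_zpowers, hy, pow_one])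
  obtain ⟨P, hP⟩ := hP.exists_le_sylow
  obtain ⟨k, hk⟩ := IsPGroup.iff_card.1 P.2
  have hc : Nat.card P = 3 := by
    have h1 : 3 ∣ Nat.card P := by
      have := card_dvd_of_le hP
      rwa [Nat.card_zpowers, hy] at this
    have h2 : k < 2 := by
      by_contra hk2
      exact h9 ((pow_dvd_pow 3 (not_lt.1 hk2)).trans (hk ▸ card_subgroup_dvd_card _))
    interval_cases k
    · rw [show Nat.card P = Nat.card (P : Subgroup Q) from rfl, hk] at h1; simp at h1
    · simpa using hk
  have he : (P : Subgroup Q) = zpowers y :=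
    (Subgroup.eq_of_le_of_card_ge hP (by rw [Nat.card_zpowers, hy]; exact le_of_eq hc)).symm
  have hN : normalizer ((P : Subgroup Q) : Set Q) ≤ centralizer ((P : Subgroup Q) : Set Q) := by
    intro g hg
    rw [he] at hg ⊢
    have hcg : g * y * g⁻¹ = y := by
      obtain ⟨j, hj⟩ := mem_zpowers_iff.1 (((mem_set_normalizer_iff.1 hg) y).1 (mem_zpowers y))
      have h3 : y ^ (3 : ℤ) = 1 := by exact_mod_cast hy ▸ pow_orderOf_eq_one y
      have e : y ^ j = y ^ (j % 3) := by
        conv_lhs => rw [← Int.emod_add_mul_ediv j 3, zpow_add, zpow_mul, h3, one_zpow, mul_one]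
      rcases (by omega : j % 3 = 0 ∨ j % 3 = 1 ∨ j % 3 = 2) with e' | e' | e' <;> rw [e, e'] at hj
      · rw [zpow_zero, eq_comm, conj_eq_one_iff] at hj
        exact absurd hy (by rw [hj, orderOf_one]; norm_num)
      · exact hj.symm.trans (zpow_one y)
      · exfalso
        apply hno g
        rw [← hj, eq_inv_iff_mul_eq_one, ← zpow_add_one]
        exact h3
    refine mem_centralizer_iff.2 fun b hb => ?_
    obtain ⟨i, rfl⟩ := mem_zpowers_iff.1 hb
    exact ((show Commute g y from mul_inv_eq_iff_eq_mul.1 hcg).zpow_right i).symm.eq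
  have hc' := MonoidHom.ker_transferSylow_isComplement' P hN
  have h1 := hc'.card_mul
  rw [show Nat.card (P : Subgroup Q) = 3 from hc] at h1
  rcases (inferInstance : (MonoidHom.transferSylow P _).ker.Normal).eq_bot_or_eq_top with e | e
  · rw [e, card_bot, one_mul] at h1; exact hne h1.symm
  · rw [e, card_top] at h1; have := Nat.card_pos (α := Q); omega

/-- The simple normal subgroup. -/
theorem exists_simple_top {n : ℕ} (IH : Small.{u} n) (hn : Nat.card Q < n) {W : Subgroup Q}
    (hy : orderOf y = 3) (h9 : ¬ 9 ∣ Nat.card Q) (h5 : ¬ 5 ∣ Nat.card Q)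
    (hO : ∀ R : Subgroup Q, R.Normal → ¬ 3 ∣ Nat.card R → R = ⊥)
    (hcent : ∀ q, Commute q y → ∃ i ∈ zpowers y, ∃ w ∈ W, q = i * w)
    (hWy : ∀ w ∈ W, Commute w y) (hW2 : ∀ w ∈ W, w * w = 1) (hW4 : Nat.card W ∣ 4)
    (hns : ¬ Group.IsSolvable Q) :
    ∃ N : Subgroup Q, N.Normal ∧ IsSimpleGroup N ∧ y ∈ N ∧
      (Nat.card N = 168 ∧ W ⊓ N = ⊥ ∨ Nat.card N = 1092 ∧ Nat.card ↥(W ⊓ N) = 2) ∧
      (∃ g ∈ N, g * y * g⁻¹ = y⁻¹) ∧ N ⊔ W = ⊤ ∧
      ∀ R : Subgroup Q, R.Normal → R ≠ ⊥ → N ≤ R := by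
  have hne : (⊤ : Subgroup Q) ≠ ⊥ := fun e => hns (by
    haveI : Subsingleton Q := subsingleton_iff.1 (subsingleton_of_bot_eq_top e.symm)
    exact Group.isSolvable_of_comm fun a b => Subsingleton.elim _ _)
  obtain ⟨N, -, hNn, hNb, hmin⟩ := Cfsg.Lib.Coprime.exists_minimal_normal inferInstance hne
  haveI := hNn
  have hN3 : 3 ∣ Nat.card N := by
    by_contra h3
    exact hNb (hO N hNn h3)
  have hyN : y ∈ N := mem_of_three_dvd h9 hN3 hy
  have hd : Nat.card N ∣ Nat.card Q := card_subgroup_dvd_card N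
  have h9N : ¬ 9 ∣ Nat.card N := fun h => h9 (h.trans hd)
  have hyN3 : orderOf (⟨y, hyN⟩ : N) = 3 := by rwa [Subgroup.orderOf_mk]
  have hNs : IsSimpleGroup N := by
    haveI : Nontrivial N := ⟨⟨⟨y, hyN⟩, 1, fun e => by rw [e, orderOf_one] at hyN3; omega⟩⟩
    refine ⟨fun M hM => ?_⟩
    haveI := hM
    by_cases h3 : 3 ∣ Nat.card M
    · refine Or.inr (eq_top_iff.2 fun a _ => ?_)
      set S := closure {g : Q | g ∈ N ∧ orderOf g = 3} with hS
      have hSn : S.Normal := by
        refine ⟨fun g hg b => ?_⟩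
        induction hg using Subgroup.closure_induction with
        | mem g hg =>
          exact subset_closure ⟨hNn.conj_mem g hg.1 b, by
            rw [show b * g * b⁻¹ = MulAut.conj b g from rfl, MulEquiv.orderOf_eq]; exact hg.2⟩
        | one => simp
        | mul p q _ _ hp hq =>
          rw [show b * (p * q) * b⁻¹ = b * p * b⁻¹ * (b * q * b⁻¹) by group]; exact mul_mem hp hq
        | inv p _ hp => rw [← conj_inv]; exact inv_mem hp
      have hSN : S ≤ N := (closure_le N).2 fun g hg => hg.1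
      have hSM : S ≤ M.map N.subtype := (closure_le _).2 fun g hg =>
        ⟨⟨g, hg.1⟩, mem_of_three_dvd h9N h3 (by rw [Subgroup.orderOf_mk]; exact hg.2), rfl⟩
      rcases hmin S hSn hSN with e | e
      · exact absurd (e ▸ subset_closure (⟨hyN, hy⟩ : y ∈ N ∧ orderOf y = 3) : y ∈ (⊥ : Subgroup Q))
          (fun hb => by rw [mem_bot.1 hb, orderOf_one] at hy; omega)
      · obtain ⟨b, hb, hba⟩ := hSM (e.symm ▸ a.2 : (a : Q) ∈ S)
        rwa [← N.subtype_injective hba]
    · refine Or.inl ?_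
      have hc : (Nat.card M).Coprime 3 := (Nat.prime_three.coprime_iff_not_dvd.2 h3).symm
      have hle : M ≤ Cfsg.pPrimeCore 3 N := Cfsg.Lib.Components.le_pPrimeCore hc
      haveI : (Cfsg.pPrimeCore 3 N).Characteristic := Cfsg.Lib.Components.pPrimeCore_characteristic
      have h0 := hO ((Cfsg.pPrimeCore 3 N).map N.subtype) inferInstance (by
        rw [card_map_of_injective N.subtype_injective]
        exact (Nat.prime_three.coprime_iff_not_dvd.1 (Cfsg.Lib.Components.coprime_card_pPrimeCore 3).symm))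
      rw [Subgroup.map_eq_bot_iff_of_injective _ N.subtype_injective] at h0
      exact le_bot_iff.1 (h0 ▸ hle)
  haveI := hNs
  have hcentN : ∀ q : N, Commute q ⟨y, hyN⟩ → ∃ i ∈ zpowers (⟨y, hyN⟩ : N), ∃ w ∈ W.subgroupOf N, q = i * w := by
    intro q hq
    obtain ⟨i, hi, w, hw, e⟩ := hcent q (congrArg Subtype.val hq.eq)
    obtain ⟨j, rfl⟩ := mem_zpowers_iff.1 hi
    have hwN : w ∈ N := by
      rw [show w = (y ^ j)⁻¹ * (q : Q) by rw [e, inv_mul_cancel_left]]
      exact mul_mem (inv_mem (zpow_mem hyN j)) q.2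
    exact ⟨(⟨y, hyN⟩ : N) ^ j, zpow_mem (mem_zpowers _) j, ⟨w, hwN⟩, mem_subgroupOf.2 hw, Subtype.ext e⟩
  have hne3 : Nat.card N ≠ 3 := by
    intro hc
    apply hns
    have hNz : N = zpowers y := (Subgroup.eq_of_le_of_card_ge (zpowers_le.2 hyN)
      (by rw [Nat.card_zpowers, hy, hc])).symm
    haveI : IsCyclic N := isCyclic_of_prime_card hc
    set φ : Q →* MulAut N := MulAut.conjNormal
    haveI : Group.IsSolvable φ.ker := Group.isSolvable_of_comm fun a b => by
      have hcm : ∀ c : φ.ker, Commute (c : Q) y := fun c => by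
        have h1 : φ c ⟨y, hyN⟩ = ⟨y, hyN⟩ := by rw [MonoidHom.mem_ker.1 c.2]; rfl
        exact mul_inv_eq_iff_eq_mul.1 (by simpa [φ] using congrArg Subtype.val h1)
      obtain ⟨i, hi, w, hw, ea⟩ := hcent _ (hcm a)
      obtain ⟨j, hj, w', hw', eb⟩ := hcent _ (hcm b)
      obtain ⟨i, rfl⟩ := mem_zpowers_iff.1 hi
      obtain ⟨j, rfl⟩ := mem_zpowers_iff.1 hj
      have hww : Commute w w' := by
        have h1 := inv_eq_of_mul_eq_one_left (hW2 _ (mul_mem hw hw'))
        rw [mul_inv_rev, inv_eq_of_mul_eq_one_left (hW2 w hw), inv_eq_of_mul_eq_one_left (hW2 w' hw')] at h1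
        exact h1.symm
      refine Subtype.ext ?_
      rw [Subgroup.coe_mul, Subgroup.coe_mul, ea, eb]
      exact (((Commute.refl y).zpow_zpow i j).mul_right (((hWy w' hw').symm).zpow_left i)).mul_left
        (((hWy w hw).zpow_right j).mul_right hww)
    haveI : Group.IsSolvable (MulAut N) := Group.isSolvable_of_comm fun a b => by
      refine MulEquiv.ext fun z => ?_
      obtain ⟨g, hg⟩ := IsCyclic.exists_generator (α := N)
      obtain ⟨i, hi⟩ := mem_zpowers_iff.1 (hg (a g))
      obtain ⟨j, hj⟩ := mem_zpowers_iff.1 (hg (b g))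
      obtain ⟨l, rfl⟩ := mem_zpowers_iff.1 (hg z)
      simp only [MulAut.mul_apply, map_zpow, ← hi, ← hj, ← zpow_mul, mul_comm i j]
    exact Group.isSolvable_of_ker_le_range φ.ker.subtype φ (by simp)
  obtain ⟨g, hg⟩ := exists_inverting h9N hyN3 hne3
  refine ⟨N, hNn, hNs, hyN, ?_, ⟨g, g.2, congrArg Subtype.val hg⟩, ?_, ?_⟩
  · have hW1 : Nat.card ↥(W ⊓ N) = Nat.card ↥(W.subgroupOf N) := by
      rw [show W.subgroupOf N = (W ⊓ N).subgroupOf N by rw [inf_subgroupOf_right],
        Nat.card_congr (subgroupOfEquivOfLe (inf_le_right : W ⊓ N ≤ N)).toEquiv]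
    have hd4 : Nat.card ↥(W.subgroupOf N) ∣ 4 := hW1 ▸ (card_dvd_of_le inf_le_left).trans hW4
    have hset : Nat.card ↥(W.subgroupOf N) = 2 ∨ Nat.card ↥(W.subgroupOf N) = 4 →
        Nat.card ↥(W.subgroupOf N) = 2 ∧ Nat.card N = 1092 := fun hc =>
      IH N ⟨y, hyN⟩ (W.subgroupOf N)
        ⟨⟨hyN3, hcentN, fun w hw => Subtype.ext (hWy _ (mem_subgroupOf.1 hw)).eq,
          fun w hw => Subtype.ext (hW2 _ (mem_subgroupOf.1 hw)), hc⟩, hNs, fun h => h5 (h.trans hd)⟩
        (lt_of_le_of_lt (Nat.le_of_dvd Nat.card_pos hd) hn)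
    have : Nat.card ↥(W.subgroupOf N) ∈ ({1, 2, 4} : Finset ℕ) := by
      have := Nat.mem_divisors.2 ⟨hd4, by norm_num⟩
      rwa [show Nat.divisors 4 = {1, 2, 4} by decide] at this
    simp only [Finset.mem_insert, Finset.mem_singleton] at this
    rcases this with e | e | e
    · refine Or.inl ⟨?_, eq_bot_of_card_eq _ (hW1.trans e)⟩
      have hb := eq_bot_of_card_eq _ e
      have hh : Cfsg.Lib.SelfCentThree.Hyp (⟨y, hyN⟩ : N) := ⟨hyN3, fun q hq => by
        obtain ⟨i, hi, w, hw, rfl⟩ := hcentN q hq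
        rw [hb, mem_bot] at hw
        rwa [hw, mul_one]⟩
      obtain ⟨K, hKn, hK3, hi⟩ := Cfsg.Lib.SelfCentThree.concl hh
      have hKb : K = ⊥ := by
        refine hKn.eq_bot_or_eq_top.resolve_right fun e => hK3 ?_
        rw [e, card_top]; exact hN3
      rw [hKb, index_bot] at hi
      rcases hi with e | e | ⟨e | e, -⟩
      · exact absurd e hne3
      · exfalso
        haveI : Fact (Nat.Prime 3) := ⟨Nat.prime_three⟩
        have h1 : (zpowers (⟨y, hyN⟩ : N)).index = 2 := by
          have := (zpowers (⟨y, hyN⟩ : N)).card_mul_index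
          rw [Nat.card_zpowers, hyN3, e] at this
          omega
        rcases (normal_of_index_eq_two h1).eq_bot_or_eq_top with e1 | e1
        · rw [e1, index_bot] at h1; omega
        · rw [e1, index_top] at h1; omega
      · exact absurd (((by norm_num : 5 ∣ 60).trans (e ▸ hd))) h5
      · exact e
    · exact Or.inr ⟨(hset (Or.inl e)).2, hW1.trans e⟩
    · have := (hset (Or.inr e)).1; omega
  · refine eq_top_iff.2 fun q _ => ?_
    haveI : Fact (Nat.Prime 3) := ⟨Nat.prime_three⟩
    have hqy : orderOf (⟨q * y * q⁻¹, hNn.conj_mem y hyN q⟩ : N) = 3 := by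
      rw [Subgroup.orderOf_mk, show q * y * q⁻¹ = MulAut.conj q y from rfl, MulEquiv.orderOf_eq, hy]
    have hsyl : ∀ z : N, orderOf z = 3 → ∃ P : Sylow 3 N, (P : Subgroup N) = zpowers z := by
      intro z hz
      obtain ⟨P, hP⟩ := (IsPGroup.of_card (p := 3) (n := 1)
        (show Nat.card (zpowers z) = 3 ^ 1 by rw [Nat.card_zpowers, hz, pow_one])).exists_le_sylow
      refine ⟨P, (Subgroup.eq_of_le_of_card_ge hP ?_).symm⟩
      obtain ⟨k, hk⟩ := IsPGroup.iff_card.1 P.2
      rw [Nat.card_zpowers, hz, hk]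
      by_contra hgt
      have h2 : 2 ≤ k := by
        by_contra h2
        exact hgt ((Nat.pow_le_pow_right (by norm_num) (by omega : k ≤ 1)).trans (by norm_num))
      exact h9N ((pow_dvd_pow 3 h2).trans (hk ▸ card_subgroup_dvd_card _))
    obtain ⟨P, hP⟩ := hsyl _ hqy
    obtain ⟨P', hP'⟩ := hsyl _ hyN3
    obtain ⟨m, hm⟩ := MulAction.exists_smul_eq N P P'
    have h1 : m * ⟨q * y * q⁻¹, hNn.conj_mem y hyN q⟩ * m⁻¹ ∈ zpowers (⟨y, hyN⟩ : N) := by
      rw [← hP', ← hm, Sylow.coe_subgroup_smul]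
      exact ⟨_, hP.symm ▸ mem_zpowers _, rfl⟩
    have h2 : ((m : Q) * q) * y * ((m : Q) * q)⁻¹ = y ∨ ((m : Q) * q) * y * ((m : Q) * q)⁻¹ = y⁻¹ := by
      obtain ⟨j, hj⟩ := mem_zpowers_iff.1 h1
      have hj' := congrArg Subtype.val hj
      simp only [SubgroupClass.coe_zpow, Subgroup.coe_mul, Subgroup.coe_inv] at hj'
      rw [show (m : Q) * (q * y * q⁻¹) * (m : Q)⁻¹ = (m * q) * y * ((m : Q) * q)⁻¹ by group] at hj'
      rw [← hj']
      have h3 : y ^ (3 : ℤ) = 1 := by exact_mod_cast hy ▸ pow_orderOf_eq_one y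
      have e : y ^ j = y ^ (j % 3) := by
        conv_lhs => rw [← Int.emod_add_mul_ediv j 3, zpow_add, zpow_mul, h3, one_zpow, mul_one]
      rcases (by omega : j % 3 = 0 ∨ j % 3 = 1 ∨ j % 3 = 2) with e' | e' | e' <;> rw [e, e']
      · exfalso
        rw [e, e', zpow_zero, eq_comm, conj_eq_one_iff] at hj'
        rw [hj', orderOf_one] at hy; omega
      · exact Or.inl (zpow_one y)
      · exact Or.inr (eq_inv_iff_mul_eq_one.2 (by rw [← zpow_add_one]; exact h3))
    have key : ∀ r : Q, r * y * r⁻¹ = y → r ∈ N ⊔ W := fun r hr => by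
      obtain ⟨i, hi, w, hw, rfl⟩ := hcent r (mul_inv_eq_iff_eq_mul.1 hr)
      exact mul_mem (mem_sup_left (zpowers_le.2 hyN hi)) (mem_sup_right hw)
    rcases h2 with e | e
    · exact (mul_mem_cancel_left (mem_sup_left m.2)).1 (key _ e)
    · have := key ((g : Q) * ((m : Q) * q)) (by
        rw [show (g : Q) * (m * q) * y * ((g : Q) * (m * q))⁻¹ = (g : Q) * ((m * q) * y * ((m : Q) * q)⁻¹) * (g : Q)⁻¹ by
          group, e, ← conj_inv, show (g : Q) * y * (g : Q)⁻¹ = y⁻¹ from congrArg Subtype.val hg, inv_inv])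
      exact (mul_mem_cancel_left (mem_sup_left m.2)).1 ((mul_mem_cancel_left (mem_sup_left g.2)).1 this)
  · intro R hR hRb
    haveI := hR
    have hi : (R ⊓ N).Normal := inferInstance
    rcases hmin _ hi inf_le_right with e | e
    · exfalso
      apply hRb (hO R hR fun h3 => ?_)
      have hb : y ∈ R ⊓ N := ⟨mem_of_three_dvd h9 h3 hy, hyN⟩
      rw [e, mem_bot] at hb
      rw [hb, orderOf_one] at hy; omega
    · exact e ▸ inf_le_left

end Cfsg.Lib.ThreeFour
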