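import Cfsg.Agent.ThreeFour.Local.Counting
import Cfsg.Agent.ThreeFour.Arith.LocalDefs

/-!
Centralisers of elements of `V` of order 2688.
-/

set_option autoImplicit false
set_option linter.unusedSectionVars false
set_option linter.style.haveILetI false

namespace Cfsg.Lib.ThreeFour

open Subgroup
open Cfsg.Lib.SelfCentThree (Inv P3)
open scoped IsMulCommutative

universe u

variable {G : Type u} [Group G] [Finite G] {x τ : G} {V K : Subgroup G} {u : G}

theorem Hyp.exists_others (h : Hyp x V) (h4 : Nat.card V = 4) (hu : u ∈ V) (hu1 : u ≠ 1) :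
    ∃ u' ∈ V, u' ≠ 1 ∧ u' ≠ u ∧ u * u' ≠ 1 ∧ u * u' ≠ u ∧ u * u' ≠ u' ∧
      ∀ v ∈ V, v = 1 ∨ v = u ∨ v = u' ∨ v = u * u' := by
  have hle : zpowers u ≤ V := zpowers_le.2 hu
  obtain ⟨u', hu', hne⟩ : ∃ u' ∈ V, u' ∉ zpowers u := SetLike.not_le_iff_exists.1 fun hV => by
    have := Nat.le_of_dvd Nat.card_pos (card_dvd_of_le hV)
    rw [h.card_zpowers_V hu hu1, h4] at this
    omega
  have n1 : u' ≠ 1 := fun e => hne (e.symm ▸ one_mem _)
  have n2 : u' ≠ u := fun e => hne (e.symm ▸ mem_zpowers u)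
  have n3 : u * u' ≠ 1 := fun e => hne (by
    rw [eq_inv_of_mul_eq_one_right e]; exact inv_mem (mem_zpowers u))
  have n4 : u * u' ≠ u := fun e => n1 (mul_eq_left.1 e)
  have n5 : u * u' ≠ u' := fun e => hu1 (mul_eq_right.1 e)
  refine ⟨u', hu', n1, n2, n3, n4, n5, fun v hv => ?_⟩
  have heq : ({1, u, u', u * u'} : Set G) = V := Set.eq_of_subset_of_ncard_le (by
    rintro a (rfl | rfl | rfl | rfl)
    exacts [V.one_mem, hu, hu', V.mul_mem hu hu']) (by
    rw [Set.ncard_insert_of_notMem (by simp [Ne.symm hu1, Ne.symm n1, Ne.symm n3]) (Set.toFinite _),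
      Set.ncard_insert_of_notMem (by simp [Ne.symm n2, Ne.symm n4]) (Set.toFinite _),
      Set.ncard_insert_of_notMem (by simp [Ne.symm n5]) (Set.toFinite _), Set.ncard_singleton]
    exact le_of_eq ((Nat.card_coe_set_eq _).symm.trans h4)) (Set.toFinite _)
  simpa using (heq.symm ▸ hv : v ∈ ({1, u, u', u * u'} : Set G))

/-- The centraliser of `u` has order 2688 and core of order sixteen containing `V`. -/
structure TypeC (x : G) (V : Subgroup G) (u : G) (K : Subgroup G) : Prop where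
  mem : u ∈ V
  ne : u ≠ 1
  four : Nat.card V = 4
  top : Top x V (centralizer ({u} : Set G)) K (centralizer ({u} : Set G))
  index : Nat.card (centralizer ({u} : Set G)) = 168 * Nat.card K
  two : IsPGroup 2 K
  le : V ≤ K
  card : Nat.card K = 16
  step : Step (centralizer ({u} : Set G)) (zpowers u) K

/-- The conjugates of `a` under the centraliser of `u`. -/
def orb (u a : G) : Set G := {k | ∃ g ∈ centralizer ({u} : Set G), g * a * g⁻¹ = k}

theorem ncard_orb (u a : G) : (orb u a).ncard *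
    Nat.card (centralizer ({u} : Set G) ⊓ centralizer ({a} : Set G) : Subgroup G) =
      Nat.card (centralizer ({u} : Set G)) := by
  letI : MulAction (centralizer ({u} : Set G)) G :=
    MulAction.compHom G ((MulAut.conj : G →* MulAut G).comp (centralizer ({u} : Set G)).subtype)
  have hst : MulAction.stabilizer (centralizer ({u} : Set G)) a =
      (centralizer ({u} : Set G) ⊓ centralizer ({a} : Set G)).subgroupOf (centralizer ({u} : Set G)) := by
    ext g
    rw [MulAction.mem_stabilizer_iff, mem_subgroupOf]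
    show (g : G) * a * (g : G)⁻¹ = a ↔ (g : G) ∈ centralizer ({u} : Set G) ⊓ centralizer ({a} : Set G)
    rw [mul_inv_eq_iff_eq_mul]
    exact ⟨fun e => ⟨g.2, mem_centralizer_singleton_iff.2 e⟩, fun e => mem_centralizer_singleton_iff.1 e.2⟩
  have horb : MulAction.orbit (centralizer ({u} : Set G)) a = orb u a := by
    ext k
    exact ⟨fun ⟨g, hg⟩ => ⟨g, g.2, hg⟩, fun ⟨g, hg, e⟩ => ⟨⟨g, hg⟩, e⟩⟩
  rw [← horb, ← MulAction.index_stabilizer, hst, ← Nat.card_congr (subgroupOfEquivOfLe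
    (inf_le_left : centralizer ({u} : Set G) ⊓ centralizer ({a} : Set G) ≤ centralizer ({u} : Set G))).toEquiv,
    mul_comm, card_mul_index]

theorem TypeC.conj_u (C : TypeC x V u K) {g : G} (hg : g ∈ centralizer ({u} : Set G)) : g * u * g⁻¹ = u := by
  rw [mem_centralizer_singleton_iff.1 hg, mul_inv_cancel_right]

theorem TypeC.zpowers_iff (C : TypeC x V u K) (h : Hyp x V) {k : G} : k ∈ zpowers u ↔ k = 1 ∨ k = u := by
  refine ⟨fun hk => ?_, ?_⟩
  · by_contra hno
    push Not at hno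
    have h3 : ({1, u, k} : Set G).ncard = 3 :=
      Set.ncard_eq_three.2 ⟨1, u, k, Ne.symm C.ne, Ne.symm hno.1, Ne.symm hno.2, rfl⟩
    have h2 := Set.ncard_le_ncard (s := ({1, u, k} : Set G)) (t := (zpowers u : Set G))
      (by rintro a (rfl | rfl | rfl); exacts [one_mem _, mem_zpowers _, hk]) (Set.toFinite _)
    have h4 : (zpowers u : Set G).ncard = 2 := by
      rw [← Nat.card_coe_set_eq]; exact h.card_zpowers_V C.mem C.ne
    omega
  · rintro (rfl | rfl)
    exacts [one_mem _, mem_zpowers _]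

theorem TypeC.central_factor (C : TypeC x V u K) (h : Hyp x V) (h5 : ¬ 5 ∣ Nat.card G) :
    ∀ k ∈ K, ∀ d ∈ K, k * d * k⁻¹ * d⁻¹ ∈ zpowers u := by
  have h2 := h.card_zpowers_V C.mem C.ne
  have hc := C.step.cases h h5 C.top (by
    rw [inf_eq_right.2 C.le, inf_eq_left.2 (zpowers_le.2 C.mem), h2, C.four])
  rw [C.card, h2] at hc
  rcases hc.2 with e | e
  · omega
  · exact e.2.2.2

/-- The orbit of an element of `V` outside `⟨u⟩` is large. -/
theorem TypeC.orb_large (C : TypeC x V u K) (h : Hyp x V) (h5 : ¬ 5 ∣ Nat.card G) (ht : Tau x V τ) {a : G}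
    (ha : a ∈ V) (hau : a ∉ zpowers u) : 7 ≤ (orb u a).ncard := by
  by_contra hlt
  set X := centralizer ({u} : Set G) with hX
  set T := X ⊓ centralizer ({a} : Set G) with hT
  have hcard := ncard_orb u a
  have hXc : Nat.card X = 2688 := by rw [C.index, C.card]
  rw [← hX, ← hT, hXc] at hcard
  have hTX : T ≤ X := inf_le_left
  have hTn : T ≤ normalizer (K : Set G) := hTX.trans C.top.normK
  have hbig : 24 * Nat.card K < Nat.card (T ⊔ K : Subgroup G) := by
    have h1 := Nat.le_of_dvd Nat.card_pos (card_dvd_of_le (le_sup_left : T ≤ T ⊔ K))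
    have h2 : (orb u a).ncard * Nat.card T ≤ 6 * Nat.card T := Nat.mul_le_mul_right _ (by omega)
    rw [C.card]
    omega
  have hTK := C.top.eq_of_large h C.index le_sup_right (sup_le hTX C.top.leK) hbig
  have hfix : ∀ g ∈ X, g * a * g⁻¹ = a := by
    intro g hg
    have hg' : g ∈ ((T ⊔ K : Subgroup G) : Set G) := by rw [hTK]; exact hg
    rw [Subgroup.coe_mul_of_left_le_normalizer_right _ _ hTn] at hg'
    obtain ⟨t, ht', k, hk, rfl⟩ := hg'
    have hka : k * a * k⁻¹ = a := by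
      have h1 := C.central_factor h h5 k hk a (C.le ha)
      rcases (C.zpowers_iff h).1 h1 with e | e
      · exact mul_inv_eq_one.1 e
      · exfalso
        have e' : k * a * k⁻¹ = u * a := mul_inv_eq_iff_eq_mul.1 e
        have := h.eq_of_isConj ht ha (V.mul_mem C.mem ha) (isConj_iff.2 ⟨k, e'⟩)
        exact C.ne (mul_eq_right.1 this.symm)
    rw [show t * k * a * (t * k)⁻¹ = t * (k * a * k⁻¹) * t⁻¹ by group, hka,
      mem_centralizer_singleton_iff.1 ht'.2, mul_inv_cancel_right]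
  have hVn : X ≤ normalizer (V : Set G) := by
    have hVc : ∀ g ∈ X, ∀ v ∈ V, g * v * g⁻¹ = v := by
      intro g hg v hv
      have := h.V_le_of C.four C.mem C.ne ha hau (A := centralizer ({g} : Set G))
        (mem_centralizer_singleton_iff.2 (mem_centralizer_singleton_iff.1 hg).symm)
        (mem_centralizer_singleton_iff.2 (mul_inv_eq_iff_eq_mul.1 (hfix g hg)).symm)
      rw [← mem_centralizer_singleton_iff.1 (this hv), mul_inv_cancel_right]
    exact fun g hg => Cfsg.Lib.Coprime.mem_normalizer_of_conj_mem (fun v hv => by rw [hVc g hg v hv]; exact hv)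
      fun v hv => by
        have := hVc g⁻¹ (inv_mem hg) v hv
        rw [inv_inv] at this
        simpa [this] using hv
  rcases C.step.minimal V (zpowers_le.2 C.mem) C.le hVn with e | e
  · exact hau (e ▸ ha)
  · have h4 := C.four
    rw [e, C.card] at h4
    omega

theorem TypeC.orb_sub (C : TypeC x V u K) {a : G} (ha : a ∈ V) (hau : a ∉ zpowers u) :
    orb u a ⊆ (K : Set G) \ (zpowers u : Set G) := by
  rintro _ ⟨g, hg, rfl⟩
  exact ⟨((mem_set_normalizer_iff.1 (C.top.normK hg)) a).1 (C.le ha), fun hm => hau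
    (((mem_set_normalizer_iff.1 (C.step.norm₀ hg)) a).2 hm)⟩

/-- The fourteen elements of `K` outside `⟨u⟩` are two orbits of seven. -/
theorem TypeC.orbits (C : TypeC x V u K) (h : Hyp x V) (h5 : ¬ 5 ∣ Nat.card G) (ht : Tau x V τ) {a : G}
    (ha : a ∈ V) (hau : a ∉ zpowers u) :
    (orb u a).ncard = 7 ∧ orb u a ∪ orb u (u * a) = (K : Set G) \ (zpowers u : Set G) ∧
      Disjoint (orb u a) (orb u (u * a)) := by
  have ha' : u * a ∈ V := V.mul_mem C.mem ha
  have hau' : u * a ∉ zpowers u := fun hm => hau ((mul_mem_cancel_left (mem_zpowers u)).1 hm)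
  have hdis : Disjoint (orb u a) (orb u (u * a)) := Set.disjoint_left.2 fun k ⟨g, _, e⟩ ⟨g', _, e'⟩ => by
    have := h.eq_of_isConj ht ha ha' ((isConj_iff.2 ⟨g, e⟩ : IsConj a k).trans (isConj_iff.2 ⟨g', e'⟩).symm)
    exact C.ne (mul_eq_right.1 this.symm)
  have h1 := C.orb_large h h5 ht ha hau
  have h2 := C.orb_large h h5 ht ha' hau'
  have hsub := Set.union_subset (C.orb_sub ha hau) (C.orb_sub ha' hau')
  have hc : ((K : Set G) \ (zpowers u : Set G)).ncard = 14 := by
    rw [Set.ncard_sdiff (show (zpowers u : Set G) ⊆ K from zpowers_le.2 (C.le C.mem)) (Set.toFinite _),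
      ← Nat.card_coe_set_eq, ← Nat.card_coe_set_eq]
    rw [show Nat.card ((K : Set G) : Type u) = 16 from C.card,
      show Nat.card ((zpowers u : Set G) : Type u) = 2 from h.card_zpowers_V C.mem C.ne]
  have hle := Set.ncard_le_ncard hsub (Set.toFinite _)
  rw [Set.ncard_union_eq hdis (Set.toFinite _) (Set.toFinite _), hc] at hle
  refine ⟨by omega, Set.eq_of_subset_of_ncard_le hsub ?_ (Set.toFinite _), hdis⟩
  rw [hc, Set.ncard_union_eq hdis (Set.toFinite _) (Set.toFinite _)]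
  omega

theorem TypeC.conj_mem (C : TypeC x V u K) (h : Hyp x V) (h5 : ¬ 5 ∣ Nat.card G) (ht : Tau x V τ) {k : G}
    (hk : k ∈ K) (hku : k ∉ zpowers u) :
    ∃ v ∈ V, v ∉ zpowers u ∧ ∃ g ∈ centralizer ({u} : Set G), g * v * g⁻¹ = k := by
  obtain ⟨u', hu', n1, n2, n3, n4, -, -⟩ := h.exists_others C.four C.mem C.ne
  have hau : u' ∉ zpowers u := fun hm => by
    rcases (C.zpowers_iff h).1 hm with e | e
    · exact n1 e
    · exact n2 e
  have hkm : k ∈ orb u u' ∪ orb u (u * u') := by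
    rw [(C.orbits h h5 ht hu' hau).2.1]; exact ⟨hk, hku⟩
  rcases hkm with e | e
  · exact ⟨u', hu', hau, e⟩
  · exact ⟨u * u', V.mul_mem C.mem hu', fun hm => hau ((mul_mem_cancel_left (mem_zpowers u)).1 hm), e⟩

theorem TypeC.sq (C : TypeC x V u K) (h : Hyp x V) (h5 : ¬ 5 ∣ Nat.card G) (ht : Tau x V τ) {k : G} (hk : k ∈ K) :
    k * k = 1 := by
  by_cases hku : k ∈ zpowers u
  · exact h.sq k (zpowers_le.2 C.mem hku)
  obtain ⟨v, hv, -, g, -, rfl⟩ := C.conj_mem h h5 ht hk hku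
  rw [show g * v * g⁻¹ * (g * v * g⁻¹) = g * (v * v) * g⁻¹ by group, h.sq v hv]; group

theorem TypeC.comm (C : TypeC x V u K) (h : Hyp x V) (h5 : ¬ 5 ∣ Nat.card G) (ht : Tau x V τ) {a b : G}
    (ha : a ∈ K) (hb : b ∈ K) : Commute a b := by
  have e : ∀ c ∈ K, c⁻¹ = c := fun c hc => inv_eq_of_mul_eq_one_left (C.sq h h5 ht hc)
  have h1 := e _ (K.mul_mem ha hb)
  rw [mul_inv_rev, e a ha, e b hb] at h1
  exact h1.symm

theorem TypeC.K_le_cent (C : TypeC x V u K) : K ≤ centralizer ({u} : Set G) := C.top.leH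

/-- No conjugate in the centraliser of an element of `K` is its product with `u`. -/
theorem TypeC.conj_ne (C : TypeC x V u K) (h : Hyp x V) (h5 : ¬ 5 ∣ Nat.card G) (ht : Tau x V τ) {k : G}
    (hk : k ∈ K) (g : G) (hg : g ∈ centralizer ({u} : Set G)) : g * k * g⁻¹ ≠ k * u := by
  intro e
  by_cases hku : k ∈ zpowers u
  · have hc : g * k * g⁻¹ = k := by
      rcases (C.zpowers_iff h).1 hku with rfl | rfl
      · group
      · exact C.conj_u hg
    exact C.ne (mul_eq_left.1 (e.symm.trans hc))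
  obtain ⟨v, hv, -, g', hg', rfl⟩ := C.conj_mem h h5 ht hk hku
  have h1 : IsConj v (v * u) := by
    refine isConj_iff.2 ⟨g'⁻¹ * g * g', ?_⟩
    calc g'⁻¹ * g * g' * v * (g'⁻¹ * g * g')⁻¹ = g'⁻¹ * (g * (g' * v * g'⁻¹) * g⁻¹) * g' := by group
      _ = v * (g'⁻¹ * u * g'⁻¹⁻¹) := by rw [e]; group
      _ = v * u := by rw [C.conj_u (inv_mem hg')]
  exact C.ne (mul_eq_left.1 (h.eq_of_isConj ht hv (V.mul_mem hv C.mem) h1).symm)

theorem TypeC.card_inf (C : TypeC x V u K) (h : Hyp x V) (h5 : ¬ 5 ∣ Nat.card G) (ht : Tau x V τ) {a : G}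
    (ha : a ∈ V) (hau : a ∉ zpowers u) :
    Nat.card (centralizer ({u} : Set G) ⊓ centralizer ({a} : Set G) : Subgroup G) = 384 := by
  have h1 := ncard_orb u a
  rw [(C.orbits h h5 ht ha hau).1, C.index, C.card] at h1
  omega

theorem normalizer_le_normalizer_centralizer_self (R : Subgroup G) :
    normalizer (R : Set G) ≤ normalizer (centralizer (R : Set G) : Set G) := fun g hg => by
  have hh : ∀ g ∈ normalizer (R : Set G), ∀ c ∈ centralizer (R : Set G), g * c * g⁻¹ ∈ centralizer (R : Set G) :=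
    fun g hg c hc => mem_centralizer_iff.2 fun r hr => by
      have hr' : g⁻¹ * r * g ∈ R := by simpa using ((mem_set_normalizer_iff.1 (inv_mem hg)) r).1 hr
      calc r * (g * c * g⁻¹) = g * ((g⁻¹ * r * g) * c) * g⁻¹ := by group
        _ = g * (c * (g⁻¹ * r * g)) * g⁻¹ := by rw [(mem_centralizer_iff.1 hc) _ hr']
        _ = g * c * g⁻¹ * r := by group
  exact Cfsg.Lib.Coprime.mem_normalizer_of_conj_mem (hh g hg) fun c hc => by simpa using hh g⁻¹ (inv_mem hg) c hc

/-- The centraliser of `K` in the centraliser of `u` is in `K`. -/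
theorem TypeC.centralizer_le (C : TypeC x V u K) (h : Hyp x V) :
    centralizer ({u} : Set G) ⊓ centralizer (K : Set G) ≤ K := by
  set X := centralizer ({u} : Set G) with hX
  refine C.top.core _ inf_le_left (Cfsg.Lib.Coprime.le_normalizer_inf le_normalizer
    (C.top.normK.trans (normalizer_le_normalizer_centralizer_self K))) fun hxC => ?_
  have hsub : K ≤ V := fun k hk => mem_V_of_fixed h C.top.three hk ((mem_centralizer_iff.1 hxC.2) k hk)
  have := Nat.le_of_dvd Nat.card_pos (card_dvd_of_le hsub)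
  rw [C.card, C.four] at this
  omega

/-- An invariant complement to `⟨u⟩` in `K`. -/
theorem TypeC.exists_delta (C : TypeC x V u K) (h : Hyp x V) (h5 : ¬ 5 ∣ Nat.card G) (ht : Tau x V τ) :
    ∃ (δ : G) (M : Subgroup G), δ ∈ V ∧ δ ∉ zpowers u ∧ δ ∈ M ∧ M ≤ K ∧ Nat.card M = 8 ∧
      centralizer ({u} : Set G) ≤ normalizer (M : Set G) ∧ u ∉ M ∧ ∀ m ∈ M, m ≠ 1 → IsConj δ m := by
  classical
  set X := centralizer ({u} : Set G) with hX
  haveI : Fact (Nat.Prime 7) := ⟨by norm_num⟩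
  obtain ⟨P, hPL, hPp, -, hPK⟩ := C.top.exists_odd h
  rw [show topPrime K (centralizer ({u} : Set G)) = 7 from if_pos C.index] at hPp
  obtain ⟨b, hbP, hbK⟩ := SetLike.not_le_iff_exists.1 hPK
  have hbX : b ∈ X := hPL hbP
  obtain ⟨nP, hnP⟩ := IsPGroup.iff_card.1 hPp
  have hdis : K ⊓ P = ⊥ := inf_eq_bot_of_coprime (by
    rw [C.card, hnP, show (16 : ℕ) = 2 ^ 4 by norm_num]
    exact Nat.Coprime.pow _ _ (by norm_num))
  have hP7 : nP ≤ 1 := by
    by_contra h2
    have h1 := Cfsg.Lib.Coprime.card_sup_mul_card_inf (hPL.trans C.top.normK)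
    rw [hdis, card_bot, mul_one, C.card, hnP] at h1
    have h3 : Nat.card (K ⊔ P : Subgroup G) ∣ Nat.card X := card_dvd_of_le (sup_le C.top.leK hPL)
    rw [C.index, C.card, h1] at h3
    have := ((pow_dvd_pow 7 (not_le.1 h2)).mul_left 16).trans h3
    norm_num at this
  have hb7 : b ^ 7 = 1 := by
    have h1 := Subgroup.orderOf_dvd_natCard P hbP
    rw [hnP] at h1
    exact orderOf_dvd_iff_pow_eq_one.1 (h1.trans ((pow_dvd_pow 7 hP7).trans (by norm_num)))
  have hbn := mem_set_normalizer_iff.1 (C.top.normK hbX)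
  let φ : K →* K :=
    { toFun := fun k => ⟨b * k * b⁻¹ * (k : G)⁻¹, K.mul_mem ((hbn k).1 k.2) (K.inv_mem k.2)⟩
      map_one' := Subtype.ext (by simp)
      map_mul' := fun k k' => Subtype.ext (by
        show b * ((k : G) * k') * b⁻¹ * ((k : G) * k')⁻¹ = b * k * b⁻¹ * (k : G)⁻¹ * (b * k' * b⁻¹ * (k' : G)⁻¹)
        have hc : Commute (k : G)⁻¹ (b * k' * b⁻¹ * (k' : G)⁻¹) :=
          C.comm h h5 ht (K.inv_mem k.2) (K.mul_mem ((hbn k').1 k'.2) (K.inv_mem k'.2))
        rw [mul_assoc (b * (k : G) * b⁻¹), hc.eq]; group) }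
  have hmemker : ∀ k : K, k ∈ φ.ker ↔ b * (k : G) * b⁻¹ = k := fun k => by
    rw [MonoidHom.mem_ker]
    exact ⟨fun e => mul_inv_eq_one.1 (congrArg Subtype.val e), fun e => Subtype.ext (by
      show b * (k : G) * b⁻¹ * (k : G)⁻¹ = 1
      rw [e, mul_inv_cancel])⟩
  have hker : {m ∈ (K : Set G) | b * m * b⁻¹ = m}.ncard = Nat.card φ.ker := by
    rw [← Nat.card_coe_set_eq]
    exact Nat.card_congr
      { toFun := fun m => ⟨⟨m.1, m.2.1⟩, (hmemker _).2 m.2.2⟩
        invFun := fun m => ⟨m.1.1, m.1.2, (hmemker _).1 m.2⟩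
        left_inv := fun _ => rfl
        right_inv := fun _ => rfl }
  have hmod := ncard_fixed_conj hb7 (Set.toFinite (K : Set G)) (fun m hm => (hbn m).1 hm)
  rw [hker, ← Nat.card_coe_set_eq, show Nat.card ((K : Set G) : Type u) = 16 from C.card] at hmod
  have hk2 : Nat.card φ.ker = 2 := by
    have hd : Nat.card φ.ker ∣ 16 := C.card ▸ card_subgroup_dvd_card _
    have hne : Nat.card φ.ker ≠ 16 := fun e => hbK (C.centralizer_le h ⟨hbX, mem_centralizer_iff.2 fun k hk => by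
      have htop : φ.ker = ⊤ := Subgroup.eq_top_of_card_eq _ (e.trans C.card.symm)
      have := (hmemker ⟨k, hk⟩).1 (htop ▸ mem_top _)
      exact (mul_inv_eq_iff_eq_mul.1 this).symm⟩)
    have hle := Nat.le_of_dvd (by norm_num) hd
    generalize Nat.card φ.ker = n at hd hne hle hmod
    interval_cases n <;> omega
  set M := φ.range.map K.subtype with hM
  have hMK : M ≤ K := map_subtype_le _
  have hMc : Nat.card M = 8 := by
    rw [hM, card_map_of_injective K.subtype_injective, ← Subgroup.index_ker]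
    have := φ.ker.card_mul_index
    rw [hk2, C.card] at this
    omega
  have huK : u ∈ K := C.le C.mem
  have hbu : b * u * b⁻¹ = u := C.conj_u hbX
  have huM : u ∉ M := by
    rintro ⟨_, ⟨⟨k, hk⟩, rfl⟩, e⟩
    have e1 : b * k * b⁻¹ = u * k := mul_inv_eq_iff_eq_mul.1 e
    have e2 : ∀ n : ℕ, b ^ n * k * (b ^ n)⁻¹ = u ^ n * k := fun n => by
      induction n with
      | zero => simp
      | succ n ih =>
        have hbc : Commute b (u ^ n) := (show Commute b u from mul_inv_eq_iff_eq_mul.1 hbu).pow_right n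
        calc b ^ (n + 1) * k * (b ^ (n + 1))⁻¹ = b * (b ^ n * k * (b ^ n)⁻¹) * b⁻¹ := by rw [pow_succ']; group
          _ = b * u ^ n * k * b⁻¹ := by rw [ih]; group
          _ = u ^ n * (b * k * b⁻¹) := by rw [hbc.eq]; group
          _ = u ^ (n + 1) * k := by rw [e1, pow_succ]; group
    have e7 := e2 7
    rw [hb7, one_mul, inv_one, mul_one, pow_succ, pow_mul u 2 3, pow_two, h.sq u C.mem, one_pow, one_mul] at e7
    exact C.ne (mul_eq_right.1 e7.symm)
  have hMb : ∀ m ∈ M, b * m * b⁻¹ ∈ M := by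
    rintro _ ⟨_, ⟨⟨k, hk⟩, rfl⟩, rfl⟩
    refine ⟨_, ⟨⟨b * k * b⁻¹, (hbn k).1 hk⟩, rfl⟩, ?_⟩
    show b * (b * k * b⁻¹) * b⁻¹ * (b * k * b⁻¹)⁻¹ = b * (b * k * b⁻¹ * k⁻¹) * b⁻¹
    group
  obtain ⟨u', hu', n1, n2, -, -, -, -⟩ := h.exists_others C.four C.mem C.ne
  have hau : u' ∉ zpowers u := fun hm => by
    rcases (C.zpowers_iff h).1 hm with e | e
    · exact n1 e
    · exact n2 e
  obtain ⟨hc7, hU, hdis'⟩ := C.orbits h h5 ht hu' hau
  have hau' : u * u' ∉ zpowers u := fun hm => hau ((mul_mem_cancel_left (mem_zpowers u)).1 hm)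
  have hc7' := (C.orbits h h5 ht (V.mul_mem C.mem hu') hau').1
  have horb : ∀ a : G, ∀ m ∈ orb u a, b * m * b⁻¹ ∈ orb u a := by
    rintro a _ ⟨g, hg, rfl⟩
    exact ⟨b * g, X.mul_mem hbX hg, by group⟩
  have hS : ∀ a : G, a ∈ V → a ∉ zpowers u → ((M : Set G) ∩ orb u a).ncard % 7 = 0 := fun a ha hau => by
    rw [ncard_fixed_conj hb7 (O := (M : Set G) ∩ orb u a) (Set.toFinite _) (fun m hm => ⟨hMb m hm.1, horb a m hm.2⟩),
      show {m ∈ (M : Set G) ∩ orb u a | b * m * b⁻¹ = m} = ∅ from Set.eq_empty_iff_forall_notMem.2 fun m hm => by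
        have hmK : m ∈ K := hMK hm.1.1
        have h1 : (⟨m, hmK⟩ : K) ∈ φ.ker := (hmemker _).2 hm.2
        have h3 : φ.ker = (zpowers u).subgroupOf K := by
          refine (Subgroup.eq_of_le_of_card_ge (fun k hk => (hmemker k).2 ?_) ?_).symm
          · rcases (C.zpowers_iff h).1 (mem_subgroupOf.1 hk) with e | e <;> rw [e]
            · group
            · exact hbu
          · rw [hk2, Nat.card_congr (subgroupOfEquivOfLe (zpowers_le.2 huK)).toEquiv,
              h.card_zpowers_V C.mem C.ne]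
        rw [h3] at h1
        exact (C.orb_sub ha hau hm.1.2).2 (mem_subgroupOf.1 h1), Set.ncard_empty]
  have hM1 : (M : Set G) \ {1} ⊆ orb u u' ∪ orb u (u * u') := by
    rintro m ⟨hm, hm1⟩
    rw [hU]
    refine ⟨hMK hm, fun hmu => ?_⟩
    rcases (C.zpowers_iff h).1 hmu with e | e
    · exact hm1 e
    · exact huM (e ▸ hm)
  have h1no : ∀ a : G, a ∈ V → a ∉ zpowers u → (1 : G) ∉ orb u a := fun a ha hau h1 =>
    (C.orb_sub ha hau h1).2 (one_mem _)
  have hM7 : ((M : Set G) \ {1}).ncard = 7 := by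
    rw [Set.ncard_sdiff_singleton_of_mem M.one_mem, ← Nat.card_coe_set_eq]
    rw [show Nat.card ((M : Set G) : Type u) = 8 from hMc]
  -- the nontrivial elements of `M` form one orbit
  have key : ∀ a : G, a ∈ V → a ∉ zpowers u → (orb u a).ncard = 7 → ((M : Set G) ∩ orb u a).Nonempty →
      (M : Set G) \ {1} = orb u a := fun a ha hau hc hne => by
    have h1 := hS a ha hau
    have h2 := (Set.ncard_pos (Set.toFinite _)).2 hne
    have h3 : ((M : Set G) ∩ orb u a).ncard ≤ 7 := hc ▸ Set.ncard_le_ncard Set.inter_subset_right (Set.toFinite _)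
    have h4 : (M : Set G) ∩ orb u a = orb u a :=
      Set.eq_of_subset_of_ncard_le Set.inter_subset_right (by omega) (Set.toFinite _)
    refine (Set.eq_of_subset_of_ncard_le (fun m hm => ?_) (by omega) (Set.toFinite _)).symm
    exact ⟨(h4.symm ▸ hm : m ∈ (M : Set G) ∩ orb u a).1, fun e => h1no a ha hau (e ▸ hm)⟩
  obtain ⟨δ, hδV, hδu, hδM⟩ : ∃ δ ∈ V, δ ∉ zpowers u ∧ (M : Set G) \ {1} = orb u δ := by
    obtain ⟨m, hm⟩ := Set.nonempty_of_ncard_ne_zero (s := (M : Set G) \ {1}) (by omega)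
    rcases hM1 hm with e | e
    · exact ⟨u', hu', hau, key u' hu' hau hc7 ⟨m, hm.1, e⟩⟩
    · exact ⟨u * u', V.mul_mem C.mem hu', hau', key _ (V.mul_mem C.mem hu') hau' hc7' ⟨m, hm.1, e⟩⟩
  have hδ : δ ∈ (M : Set G) \ {1} := by
    rw [hδM]; exact ⟨1, X.one_mem, by group⟩
  have hMn : X ≤ normalizer (M : Set G) := by
    have hh : ∀ g ∈ X, ∀ m ∈ M, g * m * g⁻¹ ∈ M := by
      intro g hg m hm
      by_cases hm1 : m = 1
      · rw [hm1, mul_one, mul_inv_cancel]; exact M.one_mem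
      obtain ⟨g', hg', rfl⟩ : m ∈ orb u δ := hδM ▸ ⟨hm, hm1⟩
      have : g * (g' * δ * g'⁻¹) * g⁻¹ ∈ (M : Set G) \ {1} := by
        rw [hδM]; exact ⟨g * g', X.mul_mem hg hg', by group⟩
      exact this.1
    exact fun g hg => Cfsg.Lib.Coprime.mem_normalizer_of_conj_mem (hh g hg) fun m hm => by
      simpa using hh g⁻¹ (X.inv_mem hg) m hm
  refine ⟨δ, M, hδV, hδu, hδ.1, hMK, hMc, hMn, huM, fun m hm hm1 => ?_⟩
  obtain ⟨g, -, e⟩ : m ∈ orb u δ := hδM ▸ ⟨hm, hm1⟩
  exact isConj_iff.2 ⟨g, e⟩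

/-- Two cores meet in `V`. -/
theorem TypeC.inter (C : TypeC x V u K) (h : Hyp x V) (h5 : ¬ 5 ∣ Nat.card G) (ht : Tau x V τ) {u₂ : G}
    {K₂ : Subgroup G} (C₂ : TypeC x V u₂ K₂) (hne : u₂ ≠ u) : K ⊓ K₂ = V := by
  refine le_antisymm (fun k hk => ?_) (le_inf C.le C₂.le)
  by_contra hkV
  have hnu : ∀ {w : G}, w ∈ V → k * w ∉ V := fun hw e => hkV (by
    have := V.mul_mem e (V.inv_mem hw); rwa [mul_inv_cancel_right] at this)
  have hu₂u : u₂ ∉ zpowers u := fun hm => by
    rcases (C.zpowers_iff h).1 hm with e | e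
    · exact C₂.ne e
    · exact hne e
  -- each element of the intersection outside `V` is conjugate to the third element
  have key : ∀ c ∈ K ⊓ K₂, c ∉ V → IsConj (u * u₂) c := by
    intro c hc hcV
    obtain ⟨v, hv, hvu, g, -, e⟩ := C.conj_mem h h5 ht hc.1 fun hm => hcV (zpowers_le.2 C.mem hm)
    obtain ⟨v', hv', hvu', g', -, e'⟩ := C₂.conj_mem h h5 ht hc.2 fun hm => hcV (zpowers_le.2 C₂.mem hm)
    have hvv := h.eq_of_isConj ht hv hv' ((isConj_iff.2 ⟨g, e⟩ : IsConj v c).trans (isConj_iff.2 ⟨g', e'⟩).symm)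
    subst hvv
    obtain ⟨u', -, -, -, -, -, -, hall⟩ := h.exists_others C.four C.mem C.ne
    have hv1 : v ≠ 1 := fun e1 => hvu (e1 ▸ one_mem _)
    have hV : v = u * u₂ := by
      rcases hall u₂ C₂.mem with e1 | e1 | e1 | e1
      · exact absurd e1 C₂.ne
      · exact absurd e1 hne
      · rcases hall v hv with e2 | e2 | e2 | e2
        · exact absurd e2 hv1
        · exact absurd (e2 ▸ mem_zpowers u) hvu
        · exact absurd ((e2.trans e1.symm) ▸ mem_zpowers u₂) hvu'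
        · rw [e2, e1]
      · rcases hall v hv with e2 | e2 | e2 | e2
        · exact absurd e2 hv1
        · exact absurd (e2 ▸ mem_zpowers u) hvu
        · rw [e2, e1, ← mul_assoc, h.sq u C.mem, one_mul]
        · exact absurd ((e2.trans e1.symm) ▸ mem_zpowers u₂) hvu'
    exact hV ▸ isConj_iff.2 ⟨g, e⟩
  have hku : k * u ∈ K ⊓ K₂ := ⟨K.mul_mem hk.1 (C.le C.mem), K₂.mul_mem hk.2 (C₂.le C.mem)⟩
  obtain ⟨g, hg⟩ := isConj_iff.1 (key k hk hkV)
  obtain ⟨g', hg'⟩ := isConj_iff.1 (key _ hku (hnu C.mem))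
  obtain ⟨v, hv, -, g₁, hg₁, e₁⟩ := C.conj_mem h h5 ht hk.1 fun hm => hkV (zpowers_le.2 C.mem hm)
  have h1 : IsConj v (v * u) := by
    have a1 : IsConj k (k * u) := (isConj_iff.2 ⟨g, hg⟩ : IsConj (u * u₂) k).symm.trans (isConj_iff.2 ⟨g', hg'⟩)
    have a2 : IsConj v k := isConj_iff.2 ⟨g₁, e₁⟩
    have a3 : IsConj (v * u) (k * u) := isConj_iff.2 ⟨g₁, by
      calc g₁ * (v * u) * g₁⁻¹ = (g₁ * v * g₁⁻¹) * (g₁ * u * g₁⁻¹) := by group
        _ = k * u := by rw [e₁, C.conj_u hg₁]⟩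
    exact (a2.trans a1).trans a3.symm
  exact C.ne (mul_eq_left.1 (h.eq_of_isConj ht hv (V.mul_mem hv C.mem) h1).symm)

theorem TypeC.K_le_other (C : TypeC x V u K) (h : Hyp x V) (h5 : ¬ 5 ∣ Nat.card G) (ht : Tau x V τ) {a : G}
    (ha : a ∈ V) : K ≤ centralizer ({a} : Set G) := fun _ hk =>
  mem_centralizer_singleton_iff.2 (C.comm h h5 ht hk (C.le ha)).eq

/-- Not all three elements of `V` have such centralisers. -/
theorem TypeC.not_three (C : TypeC x V u K) (h : Hyp x V) (h5 : ¬ 5 ∣ Nat.card G) (ht : Tau x V τ) {u₂ u₃ : G}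
    {K₂ K₃ : Subgroup G} (C₂ : TypeC x V u₂ K₂) (C₃ : TypeC x V u₃ K₃) (h12 : u₂ ≠ u) (h13 : u₃ ≠ u)
    (h23 : u₃ ≠ u₂) : False := by
  set T := centralizer ({u} : Set G) ⊓ centralizer ({u₂} : Set G) with hT
  have hu₂u : u₂ ∉ zpowers u := fun hm => by
    rcases (C.zpowers_iff h).1 hm with e | e
    · exact C₂.ne e
    · exact h12 e
  have hTc : Nat.card T = 384 := C.card_inf h h5 ht C₂.mem hu₂u
  have hle1 : K ≤ T := le_inf C.K_le_cent (C.K_le_other h h5 ht C₂.mem)
  have hle2 : K₂ ≤ T := le_inf (C₂.K_le_other h h5 ht C.mem) C₂.K_le_cent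
  have hle3 : K₃ ≤ T := le_inf (C₃.K_le_other h h5 ht C.mem) (C₃.K_le_other h h5 ht C₂.mem)
  have hn1 : T ≤ normalizer (K : Set G) := inf_le_left.trans C.top.normK
  have hn2 : T ≤ normalizer (K₂ : Set G) := inf_le_right.trans C₂.top.normK
  have h12' := C.inter h h5 ht C₂ h12
  have h13' := C.inter h h5 ht C₃ h13
  have h64 : Nat.card (K ⊔ K₂ : Subgroup G) = 64 := by
    have h1 := Cfsg.Lib.Coprime.card_sup_mul_card_inf (N := K) (H := K₂) (hle2.trans hn1)
    rw [h12', C.four, C.card, C₂.card] at h1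
    omega
  set U := K₃ ⊔ (K₂ ⊔ K) with hU
  have hUT : U ≤ T := sup_le hle3 (sup_le hle2 hle1)
  have hU2 : IsPGroup 2 U := IsPGroup.to_sup_of_normal_right' C₃.two
    (IsPGroup.to_sup_of_normal_right' C₂.two C.two (hle2.trans hn1))
    (hle3.trans (Cfsg.Lib.Coprime.le_normalizer_sup hn2 hn1))
  have hUI : Inv x U := Cfsg.Lib.SelfCentThree.Inv.sup
    (SelfCentThree.inv_of_mem_normalizer C₃.top.mem_normK)
    (Cfsg.Lib.SelfCentThree.Inv.sup (SelfCentThree.inv_of_mem_normalizer C₂.top.mem_normK)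
      (SelfCentThree.inv_of_mem_normalizer C.top.mem_normK))
  have hU64 : K₂ ⊔ K = U := by
    refine Subgroup.eq_of_le_of_card_ge le_sup_right ?_
    obtain ⟨j, hj⟩ := card_two_pow_four h hU2 hUI
    rw [inf_eq_right.2 (C.le.trans (le_sup_right.trans le_sup_right)), C.four] at hj
    have hd : Nat.card U ∣ 384 := hTc ▸ card_dvd_of_le hUT
    have hge : 64 ≤ Nat.card U := by
      rw [← h64, sup_comm K K₂]; exact Nat.le_of_dvd Nat.card_pos (card_dvd_of_le le_sup_right)
    rw [sup_comm K₂ K, h64]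
    rw [hj] at hd hge ⊢
    have hj3 : j ≤ 3 := by
      by_contra hj3
      have := (Nat.mul_dvd_mul_left 4 (pow_dvd_pow 4 (not_le.1 hj3))).trans hd
      norm_num at this
    interval_cases j <;> omega
  have hK3 : K₃ ≤ K := fun k3 hk3 => by
    refine C.centralizer_le h ⟨C₃.K_le_other h h5 ht C.mem hk3, mem_centralizer_iff.2 fun k hk => ?_⟩
    have hk3' : k3 ∈ ((K₂ ⊔ K : Subgroup G) : Set G) := by rw [hU64]; exact mem_sup_left hk3
    rw [Subgroup.coe_mul_of_left_le_normalizer_right _ _ (hle2.trans hn1)] at hk3'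
    obtain ⟨b, hb, a, ha, rfl⟩ := hk3'
    have hconj : b * a * k * (b * a)⁻¹ = b * k * b⁻¹ := by
      rw [show b * a * k * (b * a)⁻¹ = b * (a * k * a⁻¹) * b⁻¹ by group, (C.comm h h5 ht ha hk).eq,
        mul_inv_cancel_right]
    set d := b * k * b⁻¹ * k⁻¹ with hd
    have hdV : d ∈ V := by
      rw [← h12']
      refine ⟨K.mul_mem (((mem_set_normalizer_iff.1 (hn1 (hle2 hb))) k).1 hk) (K.inv_mem hk), ?_⟩
      rw [hd, show b * k * b⁻¹ * k⁻¹ = b * (k * b⁻¹ * k⁻¹) by group]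
      exact K₂.mul_mem hb (((mem_set_normalizer_iff.1 (hn2 (hle1 hk))) _).1 (K₂.inv_mem hb))
    have hba : b * a ∈ K₃ := hk3
    have hdV3 : d ∈ K ⊓ K₃ := h13'.symm ▸ hdV
    have hd1 : d ≠ u := fun e => C.conj_ne h h5 ht hk b (hle2 hb).1 (by
      rw [← (C.comm h h5 ht (C.le C.mem) hk).eq, ← e, hd]; group)
    have hd2 : d ≠ u₂ := fun e => C₂.conj_ne h h5 ht (K₂.inv_mem hb) k (hle1 hk).2 (by
      rw [← e, hd]; group)
    have hd3 : d ≠ u₃ := fun e => C₃.conj_ne h h5 ht (K₃.inv_mem hba) k (C.K_le_other h h5 ht C₃.mem hk) (by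
      rw [← e, hd, ← hconj]; group)
    have hd0 : d = 1 := by
      by_contra h1
      obtain ⟨u', -, -, -, -, -, -, hall⟩ := h.exists_others C.four C.mem C.ne
      rcases hall d hdV with e | e | e | e <;> rcases hall u₂ C₂.mem with e' | e' | e' | e' <;>
        rcases hall u₃ C₃.mem with e'' | e'' | e'' | e'' <;>
        first | exact h1 e | exact hd1 e | exact C₂.ne e' | exact h12 e' | exact C₃.ne e'' | exact h13 e''
              | exact h23 (e''.trans e'.symm) | exact hd2 (e.trans e'.symm) | exact hd3 (e.trans e''.symm)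
    rw [hd, ← hconj] at hd0
    show k * (b * a) = b * a * k
    exact (mul_inv_eq_iff_eq_mul.1 (mul_inv_eq_one.1 hd0)).symm
  have h1 := inf_eq_right.2 hK3
  rw [h13'] at h1
  have := C₃.card
  rw [← h1, C.four] at this
  omega

end Cfsg.Lib.ThreeFour
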