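import Cfsg.Agent.ThreeFour.Local.Classes
import Cfsg.Agent.ThreeFour.Local.TypeC

/-!
A solvable centraliser next to a centraliser of order 2688.
-/

set_option autoImplicit false
set_option linter.unusedSectionVars false
set_option linter.style.haveILetI false

namespace Cfsg.Lib.ThreeFour

open Subgroup
open Cfsg.Lib.SelfCentThree (Inv P3)
open scoped IsMulCommutative

universe u

variable {G : Type u} [Group G] [Finite G] {x τ : G} {V K R : Subgroup G} {u : G}

/-- An involution without fixed points on a subgroup it normalises inverts that subgroup. -/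
theorem inverts_of_inf_bot {σ : G} (hσ : σ * σ = 1) (hσn : σ ∈ normalizer (R : Set G))
    (hR : R ⊓ centralizer ({σ} : Set G) = ⊥) : ∀ r ∈ R, σ * r * σ⁻¹ = r⁻¹ := by
  have hn := mem_set_normalizer_iff.1 hσn
  let φ : R → R := fun r => ⟨σ * r * σ⁻¹, (hn r).1 r.2⟩
  let ψ : R →* R :=
    { toFun := φ
      map_one' := Subtype.ext (by simp [φ])
      map_mul' := fun a b => Subtype.ext (by show σ * ((a : G) * b) * σ⁻¹ = σ * a * σ⁻¹ * (σ * b * σ⁻¹); group) }
  have hf : MonoidHom.FixedPointFree ψ := fun a ha => by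
    have e : σ * (a : G) * σ⁻¹ = a := congrArg Subtype.val ha
    have hm : (a : G) ∈ R ⊓ centralizer ({σ} : Set G) :=
      ⟨a.2, mem_centralizer_singleton_iff.2 (mul_inv_eq_iff_eq_mul.1 e).symm⟩
    rw [hR, mem_bot] at hm
    exact Subtype.ext hm
  have h2 : Function.Involutive ψ := fun a => Subtype.ext (by
    show σ * (σ * (a : G) * σ⁻¹) * σ⁻¹ = a
    rw [show σ * (σ * (a : G) * σ⁻¹) * σ⁻¹ = (σ * σ) * a * (σ * σ)⁻¹ by group, hσ]; simp)
  intro r hr
  exact congrArg Subtype.val (congrFun (hf.coe_eq_inv_of_involutive h2) ⟨r, hr⟩)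

theorem isMulCommutative_of_inverted {σ : G} (hi : ∀ r ∈ R, σ * r * σ⁻¹ = r⁻¹) : IsMulCommutative R :=
  ⟨⟨fun a b => Subtype.ext (inv_injective (by
    show ((a : G) * b)⁻¹ = ((b : G) * a)⁻¹
    calc ((a : G) * b)⁻¹ = σ * (a * b) * σ⁻¹ := (hi _ (R.mul_mem a.2 b.2)).symm
      _ = (σ * a * σ⁻¹) * (σ * b * σ⁻¹) := by group
      _ = ((b : G) * a)⁻¹ := by rw [hi _ a.2, hi _ b.2, mul_inv_rev]))⟩⟩

/-- Orbit bound. -/
theorem card_le_mul_inf_centralizer {A : Subgroup G} {a : G} {O : Set G}
    (hO : ∀ g ∈ A, g * a * g⁻¹ ∈ O) :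
    Nat.card A ≤ O.ncard * Nat.card (A ⊓ centralizer ({a} : Set G) : Subgroup G) := by
  letI : MulAction A G := MulAction.compHom G ((MulAut.conj : G →* MulAut G).comp A.subtype)
  have hst : MulAction.stabilizer A a = (A ⊓ centralizer ({a} : Set G)).subgroupOf A := by
    ext g
    rw [MulAction.mem_stabilizer_iff, mem_subgroupOf]
    show (g : G) * a * (g : G)⁻¹ = a ↔ (g : G) ∈ A ⊓ centralizer ({a} : Set G)
    rw [mul_inv_eq_iff_eq_mul]
    exact ⟨fun e => ⟨g.2, mem_centralizer_singleton_iff.2 e⟩, fun e => mem_centralizer_singleton_iff.1 e.2⟩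
  have horb : (MulAction.orbit A a).ncard ≤ O.ncard :=
    Set.ncard_le_ncard (by rintro _ ⟨g, rfl⟩; exact hO g g.2) (Set.toFinite _)
  rw [← Nat.card_congr (subgroupOfEquivOfLe (inf_le_left : A ⊓ centralizer ({a} : Set G) ≤ A)).toEquiv, ← hst]
  calc Nat.card A = (MulAction.stabilizer A a).index * Nat.card (MulAction.stabilizer A a) := (index_mul_card _).symm
    _ ≤ _ := Nat.mul_le_mul_right _ ((MulAction.index_stabilizer A a).trans_le horb)

/-- Next to a centraliser of order 2688 a solvable centraliser has a two-group as core. -/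
theorem TypeC.solvU (C : TypeC x V u K) (h : Hyp x V) (h5 : ¬ 5 ∣ Nat.card G) (ht : Tau x V τ) {u' : G}
    (hu' : u' ∈ V) (n1 : u' ≠ 1) (n2 : u' ≠ u) (hsol : Group.IsSolvable (centralizer ({u'} : Set G))) :
    SolvU 4 (cen u') := by
  classical
  haveI : Fact (Nat.Prime 2) := ⟨Nat.prime_two⟩
  set X := centralizer ({u} : Set G) with hX
  set Y := centralizer ({u'} : Set G) with hY
  haveI := hsol
  have hxY : x ∈ Y := mem_centralizer_singleton_iff.2 (h.comm u' hu').symm.eq
  have hVY : V ≤ Y := fun v hv => mem_centralizer_singleton_iff.2 (h.comm_V hv hu').eq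
  have hτY : τ ∈ Y := mem_centralizer_singleton_iff.2 (ht.fix u' hu').eq
  have hxX : x ∈ X := mem_centralizer_singleton_iff.2 (h.comm u C.mem).symm.eq
  have hτX : τ ∈ X := mem_centralizer_singleton_iff.2 (ht.fix u C.mem).eq
  obtain ⟨K', hK'Y, hK'3, hYn, hidx, hmax⟩ := exists_solvable_core h hxY
  have hK'I : Inv x K' := SelfCentThree.inv_of_mem_normalizer (hYn hxY)
  have hV3 : P3 V := by rw [P3, C.four]; norm_num
  have hVK' : V ≤ K' := hmax V hVY (fun v hv => by rw [(h.comm v hv).symm.eq, mul_inv_cancel_right]; exact hv) hV3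
  have hau : u' ∉ zpowers u := fun hm => by
    rcases (C.zpowers_iff h).1 hm with e | e
    · exact n1 e
    · exact n2 e
  obtain ⟨δ, M, hδV, hδu, hδM, hMK, hMc, hMn, huM, hMδ⟩ := C.exists_delta h h5 ht
  have hKY : K ≤ Y := C.K_le_other h h5 ht hu'
  have hT : Nat.card (X ⊓ Y : Subgroup G) = 384 := C.card_inf h h5 ht hu' hau
  have hxM : ¬ (M : Set G) ⊆ V := fun hsub => huM (by
    have h4 := C.four
    have := Nat.le_of_dvd Nat.card_pos (card_dvd_of_le (show M ≤ V from hsub))
    omega)
  have hodd : ∀ R ≤ K', normalizer (K' : Set G) ≤ normalizer (R : Set G) → Odd (Nat.card R) → R = ⊥ := by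
    intro R hRK hRn hR2
    by_contra hR1
    have h2 : ¬ 2 ∣ Nat.card R := by rw [Nat.two_dvd_ne_zero, ← Nat.odd_iff]; exact hR2
    have hxR : x ∉ R := fun hm => hK'3 (h.ord ▸ Subgroup.orderOf_dvd_natCard K' (hRK hm))
    have hYR : Y ≤ normalizer (R : Set G) := hYn.trans hRn
    have hRI : Inv x R := SelfCentThree.inv_of_mem_normalizer (hYR hxY)
    have hRf := fpf_of_odd h hRI h2 hxR
    have hRX : R ⊓ X = ⊥ := by
      have hd : Nat.card (R ⊓ X : Subgroup G) ∣ 2 ^ 7 * 3 :=
        (card_dvd_of_le (show R ⊓ X ≤ X ⊓ Y from le_inf inf_le_right (inf_le_left.trans (hRK.trans hK'Y)))).trans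
          (hT ▸ dvd_rfl)
      have hdR : Nat.card (R ⊓ X : Subgroup G) ∣ Nat.card R := card_dvd_of_le inf_le_left
      have hc2 : (Nat.card (R ⊓ X : Subgroup G)).Coprime (2 ^ 7) :=
        (Nat.prime_two.coprime_iff_not_dvd.2 fun e => h2 (e.trans hdR)).symm.pow_right 7
      have hd3 := hc2.dvd_of_dvd_mul_left hd
      rcases (Nat.dvd_prime Nat.prime_three).1 hd3 with e | e
      · exact eq_bot_of_card_eq _ e
      · exact absurd ((e ▸ hdR).trans (card_dvd_of_le hRK)) hK'3
    have hinv := inverts_of_inf_bot (h.sq u C.mem) (hYR (hVY C.mem)) hRX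
    haveI := isMulCommutative_of_inverted hinv
    set CK := K ⊓ centralizer (R : Set G) with hCK
    have hu'C : u' ∈ CK := ⟨C.le hu', mem_centralizer_iff.2 fun r hr =>
      mem_centralizer_singleton_iff.1 (hK'Y (hRK hr))⟩
    have huC : u ∉ CK := fun hu => hR1 (eq_bot_iff.2 fun r hr => mem_bot.2 (by
      have e : r⁻¹ = r := by
        rw [← hinv r hr, ← (mem_centralizer_iff.1 hu.2) r hr, mul_inv_cancel_right]
      by_contra hr1
      exact h2 ((orderOf_eq_two (by rw [← inv_eq_iff_mul_eq_one]; exact e) hr1) ▸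
        Subgroup.orderOf_dvd_natCard R hr)))
    -- the commutators with `x`
    have hxK := mem_set_normalizer_iff.1 (C.top.normK hxX)
    let φ : K →* K :=
      { toFun := fun k => ⟨(k : G)⁻¹ * (x * k * x⁻¹), K.mul_mem (K.inv_mem k.2) ((hxK k).1 k.2)⟩
        map_one' := Subtype.ext (by simp)
        map_mul' := fun k k' => Subtype.ext (by
          show ((k : G) * k')⁻¹ * (x * ((k : G) * k') * x⁻¹) =
            (k : G)⁻¹ * (x * k * x⁻¹) * ((k' : G)⁻¹ * (x * k' * x⁻¹))
          have hc : Commute (k' : G)⁻¹ ((k : G)⁻¹ * (x * k * x⁻¹)) :=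
            C.comm h h5 ht (K.inv_mem k'.2) (K.mul_mem (K.inv_mem k.2) ((hxK k).1 k.2))
          rw [← mul_assoc ((k : G)⁻¹ * (x * k * x⁻¹)), ← hc.eq]; group) }
    set F₀ := φ.range.map K.subtype with hF₀
    have hF₀K : F₀ ≤ K := map_subtype_le _
    have hker : φ.ker = V.subgroupOf K := by
      ext k
      rw [MonoidHom.mem_ker, mem_subgroupOf]
      refine ⟨fun e => mem_V_of_fixed h C.top.three k.2 ?_, fun hk => Subtype.ext ?_⟩
      · have e' : (k : G)⁻¹ * (x * k * x⁻¹) = 1 := congrArg Subtype.val e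
        exact (mul_inv_eq_iff_eq_mul.1 (inv_mul_eq_one.1 e').symm).symm
      · show (k : G)⁻¹ * (x * k * x⁻¹) = 1
        rw [(h.comm _ hk).symm.eq, mul_inv_cancel_right, inv_mul_cancel]
    have hF₀c : Nat.card F₀ = 4 := by
      rw [hF₀, card_map_of_injective K.subtype_injective, ← Subgroup.index_ker]
      have := φ.ker.card_mul_index
      rw [hker, Nat.card_congr (subgroupOfEquivOfLe C.le).toEquiv, C.four, C.card] at this
      rw [hker]; omega
    have hF₀C : F₀ ≤ CK := by
      rintro _ ⟨_, ⟨k, rfl⟩, rfl⟩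
      set f := (k : G)⁻¹ * (x * k * x⁻¹) with hfdef
      have hfK : f ∈ K := K.mul_mem (K.inv_mem k.2) ((hxK k).1 k.2)
      refine ⟨hfK, mem_centralizer_iff.2 fun r hr => ?_⟩
      have hprod : f * (x * f * x⁻¹) * (x⁻¹ * f * x) = 1 := by
        rw [← h.conj_conj f]
        calc f * (x * f * x⁻¹) * (x * (x * f * x⁻¹) * x⁻¹) = (k : G)⁻¹ * (x * (x * (x * k * x⁻¹) * x⁻¹) * x⁻¹) := by
              simp only [hfdef]; group
          _ = 1 := by rw [h.conj_conj]; group
      have := centralizes_of_four h hRf h2 (hYR (hKY hfK))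
        (fun w _ => by rw [C.sq h h5 ht hfK]; simp) hprod hr
      exact (mul_inv_eq_iff_eq_mul.1 this).symm
    have hF₀M : F₀ ≤ M := by
      rintro _ ⟨_, ⟨k, rfl⟩, rfl⟩
      show (k : G)⁻¹ * (x * k * x⁻¹) ∈ M
      have hMx := mem_set_normalizer_iff.1 (hMn hxX)
      have hor : (k : G) ∈ M ∨ (k : G) * u ∈ M := by
        have hi : (M.subgroupOf K).index = 2 := by
          have := (M.subgroupOf K).card_mul_index
          rw [Nat.card_congr (subgroupOfEquivOfLe hMK).toEquiv, hMc, C.card] at this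
          omega
        rw [or_iff_not_imp_left]
        intro hk
        have := (Subgroup.mul_mem_iff_of_index_two hi (a := k) (b := ⟨u, C.le C.mem⟩)).2
          (iff_of_false (fun e => hk (mem_subgroupOf.1 e)) (fun e => huM (mem_subgroupOf.1 e)))
        exact mem_subgroupOf.1 this
      rcases hor with hk | hk
      · exact M.mul_mem (M.inv_mem hk) ((hMx _).1 hk)
      · have h1 := M.mul_mem (M.inv_mem hk) ((hMx _).1 hk)
        rwa [show ((k : G) * u)⁻¹ * (x * ((k : G) * u) * x⁻¹) = u⁻¹ * ((k : G)⁻¹ * (x * k * x⁻¹)) * (x * u * x⁻¹) by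
            group, (h.comm u C.mem).symm.eq, mul_inv_cancel_right,
          (C.comm h h5 ht (K.inv_mem (C.le C.mem)) (K.mul_mem (K.inv_mem k.2) ((hxK k).1 k.2))).eq, mul_assoc,
          inv_mul_cancel, mul_one] at h1
    have hMC : M ≤ CK := by
      by_contra hnot
      have hF : CK ⊓ M = F₀ := by
        refine (Subgroup.eq_of_le_of_card_ge (le_inf hF₀C hF₀M) ?_).symm
        have hd : Nat.card (CK ⊓ M : Subgroup G) ∣ 2 ^ 3 := by
          rw [show 2 ^ 3 = Nat.card M from hMc.symm]; exact card_dvd_of_le inf_le_right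
        obtain ⟨i, hi, e⟩ := (Nat.dvd_prime_pow Nat.prime_two).1 hd
        rw [hF₀c]
        rcases Nat.lt_or_ge i 3 with h3 | h3
        · rw [e]; exact (Nat.pow_le_pow_right (by norm_num) (Nat.le_of_lt_succ h3)).trans (by norm_num)
        · exfalso
          have : CK ⊓ M = M := Subgroup.eq_of_le_of_card_ge inf_le_right (by
            rw [hMc, e, show i = 3 by omega]; norm_num)
          exact hnot (this ▸ inf_le_left)
      have hFV : F₀ ⊓ V = ⊥ := by
        obtain ⟨j, hj⟩ := card_two_pow_four h (C.two.to_le hF₀K)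
          (hF ▸ (Inv.inf (fun a ha => by
            refine ⟨(hxK a).1 ha.1, mem_centralizer_iff.2 fun r hr => ?_⟩
            have hr' := inv_back h hRI hr
            calc r * (x * a * x⁻¹) = x * ((x⁻¹ * r * x) * a) * x⁻¹ := by group
              _ = x * (a * (x⁻¹ * r * x)) * x⁻¹ := by rw [(mem_centralizer_iff.1 ha.2) _ hr']
              _ = x * a * x⁻¹ * r := by group)
            (SelfCentThree.inv_of_mem_normalizer (hMn hxX))))
        have hne : Nat.card (F₀ ⊓ V : Subgroup G) ≠ 4 := fun e4 => huM (by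
          have h4 := C.four
          have hVV : F₀ ⊓ V = V := Subgroup.eq_of_le_of_card_ge inf_le_right (by omega)
          exact hF₀M (hVV.symm ▸ C.mem : u ∈ F₀ ⊓ V).1)
        refine eq_bot_of_card_eq _ ?_
        rw [hF₀c] at hj
        rcases j with _ | j
        · simp at hj; exact absurd hj.symm hne
        · rw [pow_succ, ← mul_assoc] at hj
          exact Nat.eq_one_of_mul_eq_one_right (n := 4 ^ j) (by omega)
      have hsup : F₀ ⊔ V = K := Subgroup.eq_of_le_of_card_ge (sup_le hF₀K C.le) (by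
        have hVn : V ≤ normalizer (F₀ : Set G) := fun v hv =>
          Cfsg.Lib.Coprime.mem_normalizer_of_conj_mem
            (fun a ha => by rwa [(C.comm h h5 ht (C.le hv) (hF₀K ha)).eq, mul_inv_cancel_right])
            (fun a ha => by
              rwa [mul_assoc, (C.comm h h5 ht (hF₀K ha) (C.le hv)).eq, ← mul_assoc, inv_mul_cancel, one_mul])
        have h1 := Cfsg.Lib.Coprime.card_sup_mul_card_inf hVn
        rw [hFV, card_bot, mul_one, hF₀c, C.four] at h1
        rw [h1, C.card])
      -- `X ⊓ Y` would act on the four elements with a small kernel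
      have hTF : ∀ g ∈ X ⊓ Y, ∀ a ∈ F₀, a ≠ 1 → g * a * g⁻¹ ∈ (F₀ : Set G) \ {1} := fun g hg a ha ha1 => by
        refine ⟨?_, fun e => ha1 (conj_eq_one_iff.1 e)⟩
        rw [← hF] at ha ⊢
        refine ⟨⟨((mem_set_normalizer_iff.1 (C.top.normK hg.1)) a).1 ha.1.1, ?_⟩,
          ((mem_set_normalizer_iff.1 (hMn hg.1)) a).1 ha.2⟩
        exact ((mem_set_normalizer_iff.1 (normalizer_le_normalizer_centralizer_self R (hYR hg.2))) a).1 ha.1.2
      have hF3 : ((F₀ : Set G) \ {1}).ncard = 3 := by
        rw [Set.ncard_sdiff_singleton_of_mem F₀.one_mem, ← Nat.card_coe_set_eq]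
        rw [show Nat.card ((F₀ : Set G) : Type u) = 4 from hF₀c]
      obtain ⟨a, ha, ha1⟩ := Set.nonempty_of_ncard_ne_zero (s := (F₀ : Set G) \ {1}) (by omega)
      obtain ⟨b, hb, hbA⟩ : ∃ b ∈ F₀, b ∉ zpowers a := SetLike.not_le_iff_exists.1 fun hle => by
        have := Nat.le_of_dvd Nat.card_pos (card_dvd_of_le hle)
        rw [Nat.card_zpowers, orderOf_eq_two (C.sq h h5 ht (hF₀K ha)) ha1, hF₀c] at this
        omega
      have hb1 : b ≠ 1 := fun e => hbA (e ▸ one_mem _)
      set T₁ := (X ⊓ Y) ⊓ centralizer ({a} : Set G)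
      have k1 : Nat.card (X ⊓ Y : Subgroup G) ≤ _ * Nat.card T₁ :=
        card_le_mul_inf_centralizer (A := X ⊓ Y) (a := a) (fun g hg => hTF g hg a ha ha1)
      have k2 := card_le_mul_inf_centralizer (A := T₁) (a := b) (fun g hg => hTF g hg.1 b hb hb1)
      have hle : T₁ ⊓ centralizer ({b} : Set G) ≤ K := by
        rintro g ⟨⟨hgT, hga⟩, hgb⟩
        refine C.centralizer_le h ⟨hgT.1, mem_centralizer_iff.2 fun k hk => ?_⟩
        have hgen : closure ({a, b} : Set G) = F₀ := by
          refine Subgroup.eq_of_le_of_card_ge (closure_le _ |>.2 (by rintro c (rfl | rfl); exacts [ha, hb])) ?_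
          have ha' : a ∈ closure ({a, b} : Set G) := subset_closure (Or.inl rfl)
          have hd := card_dvd_of_le (zpowers_le.2 ha')
          rw [Nat.card_zpowers, orderOf_eq_two (C.sq h h5 ht (hF₀K ha)) ha1] at hd
          by_contra hlt
          have hz : zpowers a = closure ({a, b} : Set G) := Subgroup.eq_of_le_of_card_ge (zpowers_le.2 ha') (by
            rw [Nat.card_zpowers, orderOf_eq_two (C.sq h h5 ht (hF₀K ha)) ha1]
            omega)
          exact hbA (hz.symm ▸ subset_closure (Or.inr rfl))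
        have hKc : K ≤ centralizer ({g} : Set G) := by
          rw [← hsup]
          refine sup_le ?_ (h.V_le_of C.four C.mem C.ne hu' hau ?_ ?_)
          · rw [← hgen, closure_le]
            rintro c (rfl | rfl) <;> refine mem_centralizer_singleton_iff.2 ?_
            exacts [(mem_centralizer_singleton_iff.1 hga).symm, (mem_centralizer_singleton_iff.1 hgb).symm]
          · exact mem_centralizer_singleton_iff.2 (mem_centralizer_singleton_iff.1 hgT.1).symm
          · exact mem_centralizer_singleton_iff.2 (mem_centralizer_singleton_iff.1 hgT.2).symm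
        exact mem_centralizer_singleton_iff.1 (hKc hk)
      have h3 := Nat.le_of_dvd Nat.card_pos (card_dvd_of_le hle)
      rw [C.card] at h3
      rw [hT, hF3] at k1
      rw [hF3] at k2
      omega
    -- so `u'` is the special element
    have hδe : δ = u' := by
      obtain ⟨v', hv', m1, m2, -, -, -, hall⟩ := h.exists_others C.four C.mem C.ne
      by_contra hne
      have key : u ∈ CK := by
        have hδC := hMC hδM
        have : δ = u * u' := by
          have hδ1 : δ ≠ 1 := fun e => hδu (e ▸ one_mem _)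
          rcases hall δ hδV with e | e | e | e <;> rcases hall u' hu' with e' | e' | e' | e'
          all_goals first
            | exact absurd e hδ1 | exact absurd e' n1 | exact absurd e' n2
            | exact absurd (by rw [e]; exact mem_zpowers u) hδu | exact absurd (e.trans e'.symm) hne
            | (rw [e, e', ← mul_assoc, h.sq u C.mem, one_mul])
            | (rw [e, e'])
        have h1 := CK.mul_mem hδC hu'C
        rwa [this, mul_assoc, h.sq u' hu', mul_one] at h1
      exact huC key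
    subst hδe
    set CM := centralizer (M : Set G) with hCM
    have hCMY : CM ≤ Y := fun g hg => mem_centralizer_singleton_iff.2
      ((mem_centralizer_iff.1 hg) δ hδM).symm
    have hRM : R ≤ CM := fun r hr => mem_centralizer_iff.2 fun m hm =>
      ((mem_centralizer_iff.1 (hMC hm).2) r hr).symm
    set O := (Cfsg.pPrimeCore 2 CM).map CM.subtype with hO
    haveI : (Cfsg.pPrimeCore 2 CM).Characteristic := Cfsg.Lib.Components.pPrimeCore_characteristic
    have hOC : O ≤ CM := map_subtype_le _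
    have hXO : X ≤ normalizer (O : Set G) :=
      (hMn.trans (normalizer_le_normalizer_centralizer_self M)).trans (normalizer_le_char _)
    have hRO : R ≤ O := by
      haveI : (R.subgroupOf CM).Normal := (normal_subgroupOf_iff_le_normalizer hRM).2 (hCMY.trans hYR)
      have := Cfsg.Lib.Components.le_pPrimeCore (p := 2) (N := R.subgroupOf CM) (by
        rw [Nat.card_congr (subgroupOfEquivOfLe hRM).toEquiv]
        exact Nat.coprime_two_right.2 hR2)
      rw [hO, ← map_subgroupOf_eq_of_le hRM]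
      exact map_mono this
    have hO2 : ¬ 2 ∣ Nat.card O := by
      rw [hO, card_map_of_injective CM.subtype_injective]
      exact Nat.prime_two.coprime_iff_not_dvd.1 (Cfsg.Lib.Components.coprime_card_pPrimeCore 2).symm
    have hxC : x ∉ CM := fun hx => hxM fun m hm =>
      mem_V_of_fixed h C.top.three (hMK hm) ((mem_centralizer_iff.1 hx) m hm)
    have hOI : Inv x O := SelfCentThree.inv_of_mem_normalizer (hXO hxX)
    have hOf := fpf_of_odd h hOI hO2 fun hx => hxC (hOC hx)
    have hOX : O ⊓ X = ⊥ := by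
      have hle : O ⊓ X ≤ K := C.top.core _ inf_le_right
        (Cfsg.Lib.Coprime.le_normalizer_inf hXO le_normalizer) fun hx => hxC (hOC hx.1)
      refine eq_bot_of_card_eq _ ?_
      have h16 : Nat.card (O ⊓ X : Subgroup G) ∣ 2 ^ 4 := (card_dvd_of_le hle).trans (by rw [C.card]; norm_num)
      have hcop : (Nat.card (O ⊓ X : Subgroup G)).Coprime (2 ^ 4) :=
        (Nat.prime_two.coprime_iff_not_dvd.2 fun e => hO2 (e.trans (card_dvd_of_le inf_le_left))).symm.pow_right 4
      exact hcop.eq_one_of_dvd h16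
    haveI : Group.IsSolvable O := Group.isSolvable_of_isSolvable_injective (f := inclusion (hOC.trans hCMY))
      (inclusion_injective _)
    obtain ⟨W, hWO, hW1, hWn, hWc, -⟩ := exists_minimal_abelian (R := O) (fun e => hR1 (eq_bot_iff.2 (e ▸ hRO))) hXO
    haveI := hWc
    have hW2 : ¬ 2 ∣ Nat.card W := fun e => hO2 (e.trans (card_dvd_of_le hWO))
    have hWf : Fpf x W := hOf.anti (SelfCentThree.inv_of_mem_normalizer (hWn hxX)) hWO
    have hWu := inverts_of_inf_bot (h.sq u C.mem) (hWn (C.top.leH (C.le C.mem)))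
      (eq_bot_iff.2 ((inf_le_inf_right X hWO).trans hOX.le))
    have hpm : K ≤ pmGroup W X := by
      have hu : u ∈ pmGroup W X := ⟨C.top.leH (C.le C.mem), Or.inr hWu⟩
      have hM' : M ≤ pmGroup W X := fun m hm => ⟨C.top.leH (hMK hm), Or.inl fun w hw =>
        mul_inv_eq_iff_eq_mul.2 ((mem_centralizer_iff.1 (hOC (hWO hw))) m hm)⟩
      have : M ⊔ zpowers u = K := by
        refine Subgroup.eq_of_le_of_card_ge (sup_le hMK (zpowers_le.2 (C.le C.mem))) ?_
        have hd1 := card_dvd_of_le (le_sup_left : M ≤ M ⊔ zpowers u)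
        have hd2 : Nat.card (M ⊔ zpowers u : Subgroup G) ∣ 16 :=
          C.card ▸ card_dvd_of_le (sup_le hMK (zpowers_le.2 (C.le C.mem)))
        rw [hMc] at hd1
        rw [C.card]
        by_contra hlt
        have he : M = M ⊔ zpowers u := Subgroup.eq_of_le_of_card_ge le_sup_left (by
          rw [hMc]
          obtain ⟨q, hq⟩ := hd1
          omega)
        exact huM (he.symm ▸ mem_sup_right (mem_zpowers u))
      rw [← this]
      exact sup_le hM' (zpowers_le.2 hu)
    exact C.top.no_scalar_module h C.index (inf_le_left.trans C.le) ht hτX hWf hW2 hW1 hWn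
      fun R' hR' _ _ => hR'.trans hpm
  have hK'2 := core_isPGroup_two h h5 ht hK'3 hK'I (hYn hτY) hodd
  obtain ⟨j, hj⟩ := card_two_pow_four h hK'2 hK'I
  rw [inf_eq_right.2 hVK', C.four] at hj
  refine ⟨j, ?_⟩
  rcases hidx with e | e
  · exfalso
    haveI : (K'.subgroupOf Y).Normal := (normal_subgroupOf_iff_le_normalizer hK'Y).2 hYn
    have hi : (K'.subgroupOf Y).index = 3 := by
      have := (K'.subgroupOf Y).card_mul_index
      rw [Nat.card_congr (subgroupOfEquivOfLe hK'Y).toEquiv, e] at this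
      exact Nat.eq_of_mul_eq_mul_left Nat.card_pos (by rw [this]; ring)
    have h3 := Subgroup.pow_index_mem (K'.subgroupOf Y) (⟨τ, hτY⟩ : Y)
    rw [hi, mem_subgroupOf] at h3
    have hτK : τ ∈ K' := by
      have : ((⟨τ, hτY⟩ : Y) ^ 3 : G) = τ := by
        show τ ^ 3 = τ
        rw [pow_succ, pow_two, ht.sq, one_mul]
      exact this ▸ h3
    have h1 : x * τ * x⁻¹ * τ⁻¹ ∈ K' := K'.mul_mem (hK'I τ hτK) (K'.inv_mem hτK)
    rw [show x * τ * x⁻¹ * τ⁻¹ = x * (τ * x⁻¹ * τ⁻¹) by group, ht.conj_inv_x, h.mul_self, inv_mem_iff] at h1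
    exact hK'3 (h.ord ▸ Subgroup.orderOf_dvd_natCard K' h1)
  · show Nat.card Y = _
    rw [e, hj]

end Cfsg.Lib.ThreeFour
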